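import Cfsg.Prelude.Def_Solvable
import Mathlib.GroupTheory.Sylow
import Mathlib.GroupTheory.Nilpotent

namespace Cfsg.Agent.Perm

variable {G : Type*} [Group G]

theorem fitting_normal : (Cfsg.fittingSubgroup G).Normal :=
  Subgroup.sSup_normal _ (fun _ h => h.1)

theorem pCore_normal' (p : ℕ) : (Cfsg.pCore p G).Normal :=
  Subgroup.sSup_normal _ (fun _ h => h.1)

theorem pCore_le_sylow [Finite G] {p : ℕ} [Fact p.Prime] (P : Sylow p G) :
    Cfsg.pCore p G ≤ P := by
  refine sSup_le ?_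
  rintro N ⟨hN, hp⟩
  obtain ⟨Q, hQ⟩ := hp.exists_le_sylow
  obtain ⟨g, hg⟩ := MulAction.exists_smul_eq G Q P
  rw [← hg]
  intro n hn
  have hn' : g⁻¹ * n * g ∈ N := by simpa using hN.conj_mem n hn g⁻¹
  rw [Sylow.coe_subgroup_smul, Subgroup.mem_pointwise_smul_iff_inv_smul_mem]
  simpa [MulAut.smul_def] using hQ hn'

theorem pCore_isPGroup' [Finite G] (p : ℕ) [Fact p.Prime] : IsPGroup p (Cfsg.pCore p G) := by
  obtain ⟨P⟩ := (inferInstance : Nonempty (Sylow p G))
  exact P.isPGroup'.to_le (pCore_le_sylow P)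

theorem pCore_le_fitting [Finite G] (p : ℕ) [Fact p.Prime] :
    Cfsg.pCore p G ≤ Cfsg.fittingSubgroup G :=
  le_sSup ⟨pCore_normal' p, (pCore_isPGroup' p).isNilpotent⟩

theorem mem_pCore_of_forall_sylow [Finite G] {p : ℕ} [Fact p.Prime] {x : G}
    (h : ∀ P : Sylow p G, x ∈ (P : Subgroup G)) : x ∈ Cfsg.pCore p G := by
  obtain ⟨P⟩ := (inferInstance : Nonempty (Sylow p G))
  have hle : (P : Subgroup G).normalCore ≤ Cfsg.pCore p G :=
    le_sSup ⟨inferInstance, P.isPGroup'.to_le (Subgroup.normalCore_le _)⟩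
  apply hle
  intro g
  have := h (g⁻¹ • P)
  rw [Sylow.coe_subgroup_smul, Subgroup.mem_pointwise_smul_iff_inv_smul_mem] at this
  simpa [MulAut.smul_def] using this

/-- `F(G)` lies in the join of the `O_p(G)`. -/
theorem fitting_le_iSup_pCore [Finite G] :
    Cfsg.fittingSubgroup G ≤ ⨆ p ∈ (Nat.card G).primeFactors, Cfsg.pCore p G := by
  refine sSup_le ?_
  rintro N ⟨hN, hnil⟩
  have := hN
  intro n hn
  have htop : (⨆ p : (Nat.card N).primeFactors, ⨆ P : Sylow (p : ℕ) N, (P : Subgroup N)) = ⊤ := by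
    apply Subgroup.eq_top_of_card_eq
    refine Nat.dvd_antisymm (Subgroup.card_subgroup_dvd_card _) ?_
    rw [← Nat.factorization_le_iff_dvd Nat.card_pos.ne' Nat.card_pos.ne']
    intro p
    by_cases hp : p ∈ (Nat.card N).primeFactors
    · have hpp : Fact p.Prime := ⟨Nat.prime_of_mem_primeFactors hp⟩
      obtain ⟨P⟩ := (inferInstance : Nonempty (Sylow p N))
      have h1 : Nat.card P ∣ Nat.card (⨆ p : (Nat.card N).primeFactors,
          ⨆ P : Sylow (p : ℕ) N, (P : Subgroup N) : Subgroup N) :=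
        Subgroup.card_dvd_of_le (le_iSup_of_le ⟨p, hp⟩ (le_iSup_of_le P le_rfl))
      rw [P.card_eq_multiplicity] at h1
      exact (hpp.out.pow_dvd_iff_le_factorization Nat.card_pos.ne').1 h1
    · rw [← Nat.support_factorization, Finsupp.notMem_support_iff] at hp
      rw [hp]; exact Nat.zero_le _
  have key : ∀ m : N, (m : G) ∈ ⨆ p ∈ (Nat.card G).primeFactors, Cfsg.pCore p G := by
    intro m
    have : (⊤ : Subgroup N) ≤ (⨆ p ∈ (Nat.card G).primeFactors, Cfsg.pCore p G).comap N.subtype := by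
      rw [← htop]
      refine iSup_le fun p => iSup_le fun P => ?_
      have hpp : Fact (p : ℕ).Prime := ⟨Nat.prime_of_mem_primeFactors p.2⟩
      have hPn : (P : Subgroup N).Normal := by
        have := hnil
        infer_instance
      have := P.characteristic_of_normal hPn
      have hc : ((P : Subgroup N).map N.subtype).Normal := inferInstance
      rw [← Subgroup.map_le_iff_le_comap]
      refine le_trans (le_sSup (a := (P : Subgroup N).map N.subtype) ?_) (le_iSup₂_of_le (p : ℕ) ?_ le_rfl)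
      · exact ⟨hc, P.isPGroup'.map _⟩
      · exact Nat.primeFactors_mono (Subgroup.card_subgroup_dvd_card N) Nat.card_pos.ne' p.2
    exact this (Subgroup.mem_top m)
  exact key ⟨n, hn⟩

end Cfsg.Agent.Perm
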