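import Mathlib
import Cfsg.Agent.Lib.Solv.Misc

/-! Counting generating tuples of a finite `p`-group. -/

namespace Cfsg.Agent.Perm

open Subgroup
open scoped commutatorElement

variable {P : Type*} [Group P] [Finite P]

theorem frattini_facts {p : ℕ} [hp : Fact p.Prime] (hP : IsPGroup p P) :
    (∀ x : P, x ^ p ∈ frattini P) ∧ commutator P ≤ frattini P := by
  have hM : ∀ M : Subgroup P, IsCoatom M → (∀ x : P, x ^ p ∈ M) ∧ commutator P ≤ M := by
    intro M hM
    haveI := hP.isNilpotent
    haveI := Cfsg.Agent.Solv.coatom_normal_of_isNilpotent (G := P) inferInstance M hM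
    have hpr := Cfsg.Agent.Solv.prime_index_of_coatom_normal M hM
    obtain ⟨k, hk⟩ := IsPGroup.iff_card.1 hP
    have hidx : M.index = p := (Nat.prime_dvd_prime_iff_eq hpr hp.out).1
      (hpr.dvd_of_dvd_pow (hk ▸ Subgroup.index_dvd_card M))
    refine ⟨fun x => hidx ▸ Subgroup.pow_index_mem M x, ?_⟩
    haveI : IsCyclic (P ⧸ M) := isCyclic_of_prime_card (p := p) (by rw [← Subgroup.index_eq_card, hidx])
    refine Subgroup.commutator_le.2 fun a _ b _ => ?_
    rw [← QuotientGroup.eq_one_iff]
    show (QuotientGroup.mk' M) ⁅a, b⁆ = 1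
    rw [map_commutatorElement, commutatorElement_eq_one_iff_mul_comm]
    exact (IsCyclic.commutative (α := P ⧸ M)).is_comm.comm _ _
  constructor
  · intro x
    rw [frattini, Order.radical]
    simp only [Subgroup.mem_iInf]
    exact fun M hM' => (hM M hM').1 x
  · rw [frattini, Order.radical]
    exact le_iInf₂ fun M hM' => (hM M hM').2

/-- the subgroup generated by the Frattini subgroup and the entries of a tuple -/
def tupleSpan {j : ℕ} (f : Fin j → P) : Subgroup P := frattini P ⊔ Subgroup.closure (Set.range f)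

theorem tupleSpan_snoc {j : ℕ} (f : Fin j → P) (x : P) :
    tupleSpan (Fin.snoc (α := fun _ => P) f x) = tupleSpan f ⊔ Subgroup.zpowers x := by
  rw [tupleSpan, tupleSpan, sup_assoc, Subgroup.zpowers_eq_closure, ← Subgroup.closure_union]
  congr 2
  ext y
  simp [Fin.exists_fin_succ', or_comm, eq_comm]

/-- every entry lies outside the span of the earlier ones -/
def GoodTuple : {j : ℕ} → (Fin j → P) → Prop
  | 0, _ => True
  | j + 1, f => GoodTuple (fun i : Fin j => f i.castSucc) ∧ f (Fin.last j) ∉ tupleSpan (fun i : Fin j => f i.castSucc)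

variable {p : ℕ} [Fact p.Prime] (hP : IsPGroup p P)

include hP in
theorem card_sup_zpowers {H : Subgroup P} (hH : frattini P ≤ H) {x : P} (hx : x ∉ H) :
    Nat.card ↥(H ⊔ zpowers x) = p * Nat.card H := by
  obtain ⟨hpow, hcom⟩ := frattini_facts hP
  haveI hn : H.Normal := ⟨fun h hh g => by
    have h1 : ⁅g, h⁆ ∈ H := hH (hcom (Subgroup.commutator_mem_commutator (Subgroup.mem_top g) (Subgroup.mem_top h)))
    have := mul_mem h1 hh
    rwa [commutatorElement_def, inv_mul_cancel_right] at this⟩
  have hrel : H.relIndex (H ⊔ zpowers x) = p := by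
    rw [sup_comm, Subgroup.relIndex_sup_right]
    set q := ((⟨x, mem_zpowers x⟩ : zpowers x) : zpowers x ⧸ H.subgroupOf (zpowers x))
    have hq : ∀ y, y ∈ Subgroup.zpowers q := by
      intro y
      induction y using QuotientGroup.induction_on with
      | _ z =>
        obtain ⟨i, hi⟩ := mem_zpowers_iff.1 z.2
        exact mem_zpowers_iff.2 ⟨i, by
          rw [show z = (⟨x, mem_zpowers x⟩ : zpowers x) ^ i from Subtype.ext (by simpa using hi.symm)]
          exact (QuotientGroup.mk_zpow _ _ _).symm⟩
    show (H.subgroupOf (zpowers x)).index = p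
    rw [Subgroup.index_eq_card, ← orderOf_eq_card_of_forall_mem_zpowers hq]
    refine orderOf_eq_prime ?_ fun e => hx (Subgroup.mem_subgroupOf.1
      ((QuotientGroup.eq_one_iff (⟨x, mem_zpowers x⟩ : zpowers x)).1 e))
    exact (QuotientGroup.mk_pow (H.subgroupOf (zpowers x)) _ p).symm.trans
      ((QuotientGroup.eq_one_iff _).2 (Subgroup.mem_subgroupOf.2 (hH (hpow x))))
  rw [← Subgroup.index_mul_card (H.subgroupOf (H ⊔ zpowers x)),
    Nat.card_congr (Subgroup.subgroupOfEquivOfLe le_sup_left).toEquiv]
  show H.relIndex _ * _ = _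
  rw [hrel]

variable {n r : ℕ} (hn : Nat.card P = p ^ n) (hr : (frattini P).index = p ^ r)

include hn hr in
theorem rank_le : r ≤ n := by
  have := Subgroup.index_dvd_card (frattini P)
  rw [hn, hr, Nat.pow_dvd_pow_iff_le_right (Fact.out : p.Prime).one_lt] at this
  exact this

include hP hn hr in
theorem card_tupleSpan : ∀ {j : ℕ} (f : Fin j → P), GoodTuple f →
    Nat.card ↥(tupleSpan f) = p ^ (n - r + j) := by
  intro j
  induction j with
  | zero =>
    intro f _
    have hf : tupleSpan f = frattini P := by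
      rw [tupleSpan, Set.range_eq_empty, Subgroup.closure_empty, sup_bot_eq]
    rw [hf, add_zero]
    have := (frattini P).card_mul_index
    rw [hn, hr] at this
    refine Nat.eq_of_mul_eq_mul_right (Nat.pow_pos (n := r) (Fact.out : p.Prime).pos) ?_
    rw [this, ← pow_add, Nat.sub_add_cancel (rank_le hn hr)]
  | succ j ih =>
    rintro f ⟨hf, hl⟩
    rw [← Fin.snoc_init_self f, tupleSpan_snoc, show (Fin.init f) = fun i : Fin j => f i.castSucc from rfl,
      card_sup_zpowers hP (H := tupleSpan fun i : Fin j => f i.castSucc) le_sup_left hl, ih _ hf, ← pow_succ']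
    congr 1

include hP hn hr in
theorem goodTuple_generates (f : Fin r → P) (hf : GoodTuple f) : Subgroup.closure (Set.range f) = ⊤ := by
  refine frattini_nongenerating ?_
  rw [sup_comm]
  exact Subgroup.eq_top_of_card_eq _ (by
    show Nat.card ↥(tupleSpan f) = _
    rw [card_tupleSpan hP hn hr f hf, hn, Nat.sub_add_cancel (rank_le hn hr)])

include hP hn hr in
theorem card_goodTuple : ∀ j : ℕ, Nat.card {f : Fin j → P // GoodTuple f} =
    ∏ i ∈ Finset.range j, (p ^ n - p ^ (n - r + i)) := by
  intro j
  induction j with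
  | zero =>
    haveI : Unique {f : Fin 0 → P // GoodTuple f} :=
      ⟨⟨⟨Fin.elim0, trivial⟩⟩, fun x => Subtype.ext (funext fun i => i.elim0)⟩
    simp
  | succ j ih =>
    classical
    haveI := Fintype.ofFinite P
    let e : {f : Fin (j + 1) → P // GoodTuple f} ≃
        Σ g : {g : Fin j → P // GoodTuple g}, {x : P // x ∉ tupleSpan g.1} :=
      { toFun := fun f => ⟨⟨fun i => f.1 i.castSucc, f.2.1⟩, ⟨f.1 (Fin.last j), f.2.2⟩⟩
        invFun := fun s => ⟨Fin.snoc (α := fun _ => P) s.1.1 s.2.1, by
          refine ⟨?_, ?_⟩ <;> simp only [Fin.snoc_castSucc, Fin.snoc_last]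
          · exact s.1.2
          · exact s.2.2⟩
        left_inv := fun f => Subtype.ext (Fin.snoc_init_self f.1)
        right_inv := fun s => by
          obtain ⟨⟨g, hg⟩, x, hx⟩ := s
          refine Sigma.subtype_ext (Subtype.ext (funext fun i => ?_)) ?_
          · exact Fin.snoc_castSucc (α := fun _ => P) _ _ i
          · exact Fin.snoc_last (α := fun _ => P) _ _ }
    rw [Nat.card_congr e, Nat.card_sigma]
    have hterm : ∀ g : {g : Fin j → P // GoodTuple g},
        Nat.card {x : P // x ∉ tupleSpan g.1} = p ^ n - p ^ (n - r + j) := fun g => by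
      rw [Nat.card_eq_fintype_card, Fintype.card_subtype_compl, ← Nat.card_eq_fintype_card,
        ← Nat.card_eq_fintype_card, hn, card_tupleSpan hP hn hr g.1 g.2]
    rw [Finset.sum_congr rfl fun g _ => hterm g, Finset.sum_const, smul_eq_mul, Finset.card_univ,
      ← Nat.card_eq_fintype_card, ih, Finset.prod_range_succ]

theorem map_tupleSpan (α : MulAut P) {j : ℕ} (f : Fin j → P) :
    (tupleSpan f).map α.toMonoidHom = tupleSpan (fun i => α (f i)) := by
  rw [tupleSpan, tupleSpan, Subgroup.map_sup, MonoidHom.map_closure, ← Set.range_comp]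
  congr 1
  exact Subgroup.characteristic_iff_map_eq.1 inferInstance α

theorem goodTuple_map (α : MulAut P) : ∀ {j : ℕ} (f : Fin j → P), GoodTuple f → GoodTuple (fun i => α (f i)) := by
  intro j
  induction j with
  | zero => intros; trivial
  | succ j ih =>
    rintro f ⟨hf, hl⟩
    refine ⟨ih _ hf, ?_⟩
    rw [← map_tupleSpan α (fun i : Fin j => f i.castSucc)]
    rintro ⟨y, hy, e⟩
    rw [← α.injective e] at hl
    exact hl hy

theorem card_dvd_of_free {A X : Type*} [Group A] [MulAction A X] [Finite X] [Finite A]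
    (hfree : ∀ (a : A) (x : X), a • x = x → a = 1) : Nat.card A ∣ Nat.card X := by
  classical
  rw [Nat.card_congr (MulAction.selfEquivSigmaOrbits A X)]
  haveI := Fintype.ofFinite (MulAction.orbitRel.Quotient A X)
  rw [Nat.card_sigma]
  refine Finset.dvd_sum fun q _ => dvd_of_eq ?_
  refine Nat.card_eq_of_bijective (fun a => ⟨a • q.out, MulAction.mem_orbit _ a⟩) ⟨fun a b h => ?_, ?_⟩
  · have h' : a • q.out = b • q.out := congrArg Subtype.val h
    refine (inv_mul_eq_one.1 (hfree (b⁻¹ * a) q.out ?_)).symm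
    rw [mul_smul, h', inv_smul_smul]
  · rintro ⟨y, a, rfl⟩; exact ⟨a, rfl⟩

end Cfsg.Agent.Perm
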