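import Cfsg.Agent.Lib.Perm.SemidirectFrobenius
import Mathlib.Algebra.Group.TypeTags.Basic
import Mathlib.Algebra.Group.Prod

/-! Fixed-point-free actions given by functions. -/

namespace Cfsg.Agent.Perm

theorem exists_frobenius_of_fpf_fun {V H : Type} [AddCommGroup V] [Finite V] [Nontrivial V] [Group H]
    [Finite H] [Nontrivial H] (f : H → V → V) (hone : ∀ v, f 1 v = v)
    (hmul : ∀ g h v, f (g * h) v = f g (f h v)) (hadd : ∀ g v w, f g (v + w) = f g v + f g w)
    (hfpf : ∀ g v, f g v = v → g = 1 ∨ v = 0) :
    ∃ (L : Type) (_ : Group L) (_ : Finite L) (K : Subgroup L),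
      Cfsg.IsFrobeniusComplement K ∧ Nonempty (H ≃* K) := by
  let φ : H →* MulAut (Multiplicative V) :=
    { toFun := fun g =>
        { toFun := fun v => Multiplicative.ofAdd (f g (Multiplicative.toAdd v))
          invFun := fun v => Multiplicative.ofAdd (f g⁻¹ (Multiplicative.toAdd v))
          left_inv := fun v => by simp [← hmul, hone]
          right_inv := fun v => by simp [← hmul, hone]
          map_mul' := fun v w => by simp [hadd] }
      map_one' := MulEquiv.ext fun v => by simp [hone]
      map_mul' := fun g h => MulEquiv.ext fun v => by simp [hmul] }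
  haveI : Finite (Multiplicative V) := Finite.of_equiv V Multiplicative.ofAdd
  refine exists_frobenius_of_fpf_action φ fun g v hv => ?_
  rcases hfpf g (Multiplicative.toAdd v) (congrArg Multiplicative.toAdd hv) with e | e
  · exact Or.inl e
  · exact Or.inr (Multiplicative.toAdd.injective (by simpa using e))

end Cfsg.Agent.Perm
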