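import Cfsg.Prelude.Def_Solvable

/-! A fixed-point-free product `N H` is a Frobenius group. -/

namespace Cfsg.Agent.Perm

open scoped Pointwise
open Subgroup

theorem isFrobeniusComplement_of_fpf {G : Type*} [Group G] [Finite G] (N H : Subgroup G)
    [N.Normal] (hsup : N ⊔ H = ⊤) (hN : N ≠ ⊥) (hH : H ≠ ⊥)
    (hfpf : ∀ h ∈ H, ∀ n ∈ N, Commute h n → h = 1 ∨ n = 1) :
    Cfsg.IsFrobeniusComplement H ∧ Cfsg.frobeniusKernel H = (N : Set G) := by
  have hd : ∀ x ∈ N, x ∈ H → x = 1 := fun x hx hx' => (hfpf x hx' x hx (Commute.refl x)).elim id id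
  have hconj : ∀ (g x : G), x ∈ MulAut.conj g • H ↔ g⁻¹ * x * g ∈ H := by
    intro g x
    rw [mem_pointwise_smul_iff_inv_smul_mem]
    simp [MulAut.smul_def, mul_assoc]
  have hdec : ∀ g : G, ∃ n ∈ N, ∃ h ∈ H, g = n * h := by
    intro g
    have : g ∈ (↑(N ⊔ H) : Set G) := by rw [hsup]; trivial
    rw [Subgroup.normal_mul] at this
    obtain ⟨n, hn, h, hh, rfl⟩ := this
    exact ⟨n, hn, h, hh, rfl⟩
  have hcomm : ∀ n ∈ N, ∀ x ∈ H, n⁻¹ * x * n ∈ H → Commute x n := by
    intro n hn x hx hc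
    have h1 : x⁻¹ * (n⁻¹ * x * n) ∈ H := mul_mem (inv_mem hx) hc
    have h2 : x⁻¹ * (n⁻¹ * x * n) ∈ N := by
      have : x⁻¹ * n⁻¹ * x ∈ N := by
        have := Normal.conj_mem (inferInstance : N.Normal) n⁻¹ (inv_mem hn) x⁻¹
        simpa using this
      have := mul_mem this hn
      simpa [mul_assoc] using this
    have h3 := hd _ h2 h1
    show x * n = n * x
    calc x * n = n * x * (x⁻¹ * (n⁻¹ * x * n)) := by group
      _ = n * x := by rw [h3, mul_one]
  refine ⟨⟨hH, ?_, ?_⟩, ?_⟩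
  · rintro rfl
    exact hN (Subgroup.eq_bot_iff_forall _ |>.2 fun x hx => hd x hx trivial)
  · intro g hg
    rw [Subgroup.eq_bot_iff_forall]
    rintro x ⟨hx, hx'⟩
    replace hx' : g⁻¹ * x * g ∈ H := (hconj g x).1 hx'
    obtain ⟨n, hn, h, hh, rfl⟩ := hdec g
    have h1 : n⁻¹ * x * n ∈ H := by
      have := mul_mem (mul_mem hh hx') (inv_mem hh)
      simpa [mul_assoc] using this
    rcases hfpf x hx n hn (hcomm n hn x hx h1) with e | e
    · exact e
    · exact absurd (by rw [e, one_mul]; exact hh) hg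
  · ext x
    constructor
    · rintro (rfl | hx)
      · exact one_mem N
      by_contra hxN
      obtain ⟨n, hn, h, hh, rfl⟩ := hdec x
      have hh1 : h ≠ 1 := fun e => hxN (by rw [e, mul_one]; exact hn)
      let f : N → N := fun m => ⟨(m : G) * (h * (m : G)⁻¹ * h⁻¹), mul_mem m.2
        (Normal.conj_mem inferInstance _ (inv_mem m.2) h)⟩
      have hf : Function.Injective f := by
        rintro ⟨a, ha⟩ ⟨b, hb⟩ hab
        have e : a * (h * a⁻¹ * h⁻¹) = b * (h * b⁻¹ * h⁻¹) := congrArg Subtype.val hab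
        have hc : Commute h (b⁻¹ * a) := by
          show h * (b⁻¹ * a) = (b⁻¹ * a) * h
          calc h * (b⁻¹ * a) = b⁻¹ * (b * (h * b⁻¹ * h⁻¹)) * h * a := by group
            _ = b⁻¹ * (a * (h * a⁻¹ * h⁻¹)) * h * a := by rw [e]
            _ = (b⁻¹ * a) * h := by group
        rcases hfpf h hh _ (mul_mem (inv_mem hb) ha) hc with e' | e'
        · exact absurd e' hh1
        · exact Subtype.ext (inv_mul_eq_one.1 e').symm
      obtain ⟨⟨m, hm⟩, hm'⟩ := Finite.surjective_of_injective hf ⟨n, hn⟩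
      have e : m * (h * m⁻¹ * h⁻¹) = n := congrArg Subtype.val hm'
      refine hx m ((hconj m _).2 ?_)
      rw [← e]
      have : m⁻¹ * (m * (h * m⁻¹ * h⁻¹) * h) * m = h := by group
      rwa [this]
    · intro hx
      rw [Cfsg.frobeniusKernel, Set.mem_ofPred_eq]
      by_cases h1 : x = 1
      · exact Or.inl h1
      refine Or.inr fun g hg => h1 ?_
      have h2 : g⁻¹ * x * g = 1 := hd _ (by
        simpa using Normal.conj_mem (inferInstance : N.Normal) x hx g⁻¹) ((hconj g x).1 hg)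
      calc x = g * (g⁻¹ * x * g) * g⁻¹ := by group
        _ = 1 := by rw [h2]; group

end Cfsg.Agent.Perm
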