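import Mathlib.GroupTheory.Sylow
import Mathlib.GroupTheory.SpecificGroups.Alternating
import Mathlib.GroupTheory.Abelianization.Defs
import Mathlib.GroupTheory.Perm.Sign
import Mathlib.NumberTheory.Padics.PadicVal.Basic

/-!
Sylow subgroups of symmetric and alternating groups are generated by elements of prime order.
-/

set_option autoImplicit false

namespace Cfsg.Agent.Perm.SylowSymmGen

open Equiv Equiv.Perm

variable {p : ℕ} [hp : Fact p.Prime]

theorem pow_mem_commutator_of_gen {G : Type*} [Group G] (R : Subgroup G)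
    (hR : R ≤ Subgroup.closure {x | x ∈ R ∧ x ^ p = 1}) (x : R) : x ^ p ∈ commutator R := by
  rw [← Abelianization.ker_of, MonoidHom.mem_ker, map_pow]
  let f : R →* Abelianization R := (powMonoidHom p).comp Abelianization.of
  show x ∈ f.ker
  have h : R ≤ f.ker.map R.subtype := hR.trans ((Subgroup.closure_le _).2 fun y hy =>
    ⟨⟨y, hy.1⟩, by
      show Abelianization.of (⟨y, hy.1⟩ : R) ^ p = 1
      rw [← map_pow, show (⟨y, hy.1⟩ : R) ^ p = 1 from Subtype.ext hy.2, map_one], rfl⟩)
  obtain ⟨y, hy, e⟩ := h x.2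
  exact Subtype.ext e ▸ hy

theorem pow_mem_commutator_of_equiv {G H : Type*} [Group G] [Group H] (e : G ≃* H)
    (h : ∀ x : G, x ^ p ∈ commutator G) (y : H) : y ^ p ∈ commutator H := by
  have h1 : (commutator G).map e.toMonoidHom ≤ commutator H := by
    rw [commutator_def, Subgroup.map_commutator, commutator_def]
    exact Subgroup.commutator_mono le_top le_top
  have h2 := h1 ⟨_, h (e.symm y), rfl⟩
  simpa using h2

section Step

variable {β γ : Type*} [Fintype β] [DecidableEq β] [Fintype γ] [DecidableEq γ]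

/-- Translations of the blocks. -/
def T : Multiplicative (β → ZMod p) →* Perm ((β × ZMod p) ⊕ γ) where
  toFun v := Perm.sumCongr (prodCongrRight fun b => Equiv.addLeft (v.toAdd b)) 1
  map_one' := by ext (⟨b, a⟩ | c) <;> simp [prodCongrRight]
  map_mul' u v := by ext (⟨b, a⟩ | c) <;> simp [prodCongrRight, add_assoc]

/-- Permutations of the blocks. -/
def L : Perm β →* Perm ((β × ZMod p) ⊕ γ) where
  toFun σ := Perm.sumCongr (prodCongrLeft fun _ => σ) 1
  map_one' := by ext (⟨b, a⟩ | c) <;> simp [prodCongrLeft]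
  map_mul' u v := by ext (⟨b, a⟩ | c) <;> simp [prodCongrLeft]

omit [Fintype β] [Fintype γ] [DecidableEq β] [DecidableEq γ] in
theorem L_mul_T (σ : Perm β) (v : Multiplicative (β → ZMod p)) :
    (L σ : Perm ((β × ZMod p) ⊕ γ)) * T v = T (Multiplicative.ofAdd fun b => v.toAdd (σ.symm b)) * L σ := by
  ext (⟨b, a⟩ | c) <;> simp [T, L, prodCongrRight, prodCongrLeft]

theorem sign_L (σ : Perm β) : sign (L (p := p) (γ := γ) σ) = sign σ ^ p := by
  show sign (Perm.sumCongr (prodCongrLeft fun _ => σ) 1) = _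
  rw [sign_sumCongr, sign_prodCongrLeft, Finset.prod_const, Finset.card_univ, ZMod.card, map_one,
    mul_one]

variable (p γ) in
/-- The wreath product with a group `S` of permutations of the blocks. -/
def wreath (S : Subgroup (Perm β)) : Subgroup (Perm ((β × ZMod p) ⊕ γ)) where
  carrier := Set.range fun q : Multiplicative (β → ZMod p) × S => T q.1 * L q.2
  one_mem' := ⟨1, by simp⟩
  mul_mem' := by
    rintro _ _ ⟨⟨u, s⟩, rfl⟩ ⟨⟨v, t⟩, rfl⟩
    refine ⟨⟨u * Multiplicative.ofAdd fun b => v.toAdd ((s : Perm β).symm b), s * t⟩, ?_⟩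
    calc _ = T u * (T (Multiplicative.ofAdd fun b => v.toAdd ((s : Perm β).symm b)) * L (s : Perm β)) * L (t : Perm β) := by
            simp only [map_mul, Subgroup.coe_mul, mul_assoc]
      _ = _ := by rw [← L_mul_T]; simp only [mul_assoc]
  inv_mem' := by
    rintro _ ⟨⟨u, s⟩, rfl⟩
    refine ⟨⟨Multiplicative.ofAdd fun b => (u⁻¹).toAdd ((s⁻¹ : S).1.symm b), s⁻¹⟩, ?_⟩
    show T _ * L _ = (T u * L (s : Perm β))⁻¹
    rw [← L_mul_T, mul_inv_rev, map_inv, Subgroup.coe_inv, map_inv]

omit [DecidableEq β] [DecidableEq γ] [Fintype γ] in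
theorem card_wreath (S : Subgroup (Perm β)) :
    Nat.card (wreath p γ S) = p ^ Fintype.card β * Nat.card S := by
  show Nat.card (Set.range fun q : Multiplicative (β → ZMod p) × S => T q.1 * L q.2) = _
  rw [Nat.card_range_of_injective, Nat.card_prod]
  · congr 1
    rw [Nat.card_congr Multiplicative.toAdd, Nat.card_fun, Nat.card_zmod, Nat.card_eq_fintype_card]
  · rintro ⟨u, s⟩ ⟨v, t⟩ h
    have hb : ∀ b a, (((s : Perm β) b, u.toAdd ((s : Perm β) b) + a) : β × ZMod p) =
        ((t : Perm β) b, v.toAdd ((t : Perm β) b) + a) := fun b a => by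
      have := congrArg (fun f => f (Sum.inl (b, a))) h
      simpa [T, L, prodCongrRight, prodCongrLeft] using this
    have hst : s = t := Subtype.ext (Equiv.ext fun b => congrArg Prod.fst (hb b 0))
    subst hst
    have huv : u = v := Multiplicative.toAdd.injective (funext fun b => by
      have := congrArg Prod.snd (hb ((s : Perm β).symm b) 0)
      simpa using this)
    rw [huv]

theorem T_pow (v : Multiplicative (β → ZMod p)) : (T v : Perm ((β × ZMod p) ⊕ γ)) ^ p = 1 := by
  rw [← map_pow, show v ^ p = 1 from Multiplicative.toAdd.injective (funext fun b => by simp), map_one]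

theorem gen_step (S : Subgroup (Perm β)) (hS : S ≤ Subgroup.closure {x | x ∈ S ∧ x ^ p = 1}) :
    wreath p γ S ≤ Subgroup.closure {x | x ∈ wreath p γ S ∧ x ^ p = 1} ∧
    wreath p γ S ⊓ alternatingGroup ((β × ZMod p) ⊕ γ) ≤
      Subgroup.closure {x | x ∈ wreath p γ S ⊓ alternatingGroup ((β × ZMod p) ⊕ γ) ∧ x ^ p = 1} := by
  have hT : ∀ v, (T v : Perm ((β × ZMod p) ⊕ γ)) ∈ wreath p γ S := fun v => ⟨(v, 1), by simp⟩
  have hL : ∀ s ∈ S, (L s : Perm ((β × ZMod p) ⊕ γ)) ∈ wreath p γ S := fun s hs =>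
    ⟨(1, ⟨s, hs⟩), by simp⟩
  have heven : ∀ x : Perm β, x ^ p = 1 → sign (L (p := p) (γ := γ) x) = 1 := by
    intro x hx
    rw [sign_L, ← map_pow, hx, map_one]
  have hLc : ∀ s ∈ S, (L s : Perm ((β × ZMod p) ⊕ γ)) ∈
      Subgroup.closure {x | x ∈ wreath p γ S ⊓ alternatingGroup ((β × ZMod p) ⊕ γ) ∧ x ^ p = 1} := by
    intro s hs
    refine (show S ≤ (Subgroup.closure _).comap L from hS.trans ((Subgroup.closure_le _).2 ?_)) hs
    rintro x ⟨hx, hxp⟩
    exact Subgroup.subset_closure ⟨⟨hL x hx, mem_alternatingGroup.2 (heven x hxp)⟩, by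
      rw [← map_pow, hxp, map_one]⟩
  constructor
  · rintro _ ⟨⟨v, s⟩, rfl⟩
    refine Subgroup.mul_mem _ (Subgroup.subset_closure ⟨hT v, T_pow v⟩)
      (Subgroup.closure_mono ?_ (hLc s s.2))
    exact fun x hx => ⟨hx.1.1, hx.2⟩
  · rintro _ ⟨⟨⟨v, s⟩, rfl⟩, hev⟩
    refine Subgroup.mul_mem _ (Subgroup.subset_closure ⟨⟨hT v, ?_⟩, T_pow v⟩) (hLc s s.2)
    have hs : sign (L (p := p) (γ := γ) (s : Perm β)) = 1 :=
      mem_alternatingGroup.1 (((Subgroup.closure_le _).2 fun x hx => hx.1.2) (hLc s s.2))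
    have h1 := mem_alternatingGroup.1 hev
    rw [map_mul, hs, mul_one] at h1
    exact mem_alternatingGroup.2 h1

end Step

theorem gen_map {X Y : Type*} [Group X] [Group Y] (e : X ≃* Y) (R : Subgroup X)
    (h : R ≤ Subgroup.closure {x | x ∈ R ∧ x ^ p = 1}) :
    R.map e.toMonoidHom ≤ Subgroup.closure {x | x ∈ R.map e.toMonoidHom ∧ x ^ p = 1} := by
  refine (Subgroup.map_mono h).trans ?_
  rw [MonoidHom.map_closure]
  refine Subgroup.closure_mono ?_
  rintro _ ⟨x, ⟨hx, hxp⟩, rfl⟩
  exact ⟨⟨x, hx, rfl⟩, by rw [← map_pow, hxp, map_one]⟩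

variable (p) in
theorem exists_gen : ∀ n : ℕ, ∃ R : Subgroup (Perm (Fin n)),
    Nat.card R = p ^ padicValNat p n.factorial ∧
    R ≤ Subgroup.closure {x | x ∈ R ∧ x ^ p = 1} ∧
    R ⊓ alternatingGroup (Fin n) ≤
      Subgroup.closure {x | x ∈ R ⊓ alternatingGroup (Fin n) ∧ x ^ p = 1} := by
  intro n
  induction n using Nat.strong_induction_on with
  | _ n ih =>
    rcases Nat.eq_zero_or_pos n with rfl | hn
    · exact ⟨⊥, by simp, bot_le, by simp⟩
    obtain ⟨S, hScard, hS, -⟩ := ih (n / p) (Nat.div_lt_self hn hp.out.one_lt)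
    have e0 : Fintype.card ((Fin (n / p) × ZMod p) ⊕ Fin (n % p)) = n := by
      rw [Fintype.card_sum, Fintype.card_prod, Fintype.card_fin, Fintype.card_fin, ZMod.card]
      exact Nat.div_add_mod' n p
    let e := Fintype.equivFinOfCardEq e0
    obtain ⟨h1, h2⟩ := gen_step (γ := Fin (n % p)) S hS
    refine ⟨(wreath p (Fin (n % p)) S).map e.permCongrHom.toMonoidHom, ?_, gen_map e.permCongrHom _ h1, ?_⟩
    · rw [Subgroup.card_map_of_injective (MulEquiv.injective _), card_wreath, hScard, Fintype.card_fin,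
        ← pow_add]
      congr 1
      conv_rhs => rw [← Nat.div_add_mod n p]
      rw [padicValNat_factorial_mul_add _ (Nat.mod_lt _ hp.out.pos), padicValNat_factorial_mul]
      omega
    · have hA : (alternatingGroup ((Fin (n / p) × ZMod p) ⊕ Fin (n % p))).map e.permCongrHom.toMonoidHom =
          alternatingGroup (Fin n) := by
        ext x
        constructor
        · rintro ⟨y, hy, rfl⟩
          exact mem_alternatingGroup.2 ((sign_permCongr e y).trans (mem_alternatingGroup.1 hy))
        · intro hx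
          refine ⟨e.symm.permCongr x, mem_alternatingGroup.2 ((sign_permCongr _ x).trans (mem_alternatingGroup.1 hx)), ?_⟩
          ext i; simp
      have h3 := gen_map e.permCongrHom _ h2
      rwa [Subgroup.map_inf _ _ _ (MulEquiv.injective _), hA] at h3

theorem symm_statement (n : ℕ) (P : Sylow p (Perm (Fin n))) (x : (P : Subgroup (Perm (Fin n)))) :
    x ^ p ∈ commutator (P : Subgroup (Perm (Fin n))) := by
  obtain ⟨R, hRc, hR, -⟩ := exists_gen p n
  let R' : Sylow p (Perm (Fin n)) := Sylow.ofCard R (by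
    rw [hRc, Nat.card_perm, Nat.card_fin, Nat.factorization_def _ hp.out])
  exact pow_mem_commutator_of_equiv (Sylow.equiv R' P) (pow_mem_commutator_of_gen R hR) x

theorem alt_statement (n : ℕ) (Q : Sylow p (alternatingGroup (Fin n)))
    (x : (Q : Subgroup (alternatingGroup (Fin n)))) :
    x ^ p ∈ commutator (Q : Subgroup (alternatingGroup (Fin n))) := by
  obtain ⟨R, hRc, -, hR⟩ := exists_gen p n
  have hconj : ∀ g : Perm (Fin n), (alternatingGroup (Fin n)).map (MulAut.conj g).toMonoidHom =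
      alternatingGroup (Fin n) := fun g => by
    refine le_antisymm ?_ fun y hy => ⟨g⁻¹ * y * g⁻¹⁻¹, (inferInstance : (alternatingGroup (Fin n)).Normal).conj_mem _ hy g⁻¹,
      show g * (g⁻¹ * y * g⁻¹⁻¹) * g⁻¹ = y by group⟩
    rintro _ ⟨y, hy, rfl⟩
    exact (inferInstance : (alternatingGroup (Fin n)).Normal).conj_mem _ hy g
  let R' : Sylow p (Perm (Fin n)) := Sylow.ofCard R (by
    rw [hRc, Nat.card_perm, Nat.card_fin, Nat.factorization_def _ hp.out])
  obtain ⟨S, hS⟩ := (Q.2.map (alternatingGroup (Fin n)).subtype).exists_le_sylow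
  obtain ⟨g, hg⟩ := MulAction.exists_smul_eq (Perm (Fin n)) R' S
  have hQ : (S : Subgroup (Perm (Fin n))).subgroupOf (alternatingGroup (Fin n)) = Q :=
    Q.3 (S.2.comap_of_injective _ (Subgroup.subtype_injective _)) (fun y hy => hS ⟨y, hy, rfl⟩)
  have hmap : (Q : Subgroup (alternatingGroup (Fin n))).map (alternatingGroup (Fin n)).subtype =
      (R ⊓ alternatingGroup (Fin n)).map (MulAut.conj g).toMonoidHom := by
    rw [← hQ, Subgroup.subgroupOf_map_subtype, Subgroup.map_inf _ _ _ (MulEquiv.injective _), hconj, ← hg]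
    rfl
  exact pow_mem_commutator_of_equiv
    (((R ⊓ alternatingGroup (Fin n)).equivMapOfInjective _ (MulEquiv.injective (MulAut.conj g))).trans
      ((MulEquiv.subgroupCongr hmap.symm).trans
        ((Q : Subgroup (alternatingGroup (Fin n))).equivMapOfInjective _ (Subgroup.subtype_injective _)).symm))
    (pow_mem_commutator_of_gen _ hR) x

end Cfsg.Agent.Perm.SylowSymmGen
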