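import Mathlib

namespace Cfsg.Agent.Lib.AbelianMaxOrder

open MulAction Equiv

/-- Largest product of a partition. -/
def g : ℕ → ℕ
  | 0 => 1
  | 1 => 1
  | 2 => 2
  | 3 => 3
  | 4 => 4
  | (n + 5) => 3 * g (n + 2)

theorem g_mul : ∀ n a m, a + m = n → a * g m ≤ g n := by
  intro n
  induction n using Nat.strong_induction_on with
  | _ n ih =>
    intro a m h
    subst h
    by_cases hm : 5 ≤ m
    · obtain ⟨m', rfl⟩ := Nat.exists_eq_add_of_le' hm
      have h1 := ih (a + (m' + 2)) (by omega) a (m' + 2) rfl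
      have e : g (a + (m' + 5)) = 3 * g (a + (m' + 2)) := by
        rw [show a + (m' + 5) = a + m' + 5 by omega, g]
        congr 2
      rw [g, e]
      calc a * (3 * g (m' + 2)) = 3 * (a * g (m' + 2)) := by ring
        _ ≤ _ := Nat.mul_le_mul_left 3 h1
    by_cases ha : 5 ≤ a
    · obtain ⟨a', rfl⟩ := Nat.exists_eq_add_of_le' ha
      have h1 := ih (a' + 2 + m) (by omega) (a' + 2) m rfl
      have e : g (a' + 5 + m) = 3 * g (a' + 2 + m) := by
        rw [show a' + 5 + m = a' + m + 5 by omega, g]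
        congr 2
        omega
      rw [e]
      calc (a' + 5) * g m ≤ (3 * (a' + 2)) * g m := Nat.mul_le_mul_right _ (by omega)
        _ = 3 * ((a' + 2) * g m) := by ring
        _ ≤ _ := Nat.mul_le_mul_left 3 h1
    interval_cases a <;> interval_cases m <;> decide

/-- Largest product for even permutations. -/
def h : ℕ → ℕ
  | 0 => 1
  | 1 => 1
  | 2 => 1
  | 3 => 3
  | 4 => 4
  | 5 => 5
  | 6 => 9
  | 7 => 12
  | 8 => 16
  | (n + 9) => 3 * h (n + 6)

theorem three_h : ∀ n, 3 ≤ n → 3 * h n ≤ h (n + 3) := by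
  intro n hn
  by_cases h6 : 6 ≤ n
  · obtain ⟨k, rfl⟩ := Nat.exists_eq_add_of_le' h6
    rw [show k + 6 + 3 = k + 9 by omega, show h (k + 9) = 3 * h (k + 6) from rfl]
  · interval_cases n <;> decide

theorem h_mul : ∀ n a m, a + m = n → 3 ≤ a → a * h m ≤ h n := by
  intro n
  induction n using Nat.strong_induction_on with
  | _ n ih =>
    intro a m h' ha3
    subst h'
    by_cases hm : 9 ≤ m
    · obtain ⟨m', rfl⟩ := Nat.exists_eq_add_of_le' hm
      have h1 := ih (a + (m' + 6)) (by omega) a (m' + 6) rfl ha3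
      rw [show h (m' + 9) = 3 * h (m' + 6) from rfl]
      calc a * (3 * h (m' + 6)) = 3 * (a * h (m' + 6)) := by ring
        _ ≤ 3 * h (a + (m' + 6)) := Nat.mul_le_mul_left 3 h1
        _ ≤ h (a + (m' + 6) + 3) := three_h _ (by omega)
        _ = _ := by congr 1
    by_cases ha : 6 ≤ a
    · obtain ⟨a', rfl⟩ := Nat.exists_eq_add_of_le' ha
      have h1 := ih (a' + 3 + m) (by omega) (a' + 3) m rfl (by omega)
      calc (a' + 6) * h m ≤ (3 * (a' + 3)) * h m := Nat.mul_le_mul_right _ (by omega)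
        _ = 3 * ((a' + 3) * h m) := by ring
        _ ≤ 3 * h (a' + 3 + m) := Nat.mul_le_mul_left 3 h1
        _ ≤ h (a' + 3 + m + 3) := three_h _ (by omega)
        _ = _ := by congr 1; omega
    interval_cases a <;> interval_cases m <;> decide

theorem two_pow_le_h : ∀ n, 3 ≤ n → 2 ^ (n / 2) ≤ h n := by
  intro n
  induction n using Nat.strong_induction_on with
  | _ n ih =>
    intro hn
    by_cases h6 : 9 ≤ n
    · obtain ⟨k, rfl⟩ := Nat.exists_eq_add_of_le' h6
      rw [show h (k + 9) = 3 * h (k + 6) from rfl]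
      by_cases hk : k % 2 = 0
      · have h1 := ih (k + 7) (by omega) (by omega)
        have h2 := ih (k + 6) (by omega) (by omega)
        calc 2 ^ ((k + 9) / 2) = 2 * 2 ^ ((k + 6) / 2) := by
              rw [← pow_succ']; congr 1; omega
          _ ≤ 3 * h (k + 6) := Nat.mul_le_mul (by norm_num) h2
      · have h3 := ih (k + 5) (by omega) (by omega)
        have h2 := ih (k + 6) (by omega) (by omega)
        by_cases hk6 : k = 0
        · omega
        have h4 : 2 ^ ((k + 9) / 2) = 4 * 2 ^ ((k + 5) / 2) := by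
          rw [show (4 : ℕ) = 2 ^ 2 by norm_num, ← pow_add]; congr 1; omega
        have h5 : 4 * h (k + 5) ≤ 3 * h (k + 6) := by
          have : ∀ j, 6 ≤ j → 4 * h j ≤ 3 * h (j + 1) := by
            intro j
            induction j using Nat.strong_induction_on with
            | _ j ihj =>
              intro hj
              by_cases h9 : 9 ≤ j
              · obtain ⟨i, rfl⟩ := Nat.exists_eq_add_of_le' h9
                have := ihj (i + 6) (by omega) (by omega)
                rw [show h (i + 9) = 3 * h (i + 6) from rfl,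
                  show h (i + 9 + 1) = 3 * h (i + 1 + 6) from by
                    rw [show i + 9 + 1 = i + 1 + 9 by omega]; rfl,
                  show i + 1 + 6 = i + 6 + 1 by omega]
                omega
              · interval_cases j <;> decide
          exact this (k + 5) (by omega)
        rw [h4]
        exact le_trans (Nat.mul_le_mul_left 4 h3) h5
    · interval_cases n <;> decide

variable {Ω : Type*} [Fintype Ω] [DecidableEq Ω]

theorem card_eq_orbit_mul (H : Subgroup (Perm Ω)) (ω : Ω) :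
    Nat.card H = Nat.card (orbit H ω) *
      Nat.card (H ⊓ stabilizer (Perm Ω) ω : Subgroup (Perm Ω)) := by
  have e : stabilizer H ω = (H ⊓ stabilizer (Perm Ω) ω).subgroupOf H := by
    ext x
    simp [mem_stabilizer_iff, Subgroup.mem_subgroupOf]
    rfl
  rw [Nat.card_coe_set_eq, ← index_stabilizer, ← Subgroup.card_mul_index (stabilizer H ω), mul_comm]
  · rw [e]
    exact congrArg _ (Nat.card_congr (Subgroup.subgroupOfEquivOfLe inf_le_left).toEquiv)

/-- Removing the orbit of a moved point. -/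
theorem step (B : Subgroup (Perm Ω)) (hB : ∀ a ∈ B, ∀ b ∈ B, a * b = b * a) (S : Finset Ω)
    (hS : ∀ b ∈ B, b.support ⊆ S) (ω : Ω) (hω : ∃ z ∈ B, z ω ≠ ω) :
    ∃ (B' : Subgroup (Perm Ω)) (S' : Finset Ω), B' < B ∧ (∀ b ∈ B', b.support ⊆ S') ∧
      Nat.card B = Nat.card (orbit B ω) * Nat.card B' ∧ Nat.card (orbit B ω) + S'.card = S.card := by
  classical
  obtain ⟨z, hz, hzω⟩ := hω
  set O : Finset Ω := (orbit B ω).toFinset with hO
  have hOS : O ⊆ S := by
    intro x hx
    rw [hO, Set.mem_toFinset] at hx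
    obtain ⟨c, rfl⟩ := hx
    refine hS _ hz (Perm.mem_support.mpr ?_)
    show z ((c : Perm Ω) ω) ≠ (c : Perm Ω) ω
    rw [← Perm.mul_apply, hB _ hz _ c.2, Perm.mul_apply]
    exact fun h => hzω ((c : Perm Ω).injective h)
  refine ⟨B ⊓ stabilizer (Perm Ω) ω, S \ O, lt_of_le_of_ne inf_le_left ?_, ?_, card_eq_orbit_mul B ω, ?_⟩
  · exact fun h => hzω ((h.symm ▸ hz : z ∈ B ⊓ stabilizer (Perm Ω) ω).2)
  · intro b hb x hx
    refine Finset.mem_sdiff.mpr ⟨hS b hb.1 hx, fun hxO => ?_⟩
    rw [hO, Set.mem_toFinset] at hxO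
    obtain ⟨c, rfl⟩ := hxO
    apply Perm.mem_support.mp hx
    show b ((c : Perm Ω) ω) = (c : Perm Ω) ω
    rw [← Perm.mul_apply, hB _ hb.1 _ c.2, Perm.mul_apply]
    exact congrArg (c : Perm Ω) hb.2
  · rw [Nat.card_eq_card_toFinset, ← hO, add_comm]
    exact Finset.card_sdiff_add_card_eq_card hOS

theorem g_mono : ∀ n, 1 ≤ g n := by
  intro n
  induction n using Nat.strong_induction_on with
  | _ n ih =>
    match n with
    | 0 | 1 | 2 | 3 | 4 => decide
    | k + 5 => rw [g]; have := ih (k + 2) (by omega); omega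

theorem h_pos : ∀ n, 1 ≤ h n := by
  intro n
  induction n using Nat.strong_induction_on with
  | _ n ih =>
    match n with
    | 0 | 1 | 2 | 3 | 4 | 5 | 6 | 7 | 8 => decide
    | k + 9 => rw [h]; have := ih (k + 6) (by omega); omega

theorem bound_sym : ∀ (B : Subgroup (Perm Ω)) (_ : ∀ a ∈ B, ∀ b ∈ B, a * b = b * a) (S : Finset Ω)
    (_ : ∀ b ∈ B, b.support ⊆ S), Nat.card B ≤ g S.card := by
  intro B
  induction B using WellFoundedLT.induction with
  | ind B ih =>
    intro hB S hS
    by_cases hne : ∃ ω, ∃ z ∈ B, z ω ≠ ω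
    · obtain ⟨ω, hω⟩ := hne
      obtain ⟨B', S', hlt, hS', hc, hs⟩ := step B hB S hS ω hω
      have h1 := ih B' hlt (fun a ha b hb => hB a (hlt.le ha) b (hlt.le hb)) S' hS'
      rw [hc]
      exact le_trans (Nat.mul_le_mul_left _ h1) (g_mul _ _ _ hs)
    · push Not at hne
      have : B = ⊥ := eq_bot_iff.mpr fun z hz => Equiv.ext fun ω => hne ω z hz
      rw [this, Subgroup.card_bot]
      exact g_mono _

theorem bound_two : ∀ (B : Subgroup (Perm Ω)) (_ : ∀ a ∈ B, ∀ b ∈ B, a * b = b * a)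
    (_ : ∀ ω : Ω, Nat.card (orbit B ω) ≤ 2) (S : Finset Ω)
    (_ : ∀ b ∈ B, b.support ⊆ S), Nat.card B ≤ 2 ^ (S.card / 2) := by
  intro B
  induction B using WellFoundedLT.induction with
  | ind B ih =>
    intro hB ho S hS
    by_cases hne : ∃ ω, ∃ z ∈ B, z ω ≠ ω
    · obtain ⟨ω, hω⟩ := hne
      obtain ⟨B', S', hlt, hS', hc, hs⟩ := step B hB S hS ω hω
      have h1 := ih B' hlt (fun a ha b hb => hB a (hlt.le ha) b (hlt.le hb)) (fun v => ?_) S' hS'
      · have h2 := ho ω
        obtain ⟨z, hz, hzω⟩ := hω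
        have h3 : 1 < Nat.card (orbit B ω) := by
          rw [Finite.one_lt_card_iff_nontrivial]
          exact ⟨⟨ω, mem_orbit_self ω⟩, ⟨_, ⟨⟨z, hz⟩, rfl⟩⟩, fun e => hzω (congrArg Subtype.val e).symm⟩
        have h4 : Nat.card (orbit B ω) = 2 := by omega
        rw [hc, h4]
        calc 2 * Nat.card B' ≤ 2 * 2 ^ (S'.card / 2) := Nat.mul_le_mul_left 2 h1
          _ = 2 ^ (S.card / 2) := by rw [← pow_succ']; congr 1; omega
      · refine le_trans ?_ (ho v)
        refine Nat.card_mono (Set.toFinite _) ?_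
        rintro x ⟨c, rfl⟩
        exact ⟨⟨c.1, hlt.le c.2⟩, rfl⟩
    · push Not at hne
      have : B = ⊥ := eq_bot_iff.mpr fun z hz => Equiv.ext fun ω => hne ω z hz
      rw [this, Subgroup.card_bot]
      exact Nat.one_le_two_pow

theorem bound_alt : ∀ (B : Subgroup (Perm Ω)) (_ : ∀ a ∈ B, ∀ b ∈ B, a * b = b * a)
    (_ : B ≤ alternatingGroup Ω) (S : Finset Ω)
    (_ : ∀ b ∈ B, b.support ⊆ S), Nat.card B ≤ h S.card := by
  intro B
  induction B using WellFoundedLT.induction with
  | ind B ih =>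
    intro hB hev S hS
    by_cases hbig : ∃ ω : Ω, 3 ≤ Nat.card (orbit B ω)
    · obtain ⟨ω, hω⟩ := hbig
      have hmov : ∃ z ∈ B, z ω ≠ ω := by
        by_contra! hfix
        have : orbit B ω ⊆ {ω} := by
          rintro x ⟨c, rfl⟩
          exact hfix c c.2
        have := le_trans hω (le_trans (Nat.card_mono (Set.toFinite _) this)
          (le_of_eq Nat.card_unique))
        omega
      obtain ⟨B', S', hlt, hS', hc, hs⟩ := step B hB S hS ω hmov
      have h1 := ih B' hlt (fun a ha b hb => hB a (hlt.le ha) b (hlt.le hb)) (hlt.le.trans hev) S' hS'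
      rw [hc]
      exact le_trans (Nat.mul_le_mul_left _ h1) (h_mul _ _ _ hs hω)
    · push Not at hbig
      rcases Nat.lt_or_ge S.card 3 with h3 | h3
      · have : B = ⊥ := by
          refine eq_bot_iff.mpr fun z hz => ?_
          rw [Subgroup.mem_bot]
          by_contra h1
          have h2 : z.support.card ≤ 2 := le_trans (Finset.card_le_card (hS z hz)) (by omega)
          have h4 := Perm.card_support_le_one.not.mpr h1
          have hsw : z.IsSwap := Perm.card_support_eq_two.mp (by omega)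
          have := Perm.mem_alternatingGroup.mp (hev hz)
          rw [hsw.sign_eq] at this
          exact absurd this (by decide)
        rw [this, Subgroup.card_bot]
        exact h_pos _
      · exact le_trans (bound_two B hB (fun ω => by have := hbig ω; omega) S hS) (two_pow_le_h _ h3)

theorem g_three (k : ℕ) : g (3 * k) = 3 ^ k := by
  induction k with
  | zero => rfl
  | succ k ih =>
    rcases k with _ | j
    · rfl
    · rw [show 3 * (j + 1 + 1) = (3 * j + 1) + 5 by ring, g, show 3 * j + 1 + 2 = 3 * (j + 1) by ring, ih]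
      ring

theorem g_three_one (k : ℕ) : g (3 * k + 4) = 4 * 3 ^ k := by
  induction k with
  | zero => rfl
  | succ k ih =>
    rw [show 3 * (k + 1) + 4 = (3 * k + 2) + 5 by ring, g, show 3 * k + 2 + 2 = 3 * k + 4 by ring, ih]
    ring

theorem g_three_two (k : ℕ) : g (3 * k + 2) = 2 * 3 ^ k := by
  induction k with
  | zero => rfl
  | succ k ih => rw [show 3 * (k + 1) + 2 = (3 * k) + 5 by ring, g, ih]; ring

theorem h_three (k : ℕ) : h (3 * k) = 3 ^ k := by
  induction k using Nat.strong_induction_on with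
  | _ k ih =>
    match k with
    | 0 | 1 | 2 => rfl
    | j + 3 =>
      rw [show 3 * (j + 3) = 3 * j + 9 by ring, h, show 3 * j + 6 = 3 * (j + 2) by ring, ih _ (by omega)]
      ring

theorem h_three_one (k : ℕ) : h (3 * k + 4) = 4 * 3 ^ k := by
  induction k using Nat.strong_induction_on with
  | _ k ih =>
    match k with
    | 0 | 1 => rfl
    | j + 2 =>
      rw [show 3 * (j + 2) + 4 = (3 * j + 1) + 9 by ring, h, show 3 * j + 1 + 6 = 3 * (j + 1) + 4 by ring,
        ih _ (by omega)]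
      ring

theorem h_three_two (k : ℕ) : h (3 * k + 8) = 16 * 3 ^ k := by
  induction k with
  | zero => rfl
  | succ j ih =>
    rw [show 3 * (j + 1) + 8 = (3 * j + 2) + 9 by ring, h, show 3 * j + 2 + 6 = 3 * j + 8 by ring, ih]
    ring

/-- The four group on four points. -/
def klein : Subgroup (Perm (Fin 4)) where
  carrier := {x | x * x = 1 ∧ Perm.sign x = 1}
  one_mem' := by decide
  mul_mem' := by
    intro a b ha hb
    revert a b
    show ∀ a b : Perm (Fin 4), (a * a = 1 ∧ Perm.sign a = 1) → (b * b = 1 ∧ Perm.sign b = 1) →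
      (a * b * (a * b) = 1 ∧ Perm.sign (a * b) = 1)
    decide +kernel
  inv_mem' := fun {a} ha => by
    rw [inv_eq_of_mul_eq_one_right ha.1]; exact ha

theorem klein_facts : (∀ a ∈ klein, ∀ b ∈ klein, a * b = b * a) ∧ Nat.card klein = 4 ∧
    (∀ a ∈ klein, ∃ b, b * b = a) := by
  refine ⟨?_, ?_, ?_⟩
  · show ∀ a : Perm (Fin 4), (a * a = 1 ∧ Perm.sign a = 1) → ∀ b : Perm (Fin 4),
      (b * b = 1 ∧ Perm.sign b = 1) → a * b = b * a
    decide
  · show Nat.card {x : Perm (Fin 4) // x * x = 1 ∧ Perm.sign x = 1} = 4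
    rw [Nat.card_eq_fintype_card]
    decide
  · show ∀ a : Perm (Fin 4), (a * a = 1 ∧ Perm.sign a = 1) → ∃ b : Perm (Fin 4), b * b = a
    decide

theorem cyc_facts : (∀ a ∈ Subgroup.zpowers (finRotate 3), ∀ b ∈ Subgroup.zpowers (finRotate 3), a * b = b * a) ∧
    Nat.card (Subgroup.zpowers (finRotate 3)) = 3 ∧
    (∀ a ∈ Subgroup.zpowers (finRotate 3), ∃ b, b * b = a) := by
  have ho : orderOf (finRotate 3) = 3 := orderOf_eq_prime (by decide) (by decide)
  refine ⟨?_, by rw [Nat.card_zpowers, ho], ?_⟩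
  · rintro a ⟨i, rfl⟩ b ⟨j, rfl⟩
    exact (Commute.zpow_zpow (Commute.refl _) i j).eq
  · rintro a ⟨i, rfl⟩
    refine ⟨finRotate 3 ^ (2 * i), ?_⟩
    show finRotate 3 ^ (2 * i) * finRotate 3 ^ (2 * i) = finRotate 3 ^ i
    have h3 : finRotate 3 ^ (3 : ℤ) = 1 := by
      have := pow_orderOf_eq_one (finRotate 3)
      rw [ho] at this
      rw [show (3 : ℤ) = ((3 : ℕ) : ℤ) by rfl, zpow_natCast, this]
    rw [← zpow_add, show 2 * i + 2 * i = 3 * i + i by ring, zpow_add, zpow_mul, h3, one_zpow, one_mul]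

/-- Blocks give an abelian group. -/
theorem exists_blocks {ι : Type} [Fintype ι] [DecidableEq ι] (c : ι → ℕ)
    (H : ∀ i, Subgroup (Perm (Fin (c i)))) (hH : ∀ i, ∀ a ∈ H i, ∀ b ∈ H i, a * b = b * a)
    {n : ℕ} (hn : ∑ i, c i = n) :
    ∃ A : Subgroup (Perm (Fin n)), IsMulCommutative A ∧ Nat.card A = ∏ i, Nat.card (H i) ∧
      ((∀ i, ∀ a ∈ H i, ∃ b, b * b = a) → A ≤ alternatingGroup (Fin n)) := by
  classical
  let e : (Σ i, Fin (c i)) ≃ Fin n := (Fintype.equivFin _).trans (finCongr (by simp [hn]))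
  let φ : (∀ i, Perm (Fin (c i))) →* Perm (Fin n) :=
    (e.permCongrHom.toMonoidHom).comp (Perm.sigmaCongrRightHom fun i => Fin (c i))
  have hφ : Function.Injective φ :=
    e.permCongrHom.injective.comp Perm.sigmaCongrRightHom_injective
  refine ⟨(Subgroup.pi Set.univ H).map φ, ⟨⟨fun a b => ?_⟩⟩, ?_, fun hsq => ?_⟩
  · obtain ⟨_, x, hx, rfl⟩ := a
    obtain ⟨_, y, hy, rfl⟩ := b
    apply Subtype.ext
    show φ x * φ y = φ y * φ x
    rw [← map_mul, ← map_mul]
    congr 1
    funext i
    exact hH i _ (hx i trivial) _ (hy i trivial)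
  · rw [Subgroup.card_map_of_injective hφ, ← Nat.card_pi]
    exact Nat.card_congr
      { toFun := fun x i => ⟨x.1 i, x.2 i trivial⟩
        invFun := fun x => ⟨fun i => (x i).1, fun i _ => (x i).2⟩
        left_inv := fun x => rfl
        right_inv := fun x => rfl }
  · rintro _ ⟨x, hx, rfl⟩
    choose r hr using fun i => hsq i (x i) (hx i trivial)
    have : x = r * r := funext fun i => (hr i).symm
    rw [Perm.mem_alternatingGroup, this, map_mul, map_mul]
    exact Int.units_mul_self _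

theorem witness (j l : ℕ) : ∃ A : Subgroup (Perm (Fin (3 * j + 4 * l))), IsMulCommutative A ∧
    Nat.card A = 3 ^ j * 4 ^ l ∧ A ≤ alternatingGroup _ := by
  let c : Fin j ⊕ Fin l → ℕ := Sum.elim (fun _ => 3) (fun _ => 4)
  let H : ∀ i, Subgroup (Perm (Fin (c i))) := fun i => match i with
    | .inl _ => Subgroup.zpowers (finRotate 3)
    | .inr _ => klein
  obtain ⟨A, h1, h2, h3⟩ := exists_blocks c H
    (fun i => match i with
      | .inl _ => cyc_facts.1
      | .inr _ => klein_facts.1) (n := 3 * j + 4 * l) (by simp [c, mul_comm])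
  refine ⟨A, h1, ?_, h3 fun i => match i with
      | .inl _ => cyc_facts.2.2
      | .inr _ => klein_facts.2.2⟩
  rw [h2, Fintype.prod_sum_type]
  show (∏ _a : Fin j, Nat.card (Subgroup.zpowers (finRotate 3))) *
    (∏ _b : Fin l, Nat.card klein) = _
  rw [cyc_facts.2.1, klein_facts.2.1]
  simp

theorem witness_two (j : ℕ) : ∃ A : Subgroup (Perm (Fin (3 * j + 2))), IsMulCommutative A ∧
    Nat.card A = 2 * 3 ^ j := by
  let c : Fin j ⊕ Fin 1 → ℕ := Sum.elim (fun _ => 3) (fun _ => 2)
  let H : ∀ i, Subgroup (Perm (Fin (c i))) := fun i => match i with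
    | .inl _ => Subgroup.zpowers (finRotate 3)
    | .inr _ => ⊤
  obtain ⟨A, h1, h2, -⟩ := exists_blocks c H
    (fun i => match i with
      | .inl _ => cyc_facts.1
      | .inr _ => fun a _ b _ => (by decide : ∀ a b : Perm (Fin 2), a * b = b * a) a b)
    (n := 3 * j + 2) (by simp [c, mul_comm])
  refine ⟨A, h1, ?_⟩
  rw [h2, Fintype.prod_sum_type]
  show (∏ _a : Fin j, Nat.card (Subgroup.zpowers (finRotate 3))) *
    (∏ _b : Fin 1, Nat.card (⊤ : Subgroup (Perm (Fin 2)))) = _
  rw [cyc_facts.2.1, Subgroup.card_top, Nat.card_eq_fintype_card, Fintype.card_perm]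
  simp [mul_comm]

theorem greatest_sym {n v : ℕ} (hv : g n = v)
    (hw : ∃ A : Subgroup (Perm (Fin n)), IsMulCommutative A ∧ Nat.card A = v) :
    IsGreatest {c : ℕ | ∃ A : Subgroup (Perm (Fin n)), IsMulCommutative A ∧ Nat.card A = c} v := by
  refine ⟨hw, ?_⟩
  rintro c ⟨A, hA, rfl⟩
  have := bound_sym A (fun a ha b hb => congrArg Subtype.val (hA.is_comm.comm ⟨a, ha⟩ ⟨b, hb⟩))
    Finset.univ (fun b _ => Finset.subset_univ _)
  simpa [hv] using this

theorem greatest_alt {n v : ℕ} (hv : h n = v)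
    (hw : ∃ A : Subgroup (Perm (Fin n)), IsMulCommutative A ∧ Nat.card A = v ∧ A ≤ alternatingGroup _) :
    IsGreatest {c : ℕ | ∃ A : Subgroup (alternatingGroup (Fin n)), IsMulCommutative A ∧ Nat.card A = c} v := by
  constructor
  · obtain ⟨A, hA, hc, hle⟩ := hw
    refine ⟨A.subgroupOf _, ⟨⟨fun a b => ?_⟩⟩, ?_⟩
    · apply Subtype.ext
      apply Subtype.ext
      exact congrArg (fun x : A => (x : Perm (Fin n))) (hA.is_comm.comm ⟨_, a.2⟩ ⟨_, b.2⟩)
    · rw [Nat.card_congr (Subgroup.subgroupOfEquivOfLe hle).toEquiv, hc]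
  · rintro c ⟨A, hA, rfl⟩
    have := bound_alt (A.map (alternatingGroup (Fin n)).subtype) (by
      rintro _ ⟨a, ha, rfl⟩ _ ⟨b, hb, rfl⟩
      exact congrArg (fun x : A => ((x : alternatingGroup (Fin n)) : Perm (Fin n)))
        (hA.is_comm.comm ⟨a, ha⟩ ⟨b, hb⟩))
      (Subgroup.map_subtype_le A) Finset.univ (fun b _ => Finset.subset_univ _)
    rw [Subgroup.card_map_of_injective Subtype.val_injective] at this
    simpa [hv] using this

end Cfsg.Agent.Lib.AbelianMaxOrder
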