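import Mathlib

namespace Cfsg.Agent.Lib.AbelianRankBound

open MulAction

theorem pow_bound {X d p : ℕ} (hp : 2 ≤ p) (hd : 1 ≤ d) (hX : p ^ d ≤ X) :
    X * d ^ d ≤ X ^ d := by
  have h1 : d ≤ 2 ^ (d - 1) := by
    have := Nat.lt_two_pow_self (n := d - 1)
    omega
  have h2 : 2 ^ d ≤ X := le_trans (Nat.pow_le_pow_left hp d) hX
  have h3 : d ^ d ≤ X ^ (d - 1) := by
    calc d ^ d ≤ (2 ^ (d - 1)) ^ d := Nat.pow_le_pow_left h1 d
      _ = (2 ^ d) ^ (d - 1) := by rw [← pow_mul, ← pow_mul, mul_comm]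
      _ ≤ X ^ (d - 1) := Nat.pow_le_pow_left h2 _
  calc X * d ^ d ≤ X * X ^ (d - 1) := Nat.mul_le_mul_left X h3
    _ = X ^ d := by rw [← pow_succ', Nat.sub_add_cancel hd]

theorem combine {x y X M d l : ℕ} (hd : 1 ≤ d) (hx : x * d ^ d ≤ X ^ d) (hy : y * l ^ l ≤ M ^ l) :
    x * y * (d + l) ^ (d + l) ≤ (X + M) ^ (d + l) := by
  have hd' : (0 : ℝ) < d := by exact_mod_cast hd
  have hs : (0 : ℝ) < (d : ℝ) + l := by positivity
  set a : ℝ := (X : ℝ) / d with ha
  set b : ℝ := (M : ℝ) / l with hb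
  have ha0 : 0 ≤ a := by positivity
  have hb0 : 0 ≤ b := by positivity
  have hxa : (x : ℝ) ≤ a ^ d := by
    rw [ha, div_pow, le_div_iff₀ (by positivity)]
    exact_mod_cast hx
  have hyb : (y : ℝ) ≤ b ^ l := by
    rcases Nat.eq_zero_or_pos l with rfl | hl
    · simpa using hy
    · rw [hb, div_pow, le_div_iff₀ (by positivity)]
      exact_mod_cast hy
  have hw : ((d : ℝ) / (d + l)) * a + ((l : ℝ) / (d + l)) * b ≤ ((X : ℝ) + M) / (d + l) := by
    have e1 : ((d : ℝ) / (d + l)) * a = (X : ℝ) / (d + l) := by rw [ha]; field_simp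
    have e2 : ((l : ℝ) / (d + l)) * b ≤ (M : ℝ) / (d + l) := by
      rcases Nat.eq_zero_or_pos l with rfl | hl
      · simp
        positivity
      · rw [hb]
        have : (0 : ℝ) < l := by exact_mod_cast hl
        exact le_of_eq (by field_simp)
    rw [e1, add_div]
    linarith
  have hgm := (Real.geom_mean_le_arith_mean2_weighted (w₁ := (d : ℝ) / (d + l))
    (w₂ := (l : ℝ) / (d + l)) (by positivity) (by positivity) ha0 hb0
    (by field_simp)).trans hw
  have hpow := pow_le_pow_left₀ (by positivity) hgm (d + l)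
  have e : (a ^ ((d : ℝ) / (d + l)) * b ^ ((l : ℝ) / (d + l))) ^ (d + l) = a ^ d * b ^ l := by
    rw [mul_pow, ← Real.rpow_natCast (a ^ _) (d + l), ← Real.rpow_natCast (b ^ _) (d + l),
      ← Real.rpow_mul ha0, ← Real.rpow_mul hb0, Nat.cast_add, div_mul_cancel₀ _ hs.ne',
      div_mul_cancel₀ _ hs.ne', Real.rpow_natCast, Real.rpow_natCast]
  rw [e, div_pow ((X : ℝ) + M)] at hpow
  have h : ((x : ℝ) * y) * ((d : ℝ) + l) ^ (d + l) ≤ ((X : ℝ) + M) ^ (d + l) := by
    rw [← le_div_iff₀ (by positivity)]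
    exact le_trans (mul_le_mul hxa hyb (by positivity) (by positivity)) hpow
  exact_mod_cast h

variable {Ω : Type*} [Fintype Ω] [DecidableEq Ω]

theorem card_eq_orbit_mul (H : Subgroup (Equiv.Perm Ω)) (ω : Ω) :
    Nat.card H = Nat.card (orbit H ω) *
      Nat.card (H ⊓ stabilizer (Equiv.Perm Ω) ω : Subgroup (Equiv.Perm Ω)) := by
  have h : stabilizer H ω = (H ⊓ stabilizer (Equiv.Perm Ω) ω).subgroupOf H := by
    ext g
    simp [mem_stabilizer_iff, Subgroup.mem_subgroupOf]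
    rfl
  rw [Nat.card_coe_set_eq, ← index_stabilizer, ← Subgroup.card_mul_index (stabilizer H ω), mul_comm]
  · rw [h]
    exact congrArg _ (Nat.card_congr (Subgroup.subgroupOfEquivOfLe inf_le_left).toEquiv)

/-- The elements of exponent dividing `p` of an abelian subgroup. -/
def omega (p : ℕ) (B : Subgroup (Equiv.Perm Ω)) (hB : ∀ a ∈ B, ∀ b ∈ B, a * b = b * a) :
    Subgroup (Equiv.Perm Ω) where
  carrier := {x | x ∈ B ∧ x ^ p = 1}
  one_mem' := ⟨one_mem B, one_pow p⟩
  mul_mem' := fun {a b} ha hb => ⟨mul_mem ha.1 hb.1, by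
    rw [(show Commute a b from hB a ha.1 b hb.1).mul_pow, ha.2, hb.2, one_mul]⟩
  inv_mem' := fun {a} ha => ⟨inv_mem ha.1, by rw [inv_pow, ha.2, inv_one]⟩

theorem bound (p : ℕ) (hp : p.Prime) : ∀ (B : Subgroup (Equiv.Perm Ω)) (_ : IsPGroup p B)
    (hB : ∀ a ∈ B, ∀ b ∈ B, a * b = b * a) (S : Finset Ω) (_ : ∀ b ∈ B, b.support ⊆ S) (k : ℕ),
    Nat.card (omega p B hB) = p ^ k → Nat.card B * k ^ k ≤ S.card ^ k := by
  intro B
  induction B using WellFoundedLT.induction with
  | ind B ih =>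
    intro hP hB S hS k hk
    haveI := Fact.mk hp
    by_cases hne : B = ⊥
    · subst hne
      have h1 : Nat.card (omega p (⊥ : Subgroup (Equiv.Perm Ω)) hB) = 1 := by
        have : omega p (⊥ : Subgroup (Equiv.Perm Ω)) hB = ⊥ := by
          rw [eq_bot_iff]; exact fun x hx => hx.1
        rw [this, Subgroup.card_bot]
      rw [h1] at hk
      have hk0 : k = 0 := by
        by_contra h
        exact absurd hk.symm (Nat.one_lt_pow h hp.one_lt).ne'
      simp [hk0]
    obtain ⟨z, hz⟩ := exists_prime_orderOf_dvd_card' (G := B) p (by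
      obtain ⟨n, hn⟩ := IsPGroup.iff_card.mp hP
      rw [hn]
      refine dvd_pow_self p ?_
      rintro rfl
      exact hne (Subgroup.eq_bot_of_card_eq B (by simpa using hn)))
    have hz1 : (z : Equiv.Perm Ω) ≠ 1 := by
      intro h
      rw [show z = 1 from Subtype.ext h, orderOf_one] at hz
      exact hp.one_lt.ne hz
    have hzp : (z : Equiv.Perm Ω) ^ p = 1 := by
      have := pow_orderOf_eq_one z
      rw [hz] at this
      exact congrArg Subtype.val this
    obtain ⟨ω, hω⟩ : ∃ ω, (z : Equiv.Perm Ω) ω ≠ ω := by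
      by_contra! h
      exact hz1 (Equiv.ext h)
    set B' := B ⊓ stabilizer (Equiv.Perm Ω) ω with hB'
    have hB'c : ∀ a ∈ B', ∀ b ∈ B', a * b = b * a := fun a ha b hb => hB a ha.1 b hb.1
    have hlt : B' < B := lt_of_le_of_ne inf_le_left fun h => hω ((h.symm ▸ z.2 : _ ∈ B').2)
    classical
    set O : Finset Ω := (orbit B ω).toFinset with hO
    have hOS : O ⊆ S := by
      intro x hx
      rw [hO, Set.mem_toFinset] at hx
      obtain ⟨c, rfl⟩ := hx
      refine hS _ z.2 (Equiv.Perm.mem_support.mpr ?_)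
      show (z : Equiv.Perm Ω) ((c : Equiv.Perm Ω) ω) ≠ (c : Equiv.Perm Ω) ω
      rw [← Equiv.Perm.mul_apply, hB _ z.2 _ c.2, Equiv.Perm.mul_apply]
      exact fun h => hω ((c : Equiv.Perm Ω).injective h)
    have hsupp : ∀ b ∈ B', b.support ⊆ S \ O := by
      intro b hb x hx
      refine Finset.mem_sdiff.mpr ⟨hS b hb.1 hx, fun hxO => ?_⟩
      rw [hO, Set.mem_toFinset] at hxO
      obtain ⟨c, rfl⟩ := hxO
      apply Equiv.Perm.mem_support.mp hx
      show b ((c : Equiv.Perm Ω) ω) = (c : Equiv.Perm Ω) ω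
      rw [← Equiv.Perm.mul_apply, hB _ hb.1 _ c.2, Equiv.Perm.mul_apply]
      exact congrArg (c : Equiv.Perm Ω) hb.2
    obtain ⟨l, hl⟩ := IsPGroup.iff_card.mp
      ((hP.to_le (inf_le_left : B' ≤ B)).to_le (show omega p B' hB'c ≤ B' from fun x hx => hx.1))
    have hIH := ih B' hlt (hP.to_le inf_le_left) hB'c (S \ O) hsupp l hl
    have homega : omega p B hB ⊓ stabilizer (Equiv.Perm Ω) ω = omega p B' hB'c := by
      ext x
      exact ⟨fun h => ⟨⟨h.1.1, h.2⟩, h.1.2⟩, fun h => ⟨⟨h.1.1, h.2⟩, h.1.2⟩⟩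
    have hcW := card_eq_orbit_mul (omega p B hB) ω
    rw [homega, hk, hl] at hcW
    have hOc : O.card = Nat.card (orbit B ω) := by rw [hO, Nat.card_eq_card_toFinset]
    have hWle : Nat.card (orbit (omega p B hB) ω) ≤ O.card := by
      rw [hOc]
      refine Nat.card_mono (Set.toFinite _) ?_
      rintro x ⟨c, rfl⟩
      exact ⟨⟨c.1, c.2.1⟩, rfl⟩
    have hgt : 1 < Nat.card (orbit (omega p B hB) ω) := by
      rw [Finite.one_lt_card_iff_nontrivial]
      exact ⟨⟨ω, mem_orbit_self ω⟩, ⟨_, ⟨⟨z.1, z.2, hzp⟩, rfl⟩⟩,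
        fun h => hω (congrArg Subtype.val h).symm⟩
    have hlk : l < k := by
      rw [← Nat.pow_lt_pow_iff_right hp.one_lt, hcW]
      exact (Nat.lt_mul_iff_one_lt_left (pow_pos hp.pos l)).mpr hgt
    have hd : p ^ (k - l) ≤ O.card := by
      refine le_trans (le_of_eq ?_) hWle
      apply Nat.eq_of_mul_eq_mul_right (pow_pos hp.pos l)
      rw [← pow_add, Nat.sub_add_cancel hlk.le, hcW]
    have h := combine (l := l) (by omega) (pow_bound hp.two_le (by omega) hd) hIH
    rw [Nat.sub_add_cancel hlk.le] at h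
    have hN : O.card + (S \ O).card = S.card := by
      rw [add_comm]
      exact Finset.card_sdiff_add_card_eq_card hOS
    rw [hN] at h
    calc Nat.card B * k ^ k = O.card * Nat.card B' * k ^ k := by
          rw [hOc, ← card_eq_orbit_mul]
      _ ≤ _ := h

end Cfsg.Agent.Lib.AbelianRankBound
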