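import Mathlib

namespace Cfsg.Agent.Lib.AffineClosure

variable {p : ℕ} [Fact p.Prime] {d : ℕ}

/-- Triples of a two-point line are carried as by an affine map. -/
theorem comb (G : Subgroup (Equiv.Perm (Fin d → ZMod p)))
    (haff : ∀ τ ∈ G, ∃ (A : (Fin d → ZMod p) ≃ₗ[ZMod p] (Fin d → ZMod p)) (b : Fin d → ZMod p),
      ∀ x, τ x = A x + b)
    (σ : Equiv.Perm (Fin d → ZMod p))
    (hσ : ∀ t : Fin 3 → (Fin d → ZMod p), ∃ g ∈ G, ∀ i, σ (t i) = g (t i))
    (a b : Fin d → ZMod p) (t : ZMod p) :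
    σ (a + t • (b - a)) = σ a + t • (σ b - σ a) := by
  obtain ⟨g, hg, h⟩ := hσ ![a, b, a + t • (b - a)]
  obtain ⟨A, c, hA⟩ := haff g hg
  have h0 : σ a = A a + c := (h 0).trans (hA _)
  have h1 : σ b = A b + c := (h 1).trans (hA _)
  have h2 : σ (a + t • (b - a)) = A (a + t • (b - a)) + c := (h 2).trans (hA _)
  rw [h0, h1, h2, map_add, map_smul, map_sub]
  module

theorem affine_of_odd (hp : p ≠ 2) (G : Subgroup (Equiv.Perm (Fin d → ZMod p)))
    (haff : ∀ τ ∈ G, ∃ (A : (Fin d → ZMod p) ≃ₗ[ZMod p] (Fin d → ZMod p)) (b : Fin d → ZMod p),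
      ∀ x, τ x = A x + b)
    (σ : Equiv.Perm (Fin d → ZMod p))
    (hσ : ∀ t : Fin 3 → (Fin d → ZMod p), ∃ g ∈ G, ∀ i, σ (t i) = g (t i)) :
    ∃ (A : (Fin d → ZMod p) ≃ₗ[ZMod p] (Fin d → ZMod p)) (b : Fin d → ZMod p),
      ∀ x, σ x = A x + b := by
  have h2 : (2 : ZMod p) ≠ 0 := by
    intro h
    have h' : ((2 : ℕ) : ZMod p) = 0 := by exact_mod_cast h
    rw [ZMod.natCast_eq_zero_iff] at h'
    exact hp ((Nat.prime_dvd_prime_iff_eq Fact.out Nat.prime_two).mp h')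
  set L : (Fin d → ZMod p) → (Fin d → ZMod p) := fun x => σ x - σ 0 with hL
  have hsm : ∀ (t : ZMod p) (x : Fin d → ZMod p), L (t • x) = t • L x := by
    intro t x
    have h := comb G haff σ hσ 0 x t
    simp only [sub_zero, zero_add] at h
    simp only [hL, h, add_sub_cancel_left]
  have hadd : ∀ x y, L (x + y) = L x + L y := by
    intro x y
    have e1 : x + y = (2 : ZMod p) • (x + (2⁻¹ : ZMod p) • (y - x)) := by
      rw [smul_add, smul_smul, mul_inv_cancel₀ h2, one_smul]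
      module
    rw [e1, hsm]
    simp only [hL]
    rw [comb G haff σ hσ x y]
    rw [smul_sub, smul_add, smul_smul, mul_inv_cancel₀ h2, one_smul]
    module
  have hinj : Function.Injective L := fun x y h => σ.injective (sub_left_inj.mp h)
  let f : (Fin d → ZMod p) →ₗ[ZMod p] (Fin d → ZMod p) :=
    { toFun := L, map_add' := hadd, map_smul' := hsm }
  exact ⟨LinearEquiv.ofInjectiveEndo f hinj, σ 0, fun x => (sub_add_cancel (σ x) (σ 0)).symm⟩

/-- An invertible map can be altered off a plane to have determinant one. -/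
theorem exists_det_one (hd : 3 ≤ d) (A : (Fin d → ZMod p) ≃ₗ[ZMod p] (Fin d → ZMod p))
    (u v : Fin d → ZMod p) :
    ∃ A' : (Fin d → ZMod p) ≃ₗ[ZMod p] (Fin d → ZMod p),
      LinearMap.det (A' : (Fin d → ZMod p) →ₗ[ZMod p] (Fin d → ZMod p)) = 1 ∧
      A' u = A u ∧ A' v = A v := by
  classical
  set W := Submodule.span (ZMod p) (Set.range ![u, v]) with hW
  have hlt : W < ⊤ := by
    refine lt_top_iff_ne_top.mpr fun htop => ?_
    have h := finrank_range_le_card (R := ZMod p) ![u, v]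
    rw [Set.finrank, ← hW, htop, finrank_top, Module.finrank_pi, Fintype.card_fin,
      Fintype.card_fin] at h
    omega
  obtain ⟨w, -, hw⟩ := SetLike.exists_of_lt hlt
  obtain ⟨φ, hφw, hφW⟩ := Submodule.exists_dual_map_eq_bot_of_notMem hw inferInstance
  have hz : ∀ x ∈ W, φ x = 0 := fun x hx => by
    have : φ x ∈ W.map φ := ⟨x, hx, rfl⟩
    rwa [hφW, Submodule.mem_bot] at this
  set lam : ZMod p := (LinearMap.det (A : (Fin d → ZMod p) →ₗ[ZMod p] (Fin d → ZMod p)))⁻¹ with hlam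
  have hdA : LinearMap.det (A : (Fin d → ZMod p) →ₗ[ZMod p] (Fin d → ZMod p)) ≠ 0 :=
    A.isUnit_det'.ne_zero
  set T := LinearMap.transvection φ (((lam - 1) * (φ w)⁻¹) • w) with hT
  have hdT : LinearMap.det T = lam := by
    rw [hT, LinearMap.transvection.det, map_smul, smul_eq_mul, mul_assoc, inv_mul_cancel₀ hφw,
      mul_one]
    ring
  have hu : T.det ≠ 0 := by rw [hdT]; exact inv_ne_zero hdA
  have hT' : IsUnit T := by
    rw [LinearMap.isUnit_iff_isUnit_det]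
    exact isUnit_iff_ne_zero.mpr hu
  let E := (LinearMap.GeneralLinearGroup.generalLinearEquiv (ZMod p) _) hT'.unit
  refine ⟨E.trans A, ?_, ?_, ?_⟩
  · have : ((E.trans A) : (Fin d → ZMod p) →ₗ[ZMod p] (Fin d → ZMod p)) =
        (A : (Fin d → ZMod p) →ₗ[ZMod p] (Fin d → ZMod p)) ∘ₗ T := rfl
    rw [this, LinearMap.det_comp, hdT, hlam, mul_inv_cancel₀ hdA]
  · show A (T u) = A u
    rw [hT, LinearMap.transvection.apply, hz u (Submodule.subset_span ⟨0, rfl⟩), zero_smul, add_zero]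
  · show A (T v) = A v
    rw [hT, LinearMap.transvection.apply, hz v (Submodule.subset_span ⟨1, rfl⟩), zero_smul, add_zero]

/-- The three-closure of an affine group containing `SL` is everything affine. -/
theorem mem_three_closure (hd : 3 ≤ d) (G : Subgroup (Equiv.Perm (Fin d → ZMod p)))
    (htrans : ∀ b : Fin d → ZMod p, ∃ g ∈ G, ∀ x, g x = x + b)
    (hsl : ∀ A : (Fin d → ZMod p) ≃ₗ[ZMod p] (Fin d → ZMod p),
      LinearMap.det (A : (Fin d → ZMod p) →ₗ[ZMod p] (Fin d → ZMod p)) = 1 → ∃ g ∈ G, ∀ x, g x = A x)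
    (σ : Equiv.Perm (Fin d → ZMod p))
    (hA : ∃ (A : (Fin d → ZMod p) ≃ₗ[ZMod p] (Fin d → ZMod p)) (b : Fin d → ZMod p),
      ∀ x, σ x = A x + b)
    (t : Fin 3 → (Fin d → ZMod p)) : ∃ g ∈ G, ∀ i, σ (t i) = g (t i) := by
  obtain ⟨A, b, hA⟩ := hA
  obtain ⟨A', hd', hu, hv⟩ := exists_det_one hd A (t 1 - t 0) (t 2 - t 0)
  obtain ⟨g₁, hg₁, e₁⟩ := hsl A' hd'
  obtain ⟨g₂, hg₂, e₂⟩ := htrans (A (t 0) - A' (t 0) + b)
  refine ⟨g₂ * g₁, mul_mem hg₂ hg₁, fun i => ?_⟩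
  rw [Equiv.Perm.mul_apply, e₂, e₁, hA]
  have key : A (t i) - A (t 0) = A' (t i) - A' (t 0) := by
    rw [← map_sub, ← map_sub]
    fin_cases i
    · simp
    · exact hu.symm
    · exact hv.symm
  have : A (t i) = A' (t i) - A' (t 0) + A (t 0) := by rw [← key]; abel
  rw [this]
  abel

theorem plane_two : (∀ x : Fin 2 → ZMod 2,
    x = 0 ∨ x = Pi.single 0 1 ∨ x = Pi.single 1 1 ∨ x = ![1, 1]) ∧
    (![1, 1] : Fin 2 → ZMod 2) ≠ 0 ∧ (![1, 1] : Fin 2 → ZMod 2) ≠ Pi.single 0 1 ∧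
    (![1, 1] : Fin 2 → ZMod 2) ≠ Pi.single 1 1 := by decide

theorem eq_of_frame (p : ℕ) [Fact p.Prime] (G : Subgroup (Equiv.Perm (Fin 2 → ZMod p)))
    (haff : ∀ τ ∈ G, ∃ (A : (Fin 2 → ZMod p) ≃ₗ[ZMod p] (Fin 2 → ZMod p)) (b : Fin 2 → ZMod p),
      ∀ x, τ x = A x + b)
    (σ : Equiv.Perm (Fin 2 → ZMod p))
    (hσ : ∀ t : Fin 3 → (Fin 2 → ZMod p), ∃ g ∈ G, ∀ i, σ (t i) = g (t i)) : σ ∈ G := by
  obtain ⟨g, hg, h⟩ := hσ ![0, Pi.single 0 1, Pi.single 1 1]
  suffices σ = g from this ▸ hg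
  rcases eq_or_ne p 2 with rfl | hp
  · obtain ⟨hv, n0, n1, n2⟩ := plane_two
    ext1 x
    have a0 : σ (0 : Fin 2 → ZMod 2) = g 0 := h 0
    have a1 : σ (Pi.single 0 1 : Fin 2 → ZMod 2) = g (Pi.single 0 1) := h 1
    have a2 : σ (Pi.single 1 1 : Fin 2 → ZMod 2) = g (Pi.single 1 1) := h 2
    rcases hv x with rfl | rfl | rfl | rfl
    · exact a0
    · exact a1
    · exact a2
    · rcases hv (g⁻¹ (σ ![1, 1])) with e | e | e | e
      all_goals rw [Equiv.Perm.inv_eq_iff_eq] at e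
      · rw [← a0] at e; exact absurd (σ.injective e) n0
      · rw [← a1] at e; exact absurd (σ.injective e) n1
      · rw [← a2] at e; exact absurd (σ.injective e) n2
      · exact e
  · obtain ⟨A, b, hA⟩ := affine_of_odd hp G haff σ hσ
    obtain ⟨C, c, hC⟩ := haff g hg
    have hb : b = c := by
      have := h 0
      rw [hA, hC] at this
      simpa using this
    have hAC : (A : (Fin 2 → ZMod p) →ₗ[ZMod p] (Fin 2 → ZMod p)) = C := by
      refine (Pi.basisFun (ZMod p) (Fin 2)).ext fun i => ?_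
      rw [Pi.basisFun_apply]
      fin_cases i
      · have := h 1
        rw [hA, hC, hb] at this
        exact add_right_cancel this
      · have := h 2
        rw [hA, hC, hb] at this
        exact add_right_cancel this
    ext1 x
    rw [hA, hC, hb]
    exact congrArg (fun f : (Fin 2 → ZMod p) →ₗ[ZMod p] (Fin 2 → ZMod p) => f x + c) hAC

end Cfsg.Agent.Lib.AffineClosure
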