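import Cfsg.Agent.Lib.Perm.AlternatingAut

/-! An automorphism of an alternating group preserving the three-cycles is induced by a permutation; the automorphisms
of odd order in degree six preserve them. -/

set_option autoImplicit false

namespace Cfsg.Agent.Perm

open Equiv

variable {α : Type*} [DecidableEq α] [Fintype α]

theorem exists_perm_of_maps_three_cycles (h5 : 5 ≤ Fintype.card α) (φ : MulAut ↥(alternatingGroup α))
    (himg : ∀ s : alternatingGroup α, (s : Perm α).IsThreeCycle → (φ s : Perm α).IsThreeCycle) :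
    ∃ π : Perm α, MulAut.conjNormal π = φ := by
  let mk : ∀ a b c : α, a ≠ b → a ≠ c → b ≠ c → alternatingGroup α := fun a b c h1 h2 h3 =>
    ⟨cyc a b c, (isThreeCycle_cyc h1 h2 h3).mem_alternatingGroup⟩
  obtain ⟨p, q, hpq⟩ := Fintype.exists_pair_of_one_lt_card (α := α) (by omega)
  let I := {i : α // i ≠ p ∧ i ≠ q}
  let T : I → alternatingGroup α := fun i => mk p q i hpq (Ne.symm i.2.1) (Ne.symm i.2.2)
  let u : I → Perm α := fun i => (φ (T i) : Perm α)
  have hu : ∀ i, (u i).IsThreeCycle := fun i =>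
    himg _ (isThreeCycle_cyc hpq (Ne.symm i.2.1) (Ne.symm i.2.2))
  have hTinj : ∀ i j : I, T i = T j → i = j := fun i j e => by
    have h2 := congrArg (fun s : alternatingGroup α => (s : Perm α) q) e
    simp only [T, mk, cyc_apply_mid] at h2
    exact Subtype.ext h2
  have hedge : ∀ i j : I, i ≠ j → ∃ a, u i a ≠ a ∧ u i a = u j a := by
    intro i j hij
    have hij' : (i : α) ≠ j := fun e => hij (Subtype.ext e)
    refine exists_common_edge (hu i) (hu j) ?_ ?_
    · intro e
      have h1 : T i * T j = 1 := φ.injective (Subtype.ext (by simpa [u] using e))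
      have h2 := congrArg (fun s : alternatingGroup α => (s : Perm α) p) h1
      simp only [T, mk, Subgroup.coe_mul, Perm.mul_apply, Subgroup.coe_one, Perm.one_apply] at h2
      rw [cyc_apply_left hpq (Ne.symm j.2.2), cyc_apply_mid] at h2
      exact i.2.1 h2
    · have h1 : T i * T j * (T i * T j) = 1 := by
        refine Subtype.ext (Perm.ext fun z => ?_)
        simp only [T, mk, Subgroup.coe_mul, Perm.mul_apply, Subgroup.coe_one, Perm.one_apply]
        by_cases z1 : z = p
        · subst z1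
          rw [cyc_apply_left hpq (Ne.symm j.2.2), cyc_apply_mid,
            cyc_apply_other i.2.1 i.2.2 hij', cyc_apply_right (Ne.symm i.2.1) (Ne.symm i.2.2)]
        by_cases z2 : z = q
        · subst z2
          rw [cyc_apply_mid, cyc_apply_other j.2.1 j.2.2 (Ne.symm hij'),
            cyc_apply_right (Ne.symm j.2.1) (Ne.symm j.2.2), cyc_apply_left hpq (Ne.symm i.2.2)]
        by_cases z3 : z = i
        · subst z3
          rw [cyc_apply_other i.2.1 i.2.2 hij', cyc_apply_right (Ne.symm i.2.1) (Ne.symm i.2.2),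
            cyc_apply_left hpq (Ne.symm j.2.2), cyc_apply_mid]
        by_cases z4 : z = j
        · subst z4
          rw [cyc_apply_right (Ne.symm j.2.1) (Ne.symm j.2.2), cyc_apply_left hpq (Ne.symm i.2.2),
            cyc_apply_mid, cyc_apply_other j.2.1 j.2.2 (Ne.symm hij')]
        rw [cyc_apply_other z1 z2 z4, cyc_apply_other z1 z2 z3, cyc_apply_other z1 z2 z4,
          cyc_apply_other z1 z2 z3]
      have := congrArg (fun s => (φ s : Perm α)) h1
      simpa [u] using this
  obtain ⟨i0, hi0⟩ := Finset.exists_mem_notMem_of_card_lt_card (s := {p, q}) (t := Finset.univ)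
    (Finset.card_le_two.trans_lt (by rw [Finset.card_univ]; omega))
  obtain ⟨i1, hi1⟩ := Finset.exists_mem_notMem_of_card_lt_card (s := {p, q, i0}) (t := Finset.univ)
    (Finset.card_le_three.trans_lt (by rw [Finset.card_univ]; omega))
  simp only [Finset.mem_insert, Finset.mem_singleton, not_or] at hi0 hi1
  let I0 : I := ⟨i0, hi0.2⟩
  let I1 : I := ⟨i1, hi1.2.1, hi1.2.2.1⟩
  have h01 : I0 ≠ I1 := fun e => hi1.2.2.2 (congrArg Subtype.val e).symm
  obtain ⟨X, hX, hX1⟩ := hedge I0 I1 h01
  set Y := u I0 X with hY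
  have hX' : u I1 X ≠ X := by rw [← hX1]; exact hX
  obtain ⟨x1, x2, x3, x4, x5⟩ := eq_cyc_of_isThreeCycle (hu I0) hX
  obtain ⟨y1, y2, y3, y4, y5⟩ := eq_cyc_of_isThreeCycle (hu I1) hX'
  rw [← hX1] at y1 y2 y3 y4 y5
  set Z := u I0 Y with hZ
  set W := u I1 Y with hW
  have huinj : ∀ i j, u i = u j → i = j := fun i j e => hTinj i j (φ.injective (Subtype.ext e))
  have hZW : Z ≠ W := fun e => h01 (huinj _ _ (by rw [x5, y5, e]))
  have hall : ∀ j, u j X = Y := by
    intro j
    by_cases j0 : j = I0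
    · rw [j0]
    by_cases j1 : j = I1
    · rw [j1, ← hX1]
    obtain ⟨A, hA, hAe⟩ := hedge I0 j (Ne.symm j0)
    obtain ⟨B, hB, hBe⟩ := hedge I1 j (Ne.symm j1)
    have hAm : A = X ∨ A = Y ∨ A = Z := by
      by_contra h; simp only [not_or] at h
      exact hA (by rw [x5]; exact cyc_apply_other h.1 h.2.1 h.2.2)
    have hBm : B = X ∨ B = Y ∨ B = W := by
      by_contra h; simp only [not_or] at h
      exact hB (by rw [y5]; exact cyc_apply_other h.1 h.2.1 h.2.2)
    have hsix : ∀ a, u j a ≠ a → ∀ z, u j z ≠ z → z = a ∨ z = u j a ∨ z = u j (u j a) := by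
      intro a ha z hz
      by_contra h; simp only [not_or] at h
      obtain ⟨-, -, -, -, h5⟩ := eq_cyc_of_isThreeCycle (hu j) ha
      exact hz (by rw [h5]; exact cyc_apply_other h.1 h.2.1 h.2.2)
    rcases hAm with hA' | hA' | hA'
    · rw [hA'] at hAe; exact hAe.symm
    all_goals rcases hBm with hB' | hB' | hB'
    all_goals first
      | (rw [hB'] at hBe; exact (hBe.symm.trans hX1.symm))
      | skip
    · rw [hA', ← hZ] at hAe; rw [hB', ← hW] at hBe
      exact absurd (hAe.trans hBe.symm) hZW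
    · rw [hA', ← hZ] at hAe; rw [hB', y4] at hBe
      exfalso
      have hYm : u j Y ≠ Y := by rw [← hAe]; exact x3.symm
      have hWm : u j W ≠ W := by rw [← hBe]; exact y2
      rcases hsix Y hYm W hWm with h | h | h
      · exact y3 h.symm
      · exact hZW (by rw [hAe, ← h])
      · have h' : u j W = Y := by rw [h]; exact (eq_cyc_of_isThreeCycle (hu j) hYm).2.2.2.1
        exact x1 (hBe.trans h')
    · rw [hA', x4] at hAe; rw [hB', ← hW] at hBe
      exfalso
      have hYm : u j Y ≠ Y := by rw [← hBe]; exact y3.symm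
      have hZm : u j Z ≠ Z := by rw [← hAe]; exact x2
      rcases hsix Y hYm Z hZm with h | h | h
      · exact x3 h.symm
      · exact hZW (by rw [hBe, ← h])
      · have h' : u j Z = Y := by rw [h]; exact (eq_cyc_of_isThreeCycle (hu j) hYm).2.2.2.1
        exact x1 (hAe.trans h')
    · rw [hA', x4] at hAe; rw [hB', y4] at hBe
      exact absurd ((u j).injective (hAe.symm.trans hBe)) hZW
  let s : I → α := fun j => u j Y
  have hXY : X ≠ Y := x1
  have hform : ∀ j, s j ≠ X ∧ s j ≠ Y ∧ u j = cyc X Y (s j) := by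
    intro j
    have hm : u j X ≠ X := by rw [hall j]; exact hXY.symm
    obtain ⟨-, a2, a3, -, a5⟩ := eq_cyc_of_isThreeCycle (hu j) hm
    rw [hall j] at a2 a3 a5
    exact ⟨a2.symm, a3.symm, a5⟩
  have hsinj : ∀ i j, s i = s j → i = j := fun i j e =>
    huinj i j (by rw [(hform i).2.2, (hform j).2.2, e])
  let f : α → α := fun z => if h : z ≠ p ∧ z ≠ q then s ⟨z, h⟩ else if z = p then X else Y
  have fp : f p = X := by simp [f]
  have fq : f q = Y := by simp [f, Ne.symm hpq]
  have fi : ∀ i : I, f i = s i := fun i => by simp [f, i.2]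
  have hf : Function.Injective f := by
    intro z1 z2 e
    by_cases h1 : z1 ≠ p ∧ z1 ≠ q <;> by_cases h2 : z2 ≠ p ∧ z2 ≠ q
    · have e' := (fi ⟨z1, h1⟩).symm.trans (e.trans (fi ⟨z2, h2⟩))
      exact congrArg Subtype.val (hsinj _ _ e')
    · exfalso
      rw [show f z1 = s ⟨z1, h1⟩ from fi ⟨z1, h1⟩] at e
      rcases not_and_or.1 h2 with h | h <;> rw [not_not] at h <;> subst h
      · rw [fp] at e; exact (hform _).1 e
      · rw [fq] at e; exact (hform _).2.1 e
    · exfalso
      rw [show f z2 = s ⟨z2, h2⟩ from fi ⟨z2, h2⟩] at e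
      rcases not_and_or.1 h1 with h | h <;> rw [not_not] at h <;> subst h
      · rw [fp] at e; exact (hform _).1 e.symm
      · rw [fq] at e; exact (hform _).2.1 e.symm
    · rcases not_and_or.1 h1 with h | h <;> rw [not_not] at h <;> subst h <;>
        rcases not_and_or.1 h2 with h' | h' <;> rw [not_not] at h' <;> subst h'
      · rfl
      · exact absurd (fp.symm.trans (e.trans fq)) hXY
      · exact absurd ((fp.symm.trans (e.symm.trans fq))) hXY
      · rfl
  let π : Perm α := Equiv.ofBijective f (Finite.injective_iff_bijective.1 hf)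
  refine ⟨π, ?_⟩
  symm
  refine MulEquiv.ext fun g => ?_
  let E : Subgroup (alternatingGroup α) := MonoidHom.eqLocus φ.toMonoidHom (MulAut.conjNormal π).toMonoidHom
  suffices hE : E = ⊤ by exact (hE ▸ Subgroup.mem_top g : g ∈ E)
  have hT : ∀ i, i ≠ p → i ≠ q → cyc p q i ∈ E.map (alternatingGroup α).subtype := by
    intro i h1 h2
    refine ⟨T ⟨i, h1, h2⟩, Subtype.ext ?_, rfl⟩
    show u ⟨i, h1, h2⟩ = ((MulAut.conjNormal π (T ⟨i, h1, h2⟩) : alternatingGroup α) : Perm α)
    rw [MulAut.conjNormal_apply]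
    show _ = π * cyc p q i * π⁻¹
    rw [conj_cyc, show π p = X from fp, show π q = Y from fq, show π i = s ⟨i, h1, h2⟩ from fi ⟨i, h1, h2⟩]
    exact (hform _).2.2
  rw [eq_top_iff, ← alternatingGroup.closure_isThreeCycles_eq_top, Subgroup.closure_le]
  intro t ht
  have ht' : (t : Perm α).IsThreeCycle := ht
  obtain ⟨a, ha⟩ : ∃ a, (t : Perm α) a ≠ a := by
    by_contra h; simp only [not_exists, not_not] at h
    have := ht'.orderOf
    rw [show (t : Perm α) = 1 from Perm.ext h, orderOf_one] at this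
    omega
  obtain ⟨b1, b2, b3, -, b5⟩ := eq_cyc_of_isThreeCycle ht' ha
  have hmem := cyc_mem_of_basic hpq hT b1 b2 b3
  rw [← b5] at hmem
  obtain ⟨t', ht'', e⟩ := hmem
  rwa [← Subtype.ext (show (t' : Perm α) = t from e)]

/-- In degree six the elements of order three that are no three-cycles form one class. -/
theorem isConj_three_three {x y : alternatingGroup (Fin 6)} (hx : orderOf x = 3) (hx3 : ¬ (x : Perm (Fin 6)).IsThreeCycle)
    (hy : orderOf y = 3) (hy3 : ¬ (y : Perm (Fin 6)).IsThreeCycle) : IsConj x y := by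
  have ht : ∀ z : alternatingGroup (Fin 6), orderOf z = 3 → ¬ (z : Perm (Fin 6)).IsThreeCycle →
      (z : Perm (Fin 6)).cycleType = Multiset.replicate 2 3 := by
    intro z hz hz3
    rw [← Subgroup.orderOf_coe] at hz
    obtain ⟨k, hk⟩ := Perm.cycleType_prime_order (σ := (z : Perm (Fin 6))) (by rw [hz]; exact Nat.prime_three)
    rw [hz] at hk
    have hsum := (z : Perm (Fin 6)).sum_cycleType
    rw [hk, Multiset.sum_replicate, smul_eq_mul] at hsum
    have := Finset.card_le_univ (z : Perm (Fin 6)).support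
    rw [Fintype.card_fin] at this
    have hk1 : k = 1 := by
      by_contra h
      exact hz3 (by rw [Perm.IsThreeCycle, hk, show k = 0 by omega]; rfl)
    rw [hk, hk1]
  let r : Perm (Fin 6) := swap 0 2 * swap 0 1 * (swap 3 5 * swap 3 4)
  let o : Perm (Fin 6) := swap 0 3 * swap 1 4 * swap 2 5
  have hor : o * r * o⁻¹ = r := by decide
  have ho : Perm.sign o = -1 := by decide
  have hr : Perm.sign r = 1 := by decide
  have hrt : r.cycleType = Multiset.replicate 2 3 := by decide
  suffices h : ∀ z : alternatingGroup (Fin 6), orderOf z = 3 → ¬ (z : Perm (Fin 6)).IsThreeCycle →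
      IsConj ⟨r, hr⟩ z from (h x hx hx3).symm.trans (h y hy hy3)
  intro z hz hz3
  obtain ⟨π, hπ⟩ := isConj_iff.mp (Perm.isConj_iff_cycleType_eq.mpr (hrt.trans (ht z hz hz3).symm))
  rw [isConj_iff]
  rcases Int.units_eq_one_or (Perm.sign π) with h | h
  · exact ⟨⟨π, h⟩, Subtype.ext hπ⟩
  · refine ⟨⟨π * o, by rw [Perm.mem_alternatingGroup, map_mul, h, ho]; rfl⟩, Subtype.ext ?_⟩
    show π * o * r * (π * o)⁻¹ = z
    rw [mul_inv_rev, mul_assoc π o r, ← mul_assoc _ o⁻¹ π⁻¹, mul_assoc π (o * r) o⁻¹, hor, hπ]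

/-- An automorphism of odd order preserves the three-cycles. -/
theorem maps_three_cycles_of_odd (φ : MulAut ↥(alternatingGroup (Fin 6))) {e : ℕ} (he : Odd e) (hφ : φ ^ e = 1)
    (s : alternatingGroup (Fin 6)) (hs : (s : Perm (Fin 6)).IsThreeCycle) :
    (φ s : Perm (Fin 6)).IsThreeCycle := by
  have ho : ∀ (ψ : MulAut ↥(alternatingGroup (Fin 6))) (t : alternatingGroup (Fin 6)), orderOf (ψ t) = orderOf t :=
    fun ψ t => orderOf_injective ψ.toMonoidHom ψ.injective t
  have h3 : ∀ t : alternatingGroup (Fin 6), (t : Perm (Fin 6)).IsThreeCycle → orderOf t = 3 := fun t ht => by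
    rw [← Subgroup.orderOf_coe, ht.orderOf]
  have hconj : ∀ t t' : alternatingGroup (Fin 6), (t : Perm (Fin 6)).IsThreeCycle → IsConj t t' →
      (t' : Perm (Fin 6)).IsThreeCycle := by
    intro t t' ht h
    obtain ⟨g, rfl⟩ := isConj_iff.mp h
    show ((g : Perm (Fin 6)) * t * (g : Perm (Fin 6))⁻¹).IsThreeCycle
    rw [Perm.IsThreeCycle, Perm.cycleType_conj]; exact ht
  by_contra hne
  -- the image of a three-cycle is never a three-cycle
  have hall : ∀ t : alternatingGroup (Fin 6), (t : Perm (Fin 6)).IsThreeCycle → ¬ (φ t : Perm (Fin 6)).IsThreeCycle :=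
    fun t ht h => hne (hconj _ _ h (φ.toMonoidHom.map_isConj (alternatingGroup.isThreeCycle_isConj (by simp) ht hs)))
  have hflip : ∀ t : alternatingGroup (Fin 6), orderOf t = 3 → ((φ t : Perm (Fin 6)).IsThreeCycle ↔
      ¬ (t : Perm (Fin 6)).IsThreeCycle) := by
    intro t ht
    refine ⟨fun h h' => hall t h' h, fun h => ?_⟩
    -- some non-three-cycle goes to a three-cycle
    obtain ⟨w, hw⟩ := φ.surjective s
    have hw3 : orderOf w = 3 := by rw [← ho φ w, hw, h3 s hs]
    have hwn : ¬ (w : Perm (Fin 6)).IsThreeCycle := fun h' => hall w h' (hw ▸ hs)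
    exact hconj s _ hs (hw ▸ φ.toMonoidHom.map_isConj (isConj_three_three hw3 hwn ht h))
  have hit : ∀ k : ℕ, ((φ ^ k) s : Perm (Fin 6)).IsThreeCycle ↔ Even k := by
    intro k
    induction k with
    | zero => simpa using hs
    | succ k ih =>
      rw [pow_succ', MulAut.mul_apply, hflip _ (by rw [ho, h3 s hs]), ih, Nat.even_add_one]
  have := (hit e).mp (by rw [hφ]; exact hs)
  exact Nat.not_even_iff_odd.mpr he this

end Cfsg.Agent.Perm
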