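import Cfsg.Prelude.Def_Local
import Cfsg.Agent.Lib.Local.Component
import Mathlib

/-! Pointwise stabilisers of four points in alternating groups are standard subgroups. -/

set_option autoImplicit false

namespace Cfsg.Agent.AltStandard

open Equiv Equiv.Perm
open scoped commutatorElement

variable {n : ℕ}

/-- The alternating group on `Fin n`. -/
abbrev AA (n : ℕ) : Type := ↥(alternatingGroup (Fin n))

theorem mem_map_conj {G : Type*} [Group G] {K : Subgroup G} {g x : G} :
    x ∈ K.map (MulAut.conj g).toMonoidHom ↔ g⁻¹ * x * g ∈ K := by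
  constructor
  · rintro ⟨y, hy, rfl⟩
    show g⁻¹ * (g * y * g⁻¹) * g ∈ K
    simpa [mul_assoc] using hy
  · exact fun h => ⟨_, h, show g * (g⁻¹ * x * g) * g⁻¹ = x by group⟩

/-- A three-cycle as an element of the alternating group. -/
def cyc (a b c : Fin n) (ab : a ≠ b) (ac : a ≠ c) (bc : b ≠ c) : (AA n) :=
  ⟨swap a b * swap a c, (isThreeCycle_swap_mul_swap_same ab ac bc).mem_alternatingGroup⟩

theorem cyc_fix {a b c : Fin n} {ab : a ≠ b} {ac : a ≠ c} {bc : b ≠ c} {x : Fin n}
    (h1 : x ≠ a) (h2 : x ≠ b) (h3 : x ≠ c) : (cyc a b c ab ac bc : Perm (Fin n)) x = x := by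
  show (swap a b * swap a c) x = x
  rw [Perm.mul_apply, swap_apply_of_ne_of_ne h1 h3, swap_apply_of_ne_of_ne h1 h2]

theorem cyc_move {a b c : Fin n} {ab : a ≠ b} {ac : a ≠ c} {bc : b ≠ c} :
    (cyc a b c ab ac bc : Perm (Fin n)) a ≠ a := by
  show (swap a b * swap a c) a ≠ a
  rw [Perm.mul_apply, swap_apply_left, swap_apply_of_ne_of_ne ac.symm bc.symm]
  exact ac.symm

/-- The elements fixing every point of `s`. -/
def fixS (s : Finset (Fin n)) : Subgroup (AA n) where
  carrier := {g | ∀ x ∈ s, (g : Perm (Fin n)) x = x}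
  one_mem' := fun x _ => rfl
  mul_mem' := fun {g h} hg hh x hx => by
    show ((g : Perm (Fin n)) * (h : Perm (Fin n))) x = x
    rw [Perm.mul_apply, hh x hx, hg x hx]
  inv_mem' := fun {g} hg x hx => by
    show (g : Perm (Fin n))⁻¹ x = x
    rw [Perm.inv_eq_iff_eq]; exact (hg x hx).symm

theorem mem_fixS {s : Finset (Fin n)} {g : (AA n)} :
    g ∈ fixS s ↔ ∀ x ∈ s, (g : Perm (Fin n)) x = x := Iff.rfl

theorem exists_three (t : Finset (Fin n)) (ht : 3 ≤ t.card) {a : Fin n} (ha : a ∈ t) :
    ∃ g ∈ fixS (tᶜ), (g : Perm (Fin n)) a ≠ a := by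
  obtain ⟨b, hb, hba⟩ := t.exists_mem_ne (by omega) a
  obtain ⟨c, hc⟩ : ((t.erase a).erase b).Nonempty := by
    rw [← Finset.card_pos, Finset.card_erase_of_mem (Finset.mem_erase.mpr ⟨hba, hb⟩),
      Finset.card_erase_of_mem ha]
    omega
  simp only [Finset.mem_erase] at hc
  refine ⟨cyc a b c hba.symm hc.2.1.symm hc.1.symm, fun x hx => cyc_fix ?_ ?_ ?_, cyc_move⟩ <;>
    rintro rfl <;> simp only [Finset.mem_compl] at hx
  · exact hx ha
  · exact hx hb
  · exact hx hc.2.2

theorem fixS_antitone {s t : Finset (Fin n)} (h : s ⊆ t) : fixS t ≤ fixS s :=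
  fun _ hg x hx => hg x (h hx)

theorem map_fixS (s : Finset (Fin n)) (g : (AA n)) :
    (fixS s).map (MulAut.conj g).toMonoidHom = fixS (s.image (g : Perm (Fin n))) := by
  ext x
  rw [mem_map_conj]
  simp only [mem_fixS, Finset.forall_mem_image, Subgroup.coe_mul, Subgroup.coe_inv, Perm.mul_apply,
    Perm.inv_eq_iff_eq]

/-- `fixS` determines the set as long as three points are moved. -/
theorem subset_of_le {s t : Finset (Fin n)} (hs : 3 ≤ sᶜ.card) (h : fixS s ≤ fixS t) : t ⊆ s := by
  intro x hx
  by_contra hxs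
  obtain ⟨g, hg, hgx⟩ := exists_three sᶜ hs (Finset.mem_compl.mpr hxs)
  rw [compl_compl] at hg
  exact hgx (h hg x hx)

theorem centralizer_fixS {s : Finset (Fin n)} (hs : 4 ≤ sᶜ.card) :
    Subgroup.centralizer (fixS s : Set (AA n)) = fixS sᶜ := by
  ext g
  constructor
  · intro hg x hx
    by_contra hgx
    rw [Finset.mem_compl] at hx
    have hcomm : ∀ c ∈ fixS s, (c : Perm (Fin n)) ((g : Perm (Fin n)) x) =
        (g : Perm (Fin n)) ((c : Perm (Fin n)) x) := fun c hc =>
      congrArg (fun k : (AA n) => (k : Perm (Fin n)) x) (Subgroup.mem_centralizer_iff.mp hg c hc)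
    by_cases hgs : (g : Perm (Fin n)) x ∈ s
    · obtain ⟨c, hc, hcx⟩ := exists_three sᶜ (by omega) (Finset.mem_compl.mpr hx)
      rw [compl_compl] at hc
      have := hcomm c hc
      rw [hc _ hgs] at this
      exact hcx ((g : Perm (Fin n)).injective this.symm)
    · have ht : 3 ≤ (sᶜ.erase x).card := by
        rw [Finset.card_erase_of_mem (Finset.mem_compl.mpr hx)]; omega
      obtain ⟨c, hc, hcx⟩ := exists_three (sᶜ.erase x) ht
        (Finset.mem_erase.mpr ⟨hgx, Finset.mem_compl.mpr hgs⟩)
      have hcs : c ∈ fixS s := fun y hy => hc y (by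
        simp only [Finset.mem_compl, Finset.mem_erase]; exact fun h => h.2 hy)
      have := hcomm c hcs
      rw [hc x (by simp)] at this
      exact hcx this
  · intro hg
    rw [Subgroup.mem_centralizer_iff]
    intro c hc
    refine Subtype.ext ?_
    show (c : Perm (Fin n)) * (g : Perm (Fin n)) = g * c
    refine (Disjoint.commute fun x => ?_).eq
    by_cases hx : x ∈ s
    · exact Or.inl (hc x hx)
    · exact Or.inr (hg x (Finset.mem_compl.mpr hx))

theorem no_involution {g : (AA n)} {t : Finset (Fin n)} (ht : t.card ≤ 3) (hg : g ∈ fixS tᶜ)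
    (h2 : g * g = 1) : g = 1 := by
  by_contra h1
  obtain ⟨x, hx⟩ : ∃ x, (g : Perm (Fin n)) x ≠ x := by
    by_contra h
    push Not at h
    exact h1 (Subtype.ext (Equiv.ext h))
  have hgg : ∀ y, (g : Perm (Fin n)) ((g : Perm (Fin n)) y) = y := fun y =>
    congrArg (fun k : (AA n) => (k : Perm (Fin n)) y) h2
  have hmem : ∀ y, (g : Perm (Fin n)) y ≠ y → y ∈ t := fun y hy => by
    by_contra h
    exact hy (hg y (Finset.mem_compl.mpr h))
  set y := (g : Perm (Fin n)) x with hy
  have hsw : (g : Perm (Fin n)) = swap x y := by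
    refine Equiv.ext fun z => ?_
    by_cases hzx : z = x
    · rw [hzx, swap_apply_left]
    by_cases hzy : z = y
    · rw [hzy, swap_apply_right]; exact hgg x
    rw [swap_apply_of_ne_of_ne hzx hzy]
    by_contra hz
    set w := (g : Perm (Fin n)) z with hw
    have hwx : w ≠ x := fun e => hzy (by rw [hy, ← e]; exact (hgg z).symm)
    have hwy : w ≠ y := fun e => hzx ((g : Perm (Fin n)).injective e)
    have hsub : ({x, y, z, w} : Finset (Fin n)) ⊆ t := by
      intro u hu
      simp only [Finset.mem_insert, Finset.mem_singleton] at hu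
      rcases hu with rfl | rfl | rfl | rfl
      · exact hmem _ hx
      · exact hmem _ (by rw [hy, hgg]; exact hx.symm)
      · exact hmem _ hz
      · exact hmem _ (by rw [hw, hgg]; exact Ne.symm hz)
    have := Finset.card_le_card hsub
    rw [Finset.card_insert_of_notMem (by
        simp only [Finset.mem_insert, Finset.mem_singleton]; push Not
        exact ⟨hx.symm, Ne.symm hzx, hwx.symm⟩),
      Finset.card_insert_of_notMem (by
        simp only [Finset.mem_insert, Finset.mem_singleton]; push Not
        exact ⟨Ne.symm hzy, hwy.symm⟩),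
      Finset.card_insert_of_notMem (by rw [Finset.mem_singleton]; exact Ne.symm hz),
      Finset.card_singleton] at this
    omega
  have := g.2
  rw [mem_alternatingGroup, hsw, sign_swap hx.symm] at this
  exact absurd this (by decide)

theorem even_card_fixS {s : Finset (Fin n)} (hs : s.card = 4) : Even (Nat.card (fixS sᶜ)) := by
  obtain ⟨a, ha⟩ : s.Nonempty := Finset.card_pos.mp (by omega)
  obtain ⟨b, hb, hba⟩ := s.exists_mem_ne (by omega) a
  obtain ⟨c, hc, d, hd, hcd⟩ := Finset.one_lt_card.mp (show 1 < ((s.erase a).erase b).card by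
    rw [Finset.card_erase_of_mem (Finset.mem_erase.mpr ⟨hba, hb⟩), Finset.card_erase_of_mem ha]; omega)
  simp only [Finset.mem_erase] at hc hd
  have hmem : swap a b * swap c d ∈ alternatingGroup (Fin n) := by
    rw [mem_alternatingGroup, map_mul, sign_swap hba.symm, sign_swap hcd]; rfl
  let g : (AA n) := ⟨swap a b * swap c d, hmem⟩
  have hg : g ∈ fixS sᶜ := fun x hx => by
    rw [Finset.mem_compl] at hx
    show (swap a b * swap c d) x = x
    rw [Perm.mul_apply, swap_apply_of_ne_of_ne (fun e : x = c => hx (e ▸ hc.2.2)) (fun e : x = d => hx (e ▸ hd.2.2)),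
      swap_apply_of_ne_of_ne (fun e : x = a => hx (e ▸ ha)) (fun e : x = b => hx (e ▸ hb))]
  have h2 : orderOf (⟨g, hg⟩ : fixS sᶜ) = 2 := by
    rw [← Subgroup.orderOf_coe, ← Subgroup.orderOf_coe]
    refine orderOf_eq_prime ?_ ?_
    · show (swap a b * swap c d) ^ 2 = 1
      have hd' : Disjoint (swap a b) (swap c d) := fun x => by
        by_cases h1 : x = a ∨ x = b
        · right
          rcases h1 with rfl | rfl
          · exact swap_apply_of_ne_of_ne hc.2.1.symm hd.2.1.symm
          · exact swap_apply_of_ne_of_ne hc.1.symm hd.1.symm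
        · push Not at h1
          exact Or.inl (swap_apply_of_ne_of_ne h1.1 h1.2)
      rw [hd'.commute.mul_pow, pow_two, pow_two, swap_mul_self, swap_mul_self, one_mul]
    · intro e
      have := congrArg (fun k : Perm (Fin n) => k a) e
      simp only [Perm.one_apply] at this
      rw [show ((g : (AA n)) : Perm (Fin n)) a = (swap a b * swap c d) a from rfl, Perm.mul_apply,
        swap_apply_of_ne_of_ne hc.2.1.symm hd.2.1.symm, swap_apply_left] at this
      exact hba this
  rw [even_iff_two_dvd, ← h2]
  exact orderOf_dvd_natCard _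

theorem image_compl_perm (s : Finset (Fin n)) (e : Perm (Fin n)) : sᶜ.image e = (s.image e)ᶜ := by
  ext x
  obtain ⟨y, rfl⟩ := e.surjective x
  simp

/-- The alternating group on the other points. -/
noncomputable def altEquiv (s : Finset (Fin n)) :
    ↥(alternatingGroup {x // x ∉ s}) ≃* ↥(fixS s) := by
  refine MulEquiv.ofBijective
    (show ↥(alternatingGroup {x // x ∉ s}) →* ↥(fixS s) from
    { toFun := fun f => ⟨⟨ofSubtype (f : Perm {x // x ∉ s}), by
          rw [mem_alternatingGroup, sign_ofSubtype]; exact f.2⟩,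
        fun x hx => ofSubtype_apply_of_not_mem _ (not_not.mpr hx)⟩
      map_one' := Subtype.ext (Subtype.ext (map_one _))
      map_mul' := fun f g => Subtype.ext (Subtype.ext (map_mul _ _ _)) }) ⟨fun f g h => ?_, fun g => ?_⟩
  · exact Subtype.ext (ofSubtype_injective (congrArg (fun k : fixS s => ((k : (AA n)) : Perm (Fin n))) h))
  · have h1 : ∀ x, ((g : (AA n)) : Perm (Fin n)) x ∉ s ↔ x ∉ s := by
      intro x
      constructor
      · intro h hx; exact h (by rw [g.2 x hx]; exact hx)
      · intro h hx
        have := g.2 _ hx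
        exact h (((g : (AA n)) : Perm (Fin n)).injective this ▸ hx)
    have h2 : ∀ x, ((g : (AA n)) : Perm (Fin n)) x ≠ x → x ∉ s := fun x hx h => hx (g.2 x h)
    refine ⟨⟨((g : (AA n)) : Perm (Fin n)).subtypePerm h1, ?_⟩, ?_⟩
    · rw [mem_alternatingGroup, ← sign_ofSubtype, ofSubtype_subtypePerm h1 h2]; exact (g : (AA n)).2
    · exact Subtype.ext (Subtype.ext (ofSubtype_subtypePerm h1 h2))

theorem isStandard (hn : 9 ≤ n) {s : Finset (Fin n)} (hs : s.card = 4) :
    Cfsg.IsStandardSubgroup (fixS s) := by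
  have hsc : 5 ≤ sᶜ.card := by rw [Finset.card_compl, Fintype.card_fin, hs]; omega
  have hC := centralizer_fixS (s := s) (by omega)
  have hstab : ∀ g : (AA n), (g ∈ Subgroup.normalizer (fixS s : Set (AA n)) ↔
      s.image (g : Perm (Fin n)) = s) ∧
      (g ∈ Subgroup.normalizer (fixS sᶜ : Set (AA n)) ↔ s.image (g : Perm (Fin n)) = s) := by
    intro g
    have key : ∀ K : Subgroup (AA n), g ∈ Subgroup.normalizer (K : Set (AA n)) ↔
        K.map (MulAut.conj g).toMonoidHom = K := by
      intro K
      rw [Subgroup.mem_normalizer_iff]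
      constructor
      · intro h
        ext x
        rw [mem_map_conj, h, show g * (g⁻¹ * x * g) * g⁻¹ = x by group]
      · intro h x
        conv_rhs => rw [← h, mem_map_conj, show g⁻¹ * (g * x * g⁻¹) * g = x by group]
    have hcard : (s.image (g : Perm (Fin n))).card = s.card :=
      Finset.card_image_of_injective _ (g : Perm (Fin n)).injective
    have hcompl : sᶜ.image (g : Perm (Fin n)) = (s.image (g : Perm (Fin n)))ᶜ := by
      rw [image_compl_perm]
    rw [key, key, map_fixS, map_fixS, hcompl]
    refine ⟨⟨fun h => ?_, fun h => by rw [h]⟩, ⟨fun h => ?_, fun h => by rw [h]⟩⟩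
    · exact Finset.eq_of_subset_of_card_le (subset_of_le (by omega) h.ge) (by rw [hcard])
    · have h1 := subset_of_le (s := sᶜ) (by rw [compl_compl]; omega) h.ge
      rw [Finset.compl_subset_compl] at h1
      exact (Finset.eq_of_subset_of_card_le h1 (by rw [hcard])).symm
  refine ⟨?_, ⟨?_, fun g hg => ?_⟩, fun g hg hcomm => ?_, ?_⟩
  · haveI : IsSimpleGroup ↥(alternatingGroup {x // x ∉ s}) :=
      alternatingGroup.isSimpleGroup (by
        rw [Nat.card_eq_fintype_card, Fintype.card_subtype_compl, Fintype.card_fin, Fintype.card_coe, hs]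
        omega)
    refine Cfsg.Agent.Local.qs_congr ?_ (altEquiv s)
    have hna : ¬ IsMulCommutative ↥(alternatingGroup {x // x ∉ s}) := by
      intro hcm
      obtain ⟨a, ha, b, hb, hab⟩ := Finset.one_lt_card.mp (show 1 < sᶜ.card by omega)
      have hC2 := centralizer_fixS (s := s) (by omega)
      obtain ⟨c, hc, hca⟩ := exists_three sᶜ (by omega) ha
      rw [compl_compl] at hc
      have hcC : c ∈ Subgroup.centralizer (fixS s : Set (AA n)) := by
        intro d hd
        have := congrArg (fun k : ↥(alternatingGroup {x // x ∉ s}) => ((altEquiv s k : fixS s) : (AA n)))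
          (hcm.is_comm.comm ((altEquiv s).symm ⟨d, hd⟩) ((altEquiv s).symm ⟨c, hc⟩))
        simpa using this
      rw [hC2] at hcC
      exact hca (hcC a ha)
    have hcen : Subgroup.center ↥(alternatingGroup {x // x ∉ s}) = ⊥ :=
      ((inferInstance : (Subgroup.center ↥(alternatingGroup {x // x ∉ s})).Normal).eq_bot_or_eq_top).resolve_right
        fun h => hna ⟨⟨fun x y => (Subgroup.mem_center_iff.mp (h.ge (Subgroup.mem_top x)) y).symm⟩⟩
    refine ⟨⟨?_⟩, ?_⟩
    · refine (Subgroup.Normal.eq_bot_or_eq_top (inferInstance : (commutator ↥(alternatingGroup {x // x ∉ s})).Normal)).resolve_left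
        fun h => hna ⟨⟨fun x y => ?_⟩⟩
      have := Subgroup.commutator_mem_commutator (Subgroup.mem_top x) (Subgroup.mem_top y)
      rw [← commutator_def, h, Subgroup.mem_bot] at this
      exact commutatorElement_eq_one_iff_mul_comm.mp this
    · exact (QuotientGroup.quotientMulEquivOfEq hcen).trans QuotientGroup.quotientBot |>.isSimpleGroup
  · rw [hC]; exact even_card_fixS hs
  · rw [hC] at hg ⊢
    rw [(hstab g).2] at hg
    rw [map_fixS, image_compl_perm]
    rw [← Nat.not_even_iff_odd, even_iff_two_dvd]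
    intro h2
    haveI : Fact (Nat.Prime 2) := ⟨Nat.prime_two⟩
    obtain ⟨⟨x, hx1, hx2⟩, hx⟩ := exists_prime_orderOf_dvd_card' 2 h2
    rw [← Subgroup.orderOf_coe] at hx
    simp only at hx
    have hxx : x * x = 1 := by rw [← pow_two, ← hx, pow_orderOf_eq_one]
    have hne : x ≠ 1 := fun e => by rw [e, orderOf_one] at hx; omega
    refine hne (no_involution (t := s ∩ s.image (g : Perm (Fin n))) ?_ ?_ hxx)
    · have h3 : s ∩ s.image (g : Perm (Fin n)) ⊂ s := by
        refine Finset.ssubset_iff_subset_ne.mpr ⟨Finset.inter_subset_left, fun e => hg ?_⟩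
        refine (Finset.eq_of_subset_of_card_le ?_ ?_).symm
        · exact e.ge.trans Finset.inter_subset_right
        · rw [Finset.card_image_of_injective _ (g : Perm (Fin n)).injective]
      have := Finset.card_lt_card h3
      omega
    · intro y hy
      rw [Finset.compl_inter, Finset.mem_union] at hy
      rcases hy with hy | hy
      · exact hx1 y hy
      · exact hx2 y hy
  · rw [map_fixS] at hcomm hg
    have hle : fixS (s.image (g : Perm (Fin n))) ≤ fixS sᶜ := by
      rw [← hC, ← Subgroup.commutator_eq_bot_iff_le_centralizer, Subgroup.commutator_comm]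
      exact hcomm
    have h1 := subset_of_le (by
      rw [Finset.card_compl, Fintype.card_fin, Finset.card_image_of_injective _ (g : Perm (Fin n)).injective]
      omega) hle
    have := Finset.card_le_card h1
    rw [Finset.card_image_of_injective _ (g : Perm (Fin n)).injective] at this
    omega
  · rw [hC]
    ext g
    rw [(hstab g).1, (hstab g).2]

theorem iInf_stabilizer (h4 : 4 ≤ n) :
    (⨅ i : Fin 4, MulAction.stabilizer (AA n) (Fin.castLE h4 i : Fin n)) =
      fixS (Finset.univ.image (Fin.castLE h4)) := by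
  ext g
  simp only [Subgroup.mem_iInf, MulAction.mem_stabilizer_iff, mem_fixS, Finset.forall_mem_image,
    Finset.mem_univ, forall_const]
  rfl

end Cfsg.Agent.AltStandard
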