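import Mathlib

/-!
When are the Sylow subgroups of an alternating group abelian?
-/

set_option autoImplicit false

namespace Cfsg.Agent.AltSylow

variable {p : ℕ} [Fact p.Prime]

/-- Permutations of `ZMod p × ZMod p` of the shape `(i, j) ↦ (i + c, j + f i)`. -/
def wr (p : ℕ) [Fact p.Prime] : Subgroup (Equiv.Perm (ZMod p × ZMod p)) where
  carrier := {σ | ∃ (c : ZMod p) (f : ZMod p → ZMod p), ∀ x, σ x = (x.1 + c, x.2 + f x.1)}
  one_mem' := ⟨0, 0, fun x => by simp⟩
  mul_mem' := by
    rintro σ τ ⟨c, f, h⟩ ⟨d, g, h'⟩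
    exact ⟨d + c, fun i => g i + f (i + d), fun x => by
      rw [Equiv.Perm.mul_apply, h', h]; simp only [add_assoc]⟩
  inv_mem' := by
    rintro σ ⟨c, f, h⟩
    refine ⟨-c, fun i => -f (i - c), fun x => ?_⟩
    rw [Equiv.Perm.inv_eq_iff_eq, h]
    simp only [sub_eq_add_neg, neg_add_cancel_right, add_assoc, neg_add_cancel, add_zero]

theorem wr_isPGroup : IsPGroup p (wr p) := by
  rintro ⟨σ, c, f, h⟩
  refine ⟨2, Subtype.ext (Equiv.ext fun x => ?_)⟩
  have hk : ∀ (k : ℕ) (x : ZMod p × ZMod p),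
      (σ ^ k) x = (x.1 + k • c, x.2 + ∑ l ∈ Finset.range k, f (x.1 + l • c)) := by
    intro k
    induction k with
    | zero => intro x; simp
    | succ k ih =>
      intro x
      rw [pow_succ', Equiv.Perm.mul_apply, ih, h, Finset.sum_range_succ, succ_nsmul]
      simp only [add_assoc]
  have hpp : ∀ z : ZMod p, p • z = 0 := fun z => by rw [nsmul_eq_mul, ZMod.natCast_self, zero_mul]
  have hp1 : ∀ y : ZMod p × ZMod p,
      (σ ^ p) y = (y.1, y.2 + ∑ l ∈ Finset.range p, f (y.1 + l • c)) := fun y => by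
    rw [hk, hpp, add_zero]
  have hm : ∀ (m : ℕ) (y : ZMod p × ZMod p),
      ((σ ^ p) ^ m) y = (y.1, y.2 + m • ∑ l ∈ Finset.range p, f (y.1 + l • c)) := by
    intro m
    induction m with
    | zero => intro y; simp
    | succ m ih => intro y; rw [pow_succ', Equiv.Perm.mul_apply, ih, hp1, succ_nsmul, add_assoc]
  show (σ ^ p ^ 2) x = x
  rw [pow_two, pow_mul, hm, hpp, add_zero]

theorem wr_not_comm : ∃ a b : wr p, a * b ≠ b * a := by
  classical
  refine ⟨⟨Equiv.addRight ((1 : ZMod p), (0 : ZMod p)), 1, 0, fun x => by simp [Prod.ext_iff]⟩,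
    ⟨{ toFun := fun x => (x.1, x.2 + if x.1 = 0 then 1 else 0)
       invFun := fun x => (x.1, x.2 - if x.1 = 0 then 1 else 0)
       left_inv := fun x => by simp
       right_inv := fun x => by simp },
     0, fun i => if i = 0 then 1 else 0, fun x => by simp⟩, fun h => ?_⟩
  have h' := Equiv.ext_iff.1 (congrArg Subtype.val h) (0, 0)
  simp [Equiv.Perm.mul_apply] at h'

/-- An odd-order permutation is even. -/
theorem sign_eq_one {α : Type*} [Fintype α] [DecidableEq α] {σ : Equiv.Perm α} {m : ℕ} (hm : Odd m)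
    (h : σ ^ m = 1) : Equiv.Perm.sign σ = 1 := by
  have e := congrArg Equiv.Perm.sign h
  rw [map_pow, map_one] at e
  rcases Int.units_eq_one_or (Equiv.Perm.sign σ) with h1 | h1
  · exact h1
  · rw [h1, hm.neg_one_pow] at e
    exact absurd e (by decide)

/-- The sign as a transposition of two new points. -/
def eps : ℤˣ →* Equiv.Perm (Fin 2) :=
  MonoidHom.mk' (fun u => if u = 1 then 1 else Equiv.swap 0 1) (by decide)

theorem exists_nonabelian {n : ℕ} (hn : 6 ≤ n) (hp : p ^ 2 ≤ n) :
    ∃ Φ : wr p →* alternatingGroup (Fin n), Function.Injective Φ := by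
  classical
  rcases (Fact.out : p.Prime).eq_two_or_odd' with rfl | hodd
  · obtain ⟨e⟩ : Nonempty ((ZMod 2 × ZMod 2) ⊕ Fin 2 ↪ Fin n) :=
      Function.Embedding.nonempty_of_card_le (by simp; omega)
    let g : wr 2 →* Equiv.Perm ((ZMod 2 × ZMod 2) ⊕ Fin 2) :=
      (Equiv.Perm.sumCongrHom _ _).comp ((MonoidHom.id _).prod (eps.comp Equiv.Perm.sign) |>.comp (wr 2).subtype)
    refine ⟨((Equiv.Perm.viaEmbeddingHom e).comp g).codRestrict _ (fun σ => ?_), fun a b h => ?_⟩
    · rw [Equiv.Perm.mem_alternatingGroup]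
      show Equiv.Perm.sign (Equiv.Perm.viaEmbedding (g σ) e) = 1
      rw [Equiv.Perm.viaEmbedding, Equiv.Perm.sign_extendDomain]
      show Equiv.Perm.sign (Equiv.sumCongr (σ : Equiv.Perm (ZMod 2 × ZMod 2))
        (eps (Equiv.Perm.sign (σ : Equiv.Perm (ZMod 2 × ZMod 2))))) = 1
      rw [Equiv.Perm.sign_sumCongr]
      rcases Int.units_eq_one_or (Equiv.Perm.sign (σ : Equiv.Perm (ZMod 2 × ZMod 2))) with h1 | h1 <;>
        rw [h1] <;> simp [eps]
    · have h' := Equiv.Perm.sumCongrHom_injective (Equiv.Perm.viaEmbeddingHom_injective e (congrArg Subtype.val h))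
      exact Subtype.ext (congrArg Prod.fst h')
  · obtain ⟨e⟩ : Nonempty (ZMod p × ZMod p ↪ Fin n) :=
      Function.Embedding.nonempty_of_card_le (by simp [← pow_two, hp])
    refine ⟨((Equiv.Perm.viaEmbeddingHom e).comp (wr p).subtype).codRestrict _ (fun σ => ?_), fun a b h => ?_⟩
    · rw [Equiv.Perm.mem_alternatingGroup]
      obtain ⟨k, hk⟩ := wr_isPGroup σ
      exact sign_eq_one (hodd.pow (n := k)) (by rw [← map_pow, hk, map_one])
    · exact Subtype.ext (Equiv.Perm.viaEmbeddingHom_injective e (congrArg Subtype.val h))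

/-- Products of disjoint cycles. -/
def cyc (k p : ℕ) : Multiplicative (Fin k → ZMod p) →* Equiv.Perm (Fin k × ZMod p) :=
  MonoidHom.mk'
    (fun f =>
      { toFun := fun x => (x.1, x.2 + f.toAdd x.1)
        invFun := fun x => (x.1, x.2 - f.toAdd x.1)
        left_inv := fun x => by simp
        right_inv := fun x => by simp })
    fun f g => Equiv.ext fun x => by
      show (x.1, x.2 + (f * g).toAdd x.1) = (x.1, (x.2 + g.toAdd x.1) + f.toAdd x.1)
      rw [toAdd_mul, Pi.add_apply]
      exact Prod.ext rfl (by abel)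

theorem sylow_comm {n : ℕ} (hn : 6 ≤ n) (hp : n < p ^ 2) (S : Sylow p (alternatingGroup (Fin n))) :
    IsMulCommutative (S : Subgroup (alternatingGroup (Fin n))) := by
  classical
  have hpr : p.Prime := Fact.out
  have hodd : Odd p := hpr.odd_of_ne_two (fun h => by rw [h] at hp; omega)
  obtain ⟨e⟩ : Nonempty (Fin (n / p) × ZMod p ↪ Fin n) :=
    Function.Embedding.nonempty_of_card_le (by simp [Nat.div_mul_le_self])
  let θ : Multiplicative (Fin (n / p) → ZMod p) →* alternatingGroup (Fin n) :=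
    ((Equiv.Perm.viaEmbeddingHom e).comp (cyc (n / p) p)).codRestrict _ fun f => by
      rw [Equiv.Perm.mem_alternatingGroup]
      refine sign_eq_one hodd ?_
      rw [← map_pow, show f ^ p = 1 from Multiplicative.toAdd.injective (by
        rw [toAdd_pow, toAdd_one]; funext i
        rw [Pi.smul_apply, nsmul_eq_mul, ZMod.natCast_self, zero_mul]; rfl), map_one]
  have hθ : Function.Injective θ := fun a b h => by
    have h' := Equiv.Perm.viaEmbeddingHom_injective e (congrArg Subtype.val h)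
    refine Multiplicative.toAdd.injective (funext fun i => ?_)
    have e1 := congrArg Prod.snd (Equiv.ext_iff.1 h' (i, 0))
    simpa [cyc] using e1
  have hcard : Nat.card θ.range = p ^ (n / p) := by
    rw [← Nat.card_congr (MonoidHom.ofInjective hθ).toEquiv, Nat.card_congr Multiplicative.toAdd,
      Nat.card_fun, Nat.card_zmod, Nat.card_fin]
  have hcardS : Nat.card S = p ^ (n / p) := by
    rw [S.card_eq_multiplicity]
    haveI : Nontrivial (Fin n) := Fin.nontrivial_iff_two_le.2 (by omega)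
    have h2 : 2 * Nat.card (alternatingGroup (Fin n)) = n.factorial := by
      rw [Nat.card_eq_fintype_card, two_mul_card_alternatingGroup, Fintype.card_perm, Fintype.card_fin]
    have h3 := congrArg (fun m => Nat.factorization m p) h2
    rw [Nat.factorization_mul (by norm_num) Nat.card_pos.ne', Finsupp.add_apply,
      Nat.factorization_eq_zero_of_not_dvd (fun h => by
        have := (Nat.prime_dvd_prime_iff_eq hpr Nat.prime_two).1 h
        rw [this] at hodd; exact absurd hodd (by decide)), zero_add,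
      Nat.factorization_factorial hpr (b := 2) (Nat.log_lt_of_lt_pow (by omega) hp)] at h3
    rw [h3]
    simp
  haveI hcomm : IsMulCommutative θ.range := ⟨⟨fun a b => by
    obtain ⟨x, hx⟩ := a.2
    obtain ⟨y, hy⟩ := b.2
    refine Subtype.ext ?_
    rw [Subgroup.coe_mul, Subgroup.coe_mul, ← hx, ← hy, ← map_mul, ← map_mul, mul_comm]⟩⟩
  obtain ⟨T, hT⟩ := (IsPGroup.of_card hcard).exists_le_sylow
  have hT' : θ.range = T := Subgroup.eq_of_le_of_card_ge hT (by
    rw [hcard, show Nat.card (T : Subgroup (alternatingGroup (Fin n))) = _ from T.card_eq_multiplicity,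
      ← S.card_eq_multiplicity, hcardS])
  have eTS := Sylow.equiv S T
  exact ⟨⟨fun a b => eTS.injective (by
    rw [map_mul, map_mul]
    have hc := hcomm.is_comm.comm ⟨eTS a, hT'.symm ▸ (eTS a).2⟩ ⟨eTS b, hT'.symm ▸ (eTS b).2⟩
    exact Subtype.ext (congrArg (fun z : θ.range => (z : alternatingGroup (Fin n))) hc))⟩⟩

theorem not_comm {n : ℕ} (hn : 6 ≤ n) (hp : p ^ 2 ≤ n) (S : Sylow p (alternatingGroup (Fin n))) :
    ¬ IsMulCommutative (S : Subgroup (alternatingGroup (Fin n))) := by
  intro hS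
  obtain ⟨Φ, hΦ⟩ := exists_nonabelian hn hp
  obtain ⟨a, b, hab⟩ := wr_not_comm (p := p)
  have hP : IsPGroup p Φ.range := by
    rintro ⟨_, x, rfl⟩
    obtain ⟨k, hk⟩ := wr_isPGroup x
    exact ⟨k, Subtype.ext (by rw [SubmonoidClass.coe_pow, ← map_pow, hk, map_one]; rfl)⟩
  obtain ⟨T, hT⟩ := hP.exists_le_sylow
  have eTS := Sylow.equiv T S
  have hc : ∀ u v : (T : Subgroup (alternatingGroup (Fin n))), u * v = v * u := fun u v =>
    eTS.injective (by rw [map_mul, map_mul]; exact hS.is_comm.comm _ _)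
  have := congrArg Subtype.val (hc ⟨Φ a, hT ⟨a, rfl⟩⟩ ⟨Φ b, hT ⟨b, rfl⟩⟩)
  exact hab (hΦ (by rw [map_mul, map_mul]; exact this))

end Cfsg.Agent.AltSylow
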