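import Mathlib.GroupTheory.SpecificGroups.Alternating
import Mathlib.GroupTheory.Perm.ViaEmbedding
import Cfsg.Agent.S2477

/-! Automorphisms of alternating groups of degree other than six. -/

namespace Cfsg.Agent.Perm

open Equiv

variable {α : Type*} [DecidableEq α]

/-- the cycle `a ↦ b ↦ c ↦ a` -/
def cyc (a b c : α) : Perm α := swap a c * swap a b

theorem cyc_apply_left {a b c : α} (hab : a ≠ b) (hbc : b ≠ c) : cyc a b c a = b := by
  simp [cyc, swap_apply_of_ne_of_ne hab.symm hbc]

theorem cyc_apply_mid {a b c : α} : cyc a b c b = c := by simp [cyc]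

theorem cyc_apply_right {a b c : α} (hac : a ≠ c) (hbc : b ≠ c) : cyc a b c c = a := by
  simp [cyc, swap_apply_of_ne_of_ne hac.symm hbc.symm]

theorem cyc_apply_other {a b c x : α} (h1 : x ≠ a) (h2 : x ≠ b) (h3 : x ≠ c) : cyc a b c x = x := by
  simp [cyc, swap_apply_of_ne_of_ne h1 h2, swap_apply_of_ne_of_ne h1 h3]

theorem conj_cyc (g : Perm α) (a b c : α) : g * cyc a b c * g⁻¹ = cyc (g a) (g b) (g c) := by
  rw [cyc, cyc, swap_apply_apply, swap_apply_apply]; group

theorem cyc_inv (a b c : α) (hab : a ≠ b) (hac : a ≠ c) (hbc : b ≠ c) : (cyc a b c)⁻¹ = cyc a c b := by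
  rw [inv_eq_iff_mul_eq_one]
  ext x
  rw [Perm.mul_apply, Perm.one_apply]
  by_cases h1 : x = a
  · subst h1; rw [cyc_apply_left hac hbc.symm, cyc_apply_right hac hbc]
  by_cases h2 : x = b
  · subst h2; rw [cyc_apply_right hab hbc.symm, cyc_apply_left hab hbc]
  by_cases h3 : x = c
  · subst h3; rw [cyc_apply_mid, cyc_apply_mid]
  rw [cyc_apply_other h1 h3 h2, cyc_apply_other h1 h2 h3]

theorem cyc_rotate (a b c : α) (hab : a ≠ b) (hac : a ≠ c) (hbc : b ≠ c) : cyc a b c = cyc b c a := by
  ext x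
  by_cases h1 : x = a
  · subst h1; rw [cyc_apply_left hab hbc, cyc_apply_right hab.symm hac.symm]
  by_cases h2 : x = b
  · subst h2; rw [cyc_apply_mid, cyc_apply_left hbc hac.symm]
  by_cases h3 : x = c
  · subst h3; rw [cyc_apply_right hac hbc, cyc_apply_mid]
  rw [cyc_apply_other h1 h2 h3, cyc_apply_other h2 h3 h1]

variable [Fintype α]

theorem isThreeCycle_cyc {a b c : α} (hab : a ≠ b) (hac : a ≠ c) (hbc : b ≠ c) :
    (cyc a b c).IsThreeCycle :=
  Perm.isThreeCycle_swap_mul_swap_same hac hab hbc.symm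

theorem mem_support_of_apply {x : Perm α} {a : α} (ha : a ∈ x.support) : x a ∈ x.support :=
  Perm.apply_mem_support.2 ha

theorem eq_cyc_of_isThreeCycle {x : Perm α} (h : x.IsThreeCycle) {a : α} (ha : x a ≠ a) :
    a ≠ x a ∧ a ≠ x (x a) ∧ x a ≠ x (x a) ∧ x (x (x a)) = a ∧ x = cyc a (x a) (x (x a)) := by
  have h3 : x ^ 3 = 1 := orderOf_dvd_iff_pow_eq_one.1 (dvd_of_eq h.orderOf)
  have hcube : ∀ z, x (x (x z)) = z := fun z => by
    have := congrArg (fun p : Perm α => p z) h3
    simpa [pow_succ] using this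
  have h1 : a ≠ x a := Ne.symm ha
  have h2 : x a ≠ x (x a) := fun e => h1 (x.injective e)
  have h3' : a ≠ x (x a) := fun e => ha (by conv_rhs => rw [← hcube a, ← e])
  refine ⟨h1, h3', h2, hcube a, ?_⟩
  have hsupp : x.support = {a, x a, x (x a)} := by
    refine (Finset.eq_of_subset_of_card_le ?_ ?_).symm
    · intro z hz
      simp only [Finset.mem_insert, Finset.mem_singleton] at hz
      have hm : a ∈ x.support := Perm.mem_support.2 ha
      rcases hz with rfl | rfl | rfl
      · exact hm
      · exact mem_support_of_apply hm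
      · exact mem_support_of_apply (mem_support_of_apply hm)
    · rw [h.card_support, Finset.card_insert_of_notMem (by simp [h1, h3']), Finset.card_pair h2]
  ext z
  by_cases e1 : z = a
  · subst e1; rw [cyc_apply_left h1 h2]
  by_cases e2 : z = x a
  · subst e2; rw [cyc_apply_mid]
  by_cases e3 : z = x (x a)
  · subst e3; rw [hcube, cyc_apply_right h3' h2]
  rw [cyc_apply_other e1 e2 e3]
  exact Perm.notMem_support.1 (by rw [hsupp]; simp [e1, e2, e3])

/-- two three-cycles with product of order at most two share an oriented edge -/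
theorem exists_common_edge {u v : Perm α} (hu : u.IsThreeCycle) (hv : v.IsThreeCycle)
    (huv : u * v ≠ 1) (h2 : (u * v) * (u * v) = 1) : ∃ a, u a ≠ a ∧ u a = v a := by
  have happ : ∀ z, u (v (u (v z))) = z := fun z => by
    have := congrArg (fun p : Perm α => p z) h2
    simpa [Perm.mul_apply] using this
  obtain ⟨a, hua, hva⟩ : ∃ a, u a ≠ a ∧ v a ≠ a := by
    by_contra h
    simp only [not_exists, not_and, not_not] at h
    have hd : Perm.Disjoint u v := fun z => by
      by_cases hz : u z = z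
      · exact Or.inl hz
      · exact Or.inr (h z hz)
    have hc := hd.commute
    have h3u : u ^ 3 = 1 := orderOf_dvd_iff_pow_eq_one.1 (dvd_of_eq hu.orderOf)
    have h3v : v ^ 3 = 1 := orderOf_dvd_iff_pow_eq_one.1 (dvd_of_eq hv.orderOf)
    have h3 : (u * v) ^ 3 = 1 := by rw [hc.mul_pow, h3u, h3v, mul_one]
    rw [pow_succ, pow_two, h2, one_mul] at h3
    exact huv h3
  obtain ⟨hab, hac, hbc, hu3, huc⟩ := eq_cyc_of_isThreeCycle hu hua
  obtain ⟨hae, haf, hef, hv3, hvc⟩ := eq_cyc_of_isThreeCycle hv hva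
  set b := u a with hb
  set c := u b with hc
  set e := v a with he
  set f := v e with hf
  by_cases heb : e = b
  · exact ⟨a, hua, heb.symm⟩
  by_cases hec : e = c
  · by_cases hfb : f = b
    · exfalso
      refine huv ?_
      rw [hvc, hec, hfb, ← cyc_inv a b c hab hac hbc, ← huc, mul_inv_cancel]
    · -- `v = (a c f)` shares `c → a` with `u` unless the product has larger order
      exfalso
      have hfa : f ≠ a := haf.symm
      have hfc : f ≠ c := fun h => hef (hec.trans h.symm)
      have huf : u f = f := by rw [huc]; exact cyc_apply_other hfa hfb hfc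
      have hvb : v b = b := by rw [hvc]; exact cyc_apply_other hab.symm (hec ▸ hbc) (Ne.symm hfb)
      have e1 : u (v c) = f := by rw [← hec, ← hf, huf]
      have e2 : u (v f) = b := by rw [hv3]
      have := happ c
      rw [e1, e2] at this
      exact hbc this
  have hea : e ≠ a := hae.symm
  have hue : u e = e := by rw [huc]; exact cyc_apply_other hea heb hec
  have e1 : u (v a) = e := by rw [← he, hue]
  have hh := happ a
  rw [e1, ← hf] at hh
  by_cases hfb : f = b
  · exfalso; rw [hfb, ← hc] at hh; exact hac hh.symm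
  by_cases hfc : f = c
  · refine ⟨c, ?_, ?_⟩
    · rw [hu3]; exact hac
    · rw [hu3]; conv_rhs => rw [← hfc, hv3]
  · exfalso
    rw [show u f = f from by rw [huc]; exact cyc_apply_other haf.symm hfb hfc] at hh
    exact haf hh.symm

theorem three_cycle_mul_order {u v : Perm α} (hu : u.IsThreeCycle) (hv : v.IsThreeCycle) :
    orderOf (u * v) = 1 ∨ orderOf (u * v) = 2 ∨ orderOf (u * v) = 3 ∨ orderOf (u * v) = 5 := by
  have h3u : u ^ 3 = 1 := orderOf_dvd_iff_pow_eq_one.1 (dvd_of_eq hu.orderOf)
  have h3v : v ^ 3 = 1 := orderOf_dvd_iff_pow_eq_one.1 (dvd_of_eq hv.orderOf)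
  by_cases hd : Perm.Disjoint u v
  · have h3 : (u * v) ^ 3 = 1 := by rw [hd.commute.mul_pow, h3u, h3v, mul_one]
    rcases (Nat.dvd_prime Nat.prime_three).1 (orderOf_dvd_of_pow_eq_one h3) with h | h
    · exact Or.inl h
    · exact Or.inr (Or.inr (Or.inl h))
  · have hsum : (u * v).cycleType.sum ≤ 5 := by
      rw [Perm.sum_cycleType]
      refine (Finset.card_le_card (Perm.support_mul_le u v)).trans ?_
      have h1 := Finset.card_union_add_card_inter u.support v.support
      rw [hu.card_support, hv.card_support] at h1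
      have h2 : (u.support ∩ v.support).card ≠ 0 := fun e => hd (Perm.disjoint_iff_disjoint_support.2
        (Finset.disjoint_iff_inter_eq_empty.2 (Finset.card_eq_zero.1 e)))
      show (u.support ∪ v.support).card ≤ 5
      omega
    have hmem := Cfsg.Agent.S2477.mem_poss 2 5 (u * v).cycleType
      (fun a ha => Perm.two_le_of_mem_cycleType ha) hsum (by norm_num)
    have hev : ((u * v).cycleType.sum + Multiset.card (u * v).cycleType) % 2 = 0 := by
      have hs : Perm.sign (u * v) = 1 := by rw [map_mul, hu.sign, hv.sign, one_mul]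
      rw [Perm.sign_of_cycleType] at hs
      rcases Nat.even_or_odd ((u * v).cycleType.sum + Multiset.card (u * v).cycleType) with h | h
      · exact Nat.even_iff.1 h
      · rw [h.neg_one_pow] at hs; exact absurd hs (by decide)
    rw [hev] at hmem
    have hall : ∀ lp ∈ Cfsg.Agent.S2477.poss 2 5, lp.2 = 0 → lp.1 ∈ [1, 2, 3, 5] := by decide +kernel
    have := hall _ hmem rfl
    rw [← Perm.lcm_cycleType]
    simpa using this

theorem orderOf_restrict_dvd {m : ℕ} {β : Type*} (e : Fin m ↪ β) (w : Perm β) (w0 : Perm (Fin m))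
    (h : ∀ i, w (e i) = e (w0 i)) : orderOf w0 ∣ orderOf w := by
  refine orderOf_dvd_of_pow_eq_one (Perm.ext fun i => e.injective ?_)
  have hk : ∀ k : ℕ, ∀ j, (w ^ k) (e j) = e ((w0 ^ k) j) := by
    intro k
    induction k with
    | zero => intro j; rfl
    | succ k ih => intro j; rw [pow_succ', pow_succ', Perm.mul_apply, Perm.mul_apply, ih, h]
  rw [← hk, pow_orderOf_eq_one]
  rfl

theorem not_disjoint_cycle_apply {x : Perm α} {a b c d : α} (hb : x a = b) (hc : x b = c) (ha : x c = a)
    (hd : d ≠ a ∧ d ≠ b ∧ d ≠ c) : x d ≠ a ∧ x d ≠ b ∧ x d ≠ c :=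
  ⟨fun h => hd.2.2 (x.injective (h.trans ha.symm)), fun h => hd.1 (x.injective (h.trans hb.symm)),
    fun h => hd.2.1 (x.injective (h.trans hc.symm))⟩

/-- an element of order three which is not a three-cycle has a bad product with some conjugate -/
theorem exists_bad_conjugate (h7 : 7 ≤ Fintype.card α) {x : Perm α} (hx : x ^ 3 = 1) (hx1 : x ≠ 1)
    (hx3 : ¬ x.IsThreeCycle) : ∃ g : Perm α, Perm.sign g = 1 ∧
      ¬ (orderOf (x * (g * x * g⁻¹)) = 1 ∨ orderOf (x * (g * x * g⁻¹)) = 2 ∨
        orderOf (x * (g * x * g⁻¹)) = 3 ∨ orderOf (x * (g * x * g⁻¹)) = 5) := by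
  have hcube : ∀ z, x (x (x z)) = z := fun z => by
    have := congrArg (fun p : Perm α => p z) hx
    simpa [pow_succ] using this
  obtain ⟨a, ha⟩ : ∃ a, x a ≠ a := by
    by_contra h; simp only [not_exists, not_not] at h; exact hx1 (Perm.ext h)
  have hne : ∀ z, x z ≠ z → z ≠ x z ∧ z ≠ x (x z) ∧ x z ≠ x (x z) := fun z hz =>
    ⟨Ne.symm hz, fun e => hz (by conv_rhs => rw [← hcube z, ← e]), fun e => hz (x.injective e).symm⟩
  obtain ⟨ab, ac, bc⟩ := hne a ha
  have hsub : ∀ (s : Finset α), s.card < x.support.card → ∃ z, x z ≠ z ∧ z ∉ s := by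
    intro s hs
    obtain ⟨z, hz, hzs⟩ := Finset.exists_mem_notMem_of_card_lt_card hs
    exact ⟨z, Perm.mem_support.1 hz, hzs⟩
  have hbig : 6 ≤ x.support.card := by
    obtain ⟨k, hk⟩ := Perm.cycleType_prime_order (σ := x) (by
      rw [show orderOf x = 3 from orderOf_eq_prime hx hx1]; exact Nat.prime_three)
    rw [show orderOf x = 3 from orderOf_eq_prime hx hx1] at hk
    have hs := x.sum_cycleType
    rw [hk, Multiset.sum_replicate] at hs
    have : k ≠ 0 := by
      rintro rfl
      exact hx3 (by rw [Perm.IsThreeCycle, hk]; rfl)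
    rw [← hs, smul_eq_mul]; omega
  obtain ⟨d, hd, hds⟩ := hsub {a, x a, x (x a)} (by
    refine lt_of_le_of_lt Finset.card_le_three ?_; omega)
  simp only [Finset.mem_insert, Finset.mem_singleton, not_or] at hds
  obtain ⟨de, df, ef⟩ := hne d hd
  have he' := not_disjoint_cycle_apply (x := x) rfl rfl (hcube a) hds
  have hf' := not_disjoint_cycle_apply (x := x) rfl rfl (hcube a) he'
  obtain ⟨d1, d2, d3⟩ := hds
  obtain ⟨e1, e2, e3⟩ := he'
  obtain ⟨f1, f2, f3⟩ := hf'
  have build : ∀ (m : ℕ) (e : Fin m ↪ α) (x0 g0 : Perm (Fin m)), (∀ i, x (e i) = e (x0 i)) →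
      Perm.sign g0 = 1 → orderOf (x0 * (g0 * x0 * g0⁻¹)) ∉ [1, 2, 3, 5] →
      ∃ g : Perm α, Perm.sign g = 1 ∧ ¬ (orderOf (x * (g * x * g⁻¹)) = 1 ∨
        orderOf (x * (g * x * g⁻¹)) = 2 ∨ orderOf (x * (g * x * g⁻¹)) = 3 ∨
        orderOf (x * (g * x * g⁻¹)) = 5) := by
    intro m e x0 g0 hx0 hs hbad
    have hg : ∀ i, (g0.viaEmbedding e) (e i) = e (g0 i) := fun i => Perm.viaEmbedding_apply g0 e i
    have hg' : ∀ i, (g0.viaEmbedding e)⁻¹ (e i) = e (g0⁻¹ i) := fun i => by
      apply (g0.viaEmbedding e).injective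
      rw [hg]
      show (g0.viaEmbedding e) ((g0.viaEmbedding e).symm (e i)) = e (g0 (g0.symm i))
      rw [Equiv.apply_symm_apply, Equiv.apply_symm_apply]
    refine ⟨g0.viaEmbedding e, by rw [Perm.viaEmbedding, Perm.sign_extendDomain, hs], fun h => hbad ?_⟩
    have hd := orderOf_restrict_dvd e (x * (g0.viaEmbedding e * x * (g0.viaEmbedding e)⁻¹))
      (x0 * (g0 * x0 * g0⁻¹)) (fun i => by
        simp only [Perm.mul_apply]
        rw [hg', hx0, hg, hx0])
    have hle : orderOf (x0 * (g0 * x0 * g0⁻¹)) ≤ 5 := by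
      rcases h with h | h | h | h <;> rw [h] at hd <;> exact (Nat.le_of_dvd (by norm_num) hd).trans (by norm_num)
    have hpos := orderOf_pos (x0 * (g0 * x0 * g0⁻¹))
    rcases h with h | h | h | h <;> rw [h] at hd <;>
      (revert hd hle hpos; generalize orderOf (x0 * (g0 * x0 * g0⁻¹)) = o; intro hd hle hpos;
       interval_cases o <;> simp_all)
  by_cases h9 : 9 ≤ x.support.card
  · obtain ⟨g, hg, hgs⟩ := hsub {a, x a, x (x a), d, x d, x (x d)} (by
      refine lt_of_le_of_lt Finset.card_le_six ?_; omega)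
    simp only [Finset.mem_insert, Finset.mem_singleton, not_or] at hgs
    obtain ⟨g1, g2, g3, g4, g5, g6⟩ := hgs
    obtain ⟨gh, gi, hi⟩ := hne g hg
    obtain ⟨h1, h2, h3⟩ := not_disjoint_cycle_apply (x := x) rfl rfl (hcube a) ⟨g1, g2, g3⟩
    obtain ⟨i1, i2, i3⟩ := not_disjoint_cycle_apply (x := x) rfl rfl (hcube a) ⟨h1, h2, h3⟩
    obtain ⟨h4, h5, h6⟩ := not_disjoint_cycle_apply (x := x) rfl rfl (hcube d) ⟨g4, g5, g6⟩
    obtain ⟨i4, i5, i6⟩ := not_disjoint_cycle_apply (x := x) rfl rfl (hcube d) ⟨h4, h5, h6⟩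
    refine build 9 ⟨![a, x a, x (x a), d, x d, x (x d), g, x g, x (x g)], ?_⟩
      (cyc 0 1 2 * cyc 3 4 5 * cyc 6 7 8) (swap 0 1 * swap 0 3) ?_ (by decide +kernel) ?_
    · intro i j hij
      fin_cases i <;> fin_cases j <;> first
        | rfl
        | (exfalso; simp [ab, ac, bc, de, df, ef, d1, d2, d3, e1, e2, e3, f1, f2, f3, g1, g2, g3, g4, g5, g6, h1, h2, h3, h4, h5, h6, i1, i2, i3, i4, i5, i6, gh, gi, hi, Ne.symm ab, Ne.symm ac, Ne.symm bc, Ne.symm de, Ne.symm df, Ne.symm ef, Ne.symm d1, Ne.symm d2, Ne.symm d3, Ne.symm e1, Ne.symm e2, Ne.symm e3, Ne.symm f1, Ne.symm f2, Ne.symm f3, Ne.symm g1, Ne.symm g2, Ne.symm g3, Ne.symm g4, Ne.symm g5, Ne.symm g6, Ne.symm h1, Ne.symm h2, Ne.symm h3, Ne.symm h4, Ne.symm h5, Ne.symm h6, Ne.symm i1, Ne.symm i2, Ne.symm i3, Ne.symm i4, Ne.symm i5, Ne.symm i6, Ne.symm gh, Ne.symm gi, Ne.symm hi] at hij)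
    · intro i
      have ht : ∀ i : Fin 9, (cyc 0 1 2 * cyc 3 4 5 * cyc 6 7 8 : Perm (Fin 9)) i =
          ![1, 2, 0, 4, 5, 3, 7, 8, 6] i := by decide +kernel
      rw [ht]
      show x (![a, x a, x (x a), d, x d, x (x d), g, x g, x (x g)] i) =
        ![a, x a, x (x a), d, x d, x (x d), g, x g, x (x g)] (![1, 2, 0, 4, 5, 3, 7, 8, 6] i)
      fin_cases i <;> simp [hcube]
    · intro h
      rw [List.mem_cons, List.mem_cons, List.mem_cons, List.mem_singleton] at h
      rcases h with h | h | h | h <;>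
        exact absurd (orderOf_dvd_iff_pow_eq_one.1 (dvd_of_eq h)) (by decide +kernel)
  · obtain ⟨g, hgs⟩ : ∃ g, g ∉ x.support := by
      by_contra h
      simp only [not_exists, not_not] at h
      have h3 : x.support.card = 6 := by
        obtain ⟨k, hk⟩ := Perm.cycleType_prime_order (σ := x) (by
          rw [show orderOf x = 3 from orderOf_eq_prime hx hx1]; exact Nat.prime_three)
        rw [show orderOf x = 3 from orderOf_eq_prime hx hx1] at hk
        have hs := x.sum_cycleType
        rw [hk, Multiset.sum_replicate, smul_eq_mul] at hs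
        omega
      rw [Finset.eq_univ_of_forall h, Finset.card_univ] at h3
      omega
    have hg : x g = g := Perm.notMem_support.1 hgs
    have hmv : ∀ z, x z ≠ z → g ≠ z ∧ g ≠ x z ∧ g ≠ x (x z) := fun z hz =>
      ⟨fun e => hz (e ▸ hg), fun e => hz (x.injective (e ▸ hg)),
        fun e => hz (x.injective (x.injective (e ▸ hg)))⟩
    obtain ⟨g1, g2, g3⟩ := hmv a ha
    obtain ⟨g4, g5, g6⟩ := hmv d hd
    refine build 7 ⟨![a, x a, x (x a), d, x d, x (x d), g], ?_⟩
      (cyc 0 1 2 * cyc 3 4 5) (swap 0 3 * swap 0 6) ?_ (by decide +kernel) ?_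
    · intro i j hij
      fin_cases i <;> fin_cases j <;> first
        | rfl
        | (exfalso; simp [ab, ac, bc, de, df, ef, d1, d2, d3, e1, e2, e3, f1, f2, f3, g1, g2, g3, g4, g5, g6, Ne.symm ab, Ne.symm ac, Ne.symm bc, Ne.symm de, Ne.symm df, Ne.symm ef, Ne.symm d1, Ne.symm d2, Ne.symm d3, Ne.symm e1, Ne.symm e2, Ne.symm e3, Ne.symm f1, Ne.symm f2, Ne.symm f3, Ne.symm g1, Ne.symm g2, Ne.symm g3, Ne.symm g4, Ne.symm g5, Ne.symm g6] at hij)
    · intro i
      have ht : ∀ i : Fin 7, (cyc 0 1 2 * cyc 3 4 5 : Perm (Fin 7)) i = ![1, 2, 0, 4, 5, 3, 6] i := by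
        decide +kernel
      rw [ht]
      show x (![a, x a, x (x a), d, x d, x (x d), g] i) =
        ![a, x a, x (x a), d, x d, x (x d), g] (![1, 2, 0, 4, 5, 3, 6] i)
      fin_cases i <;> simp [hcube, hg]
    · intro h
      rw [List.mem_cons, List.mem_cons, List.mem_cons, List.mem_singleton] at h
      rcases h with h | h | h | h <;>
        exact absurd (orderOf_dvd_iff_pow_eq_one.1 (dvd_of_eq h)) (by decide +kernel)

omit [Fintype α] in
/-- a subgroup containing all `(p q i)` contains every three-cycle -/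
theorem cyc_mem_of_basic {H : Subgroup (Perm α)} {p q : α} (hpq : p ≠ q)
    (hT : ∀ i, i ≠ p → i ≠ q → cyc p q i ∈ H) {a b c : α} (hab : a ≠ b) (hac : a ≠ c) (hbc : b ≠ c) :
    cyc a b c ∈ H := by
  have conjmem : ∀ {g : Perm α} {a b c : α}, g ∈ H → cyc a b c ∈ H → cyc (g a) (g b) (g c) ∈ H :=
    fun {g a b c} hg h => by rw [← conj_cyc g a b c]; exact mul_mem (mul_mem hg h) (inv_mem hg)
  have hT' : ∀ i, i ≠ p → i ≠ q → cyc p i q ∈ H := fun i h1 h2 => by
    rw [← cyc_inv p q i hpq h1.symm h2.symm]; exact inv_mem (hT i h1 h2)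
  have two : ∀ i j, i ≠ p → i ≠ q → j ≠ p → j ≠ q → i ≠ j → cyc q j i ∈ H ∧ cyc j p i ∈ H := by
    intro i j i1 i2 j1 j2 hij
    constructor
    · have := conjmem (hT j j1 j2) (hT i i1 i2)
      rwa [cyc_apply_left hpq j2.symm, cyc_apply_mid, cyc_apply_other i1 i2 hij] at this
    · have := conjmem (hT' j j1 j2) (hT i i1 i2)
      rwa [cyc_apply_left j1.symm j2, cyc_apply_right hpq j2,
        cyc_apply_other i1 hij i2] at this
  have hnone : ∀ i j k, i ≠ p → i ≠ q → j ≠ p → j ≠ q → k ≠ p → k ≠ q → i ≠ j → i ≠ k → j ≠ k →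
      cyc i j k ∈ H := by
    intro i j k i1 i2 j1 j2 k1 k2 hij hik hjk
    have := conjmem (hT i i1 i2) (two k j k1 k2 j1 j2 hjk.symm).1
    rwa [cyc_apply_mid, cyc_apply_other j1 j2 hij.symm, cyc_apply_other k1 k2 hik.symm] at this
  -- reduce by rotations
  have hp : ∀ b c, b ≠ p → c ≠ p → b ≠ c → cyc p b c ∈ H := by
    intro b c b1 c1 hbc
    by_cases hb : b = q
    · subst hb; exact hT c c1 hbc.symm
    by_cases hc : c = q
    · subst hc; exact hT' b b1 hb
    rw [cyc_rotate p b c b1.symm c1.symm hbc]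
    rw [cyc_rotate b c p hbc b1 c1]
    exact (two b c b1 hb c1 hc hbc).2
  by_cases ha : a = p
  · subst ha; exact hp b c hab.symm hac.symm hbc
  by_cases hb : b = p
  · subst hb; rw [cyc_rotate a b c hab hac hbc]; exact hp c a hbc.symm hab hac.symm
  by_cases hc : c = p
  · subst hc
    rw [cyc_rotate a b c hab hac hbc, cyc_rotate b c a hbc hab.symm hac.symm]
    exact hp a b hac hbc hab
  by_cases ha' : a = q
  · subst ha'; exact (two c b hc hac.symm hb hab.symm hbc.symm).1
  by_cases hb' : b = q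
  · subst hb'; rw [cyc_rotate a b c hab hac hbc]; exact (two a c ha ha' hc hbc.symm hac).1
  by_cases hc' : c = q
  · subst hc'
    rw [cyc_rotate a b c hab hac hbc, cyc_rotate b c a hbc hab.symm hac.symm]
    exact (two b a hb hb' ha ha' hab.symm).1
  exact hnone a b c ha ha' hb hb' hc hc' hab hac hbc

theorem conjNormal_alternating_bijective (h4 : 4 ≤ Fintype.card α) (h6 : Fintype.card α ≠ 6) :
    Function.Bijective (MulAut.conjNormal : Perm α →* MulAut ↥(alternatingGroup α)) := by
  let mk : ∀ a b c : α, a ≠ b → a ≠ c → b ≠ c → alternatingGroup α := fun a b c h1 h2 h3 =>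
    ⟨cyc a b c, (isThreeCycle_cyc h1 h2 h3).mem_alternatingGroup⟩
  constructor
  · rw [injective_iff_map_eq_one]
    intro σ hσ
    refine Perm.ext fun a => ?_
    by_contra hb
    obtain ⟨c, hc⟩ := Finset.exists_mem_notMem_of_card_lt_card (s := {a, σ a}) (t := Finset.univ)
      (Finset.card_le_two.trans_lt (by rw [Finset.card_univ]; omega))
    obtain ⟨d, hd⟩ := Finset.exists_mem_notMem_of_card_lt_card (s := {a, σ a, c}) (t := Finset.univ)
      (Finset.card_le_three.trans_lt (by rw [Finset.card_univ]; omega))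
    simp only [Finset.mem_insert, Finset.mem_singleton, not_or] at hc hd
    obtain ⟨-, ca, cb⟩ := hc
    obtain ⟨-, da, db, dc⟩ := hd
    have hb' : σ a ≠ a := hb
    have h1 := congrArg (fun ψ : MulAut ↥(alternatingGroup α) => (ψ (mk a c d (Ne.symm ca) (Ne.symm da) (Ne.symm dc)) : Perm α)) hσ
    simp only [MulAut.conjNormal_apply, MulAut.one_apply, mk] at h1
    have h2 : σ * cyc a c d = cyc a c d * σ := by
      calc σ * cyc a c d = σ * cyc a c d * σ⁻¹ * σ := by group
        _ = cyc a c d * σ := by rw [h1]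
    have h3 := congrArg (fun p : Perm α => p a) h2
    simp only [Perm.mul_apply] at h3
    rw [cyc_apply_left (Ne.symm ca) (Ne.symm dc), cyc_apply_other hb' (Ne.symm cb) (Ne.symm db)] at h3
    exact ca (σ.injective h3)
  · intro φ
    -- images of three-cycles
    have himg : ∀ s : alternatingGroup α, (s : Perm α).IsThreeCycle → (φ s : Perm α).IsThreeCycle := by
      intro s hs
      have ho : orderOf (φ s : Perm α) = 3 := by
        rw [Subgroup.orderOf_coe,
          show orderOf (φ s) = orderOf s from orderOf_injective φ.toMonoidHom φ.injective s,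
          ← Subgroup.orderOf_coe, hs.orderOf]
      by_contra hno
      rcases Nat.lt_or_ge (Fintype.card α) 6 with hlt | hge
      · apply hno
        obtain ⟨k, hk⟩ := Perm.cycleType_prime_order (σ := (φ s : Perm α)) (by rw [ho]; exact Nat.prime_three)
        rw [ho] at hk
        have hsum := (φ s : Perm α).sum_cycleType
        rw [hk, Multiset.sum_replicate, smul_eq_mul] at hsum
        have := Finset.card_le_univ (φ s : Perm α).support
        rw [Perm.IsThreeCycle, hk, show k = 0 by omega]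
        rfl
      obtain ⟨g, hg, hbad⟩ := exists_bad_conjugate (α := α) (by omega)
        (orderOf_dvd_iff_pow_eq_one.1 (dvd_of_eq ho)) (fun e => by rw [e, orderOf_one] at ho; omega) hno
      apply hbad
      obtain ⟨g', hg'⟩ := φ.surjective ⟨g, Perm.mem_alternatingGroup.2 hg⟩
      have he : (φ s : Perm α) * (g * (φ s : Perm α) * g⁻¹) = (φ (s * (g' * s * g'⁻¹)) : Perm α) := by
        simp [hg']
      rw [he, Subgroup.orderOf_coe,
        show orderOf (φ (s * (g' * s * g'⁻¹))) = _ from orderOf_injective φ.toMonoidHom φ.injective _,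
        ← Subgroup.orderOf_coe, Subgroup.coe_mul]
      refine three_cycle_mul_order hs ?_
      show ((g' : Perm α) * (s : Perm α) * (g' : Perm α)⁻¹).IsThreeCycle
      rw [Perm.IsThreeCycle, Perm.cycleType_conj]; exact hs
    obtain ⟨p, q, hpq⟩ := Fintype.exists_pair_of_one_lt_card (α := α) (by omega)
    let I := {i : α // i ≠ p ∧ i ≠ q}
    let T : I → alternatingGroup α := fun i => mk p q i hpq (Ne.symm i.2.1) (Ne.symm i.2.2)
    let u : I → Perm α := fun i => (φ (T i) : Perm α)
    have hu : ∀ i, (u i).IsThreeCycle := fun i =>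
      himg _ (isThreeCycle_cyc hpq (Ne.symm i.2.1) (Ne.symm i.2.2))
    have hTinj : ∀ i j : I, T i = T j → i = j := fun i j e => by
      have h2 := congrArg (fun s : alternatingGroup α => (s : Perm α) q) e
      simp only [T, mk, cyc_apply_mid] at h2
      exact Subtype.ext h2
    have hedge : ∀ i j : I, i ≠ j → ∃ a, u i a ≠ a ∧ u i a = u j a := by
      intro i j hij
      have hij' : (i : α) ≠ j := fun e => hij (Subtype.ext e)
      refine exists_common_edge (hu i) (hu j) ?_ ?_
      · intro e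
        have h1 : T i * T j = 1 := φ.injective (Subtype.ext (by simpa [u] using e))
        have h2 := congrArg (fun s : alternatingGroup α => (s : Perm α) p) h1
        simp only [T, mk, Subgroup.coe_mul, Perm.mul_apply, Subgroup.coe_one, Perm.one_apply] at h2
        rw [cyc_apply_left hpq (Ne.symm j.2.2), cyc_apply_mid] at h2
        exact i.2.1 h2
      · have h1 : T i * T j * (T i * T j) = 1 := by
          refine Subtype.ext (Perm.ext fun z => ?_)
          simp only [T, mk, Subgroup.coe_mul, Perm.mul_apply, Subgroup.coe_one, Perm.one_apply]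
          by_cases z1 : z = p
          · subst z1
            rw [cyc_apply_left hpq (Ne.symm j.2.2), cyc_apply_mid,
              cyc_apply_other i.2.1 i.2.2 hij', cyc_apply_right (Ne.symm i.2.1) (Ne.symm i.2.2)]
          by_cases z2 : z = q
          · subst z2
            rw [cyc_apply_mid, cyc_apply_other j.2.1 j.2.2 (Ne.symm hij'),
              cyc_apply_right (Ne.symm j.2.1) (Ne.symm j.2.2), cyc_apply_left hpq (Ne.symm i.2.2)]
          by_cases z3 : z = i
          · subst z3
            rw [cyc_apply_other i.2.1 i.2.2 hij', cyc_apply_right (Ne.symm i.2.1) (Ne.symm i.2.2),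
              cyc_apply_left hpq (Ne.symm j.2.2), cyc_apply_mid]
          by_cases z4 : z = j
          · subst z4
            rw [cyc_apply_right (Ne.symm j.2.1) (Ne.symm j.2.2), cyc_apply_left hpq (Ne.symm i.2.2),
              cyc_apply_mid, cyc_apply_other j.2.1 j.2.2 (Ne.symm hij')]
          rw [cyc_apply_other z1 z2 z4, cyc_apply_other z1 z2 z3, cyc_apply_other z1 z2 z4,
            cyc_apply_other z1 z2 z3]
        have := congrArg (fun s => (φ s : Perm α)) h1
        simpa [u] using this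
    obtain ⟨i0, hi0⟩ := Finset.exists_mem_notMem_of_card_lt_card (s := {p, q}) (t := Finset.univ)
      (Finset.card_le_two.trans_lt (by rw [Finset.card_univ]; omega))
    obtain ⟨i1, hi1⟩ := Finset.exists_mem_notMem_of_card_lt_card (s := {p, q, i0}) (t := Finset.univ)
      (Finset.card_le_three.trans_lt (by rw [Finset.card_univ]; omega))
    simp only [Finset.mem_insert, Finset.mem_singleton, not_or] at hi0 hi1
    let I0 : I := ⟨i0, hi0.2⟩
    let I1 : I := ⟨i1, hi1.2.1, hi1.2.2.1⟩
    have h01 : I0 ≠ I1 := fun e => hi1.2.2.2 (congrArg Subtype.val e).symm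
    obtain ⟨X, hX, hX1⟩ := hedge I0 I1 h01
    set Y := u I0 X with hY
    have hX' : u I1 X ≠ X := by rw [← hX1]; exact hX
    obtain ⟨x1, x2, x3, x4, x5⟩ := eq_cyc_of_isThreeCycle (hu I0) hX
    obtain ⟨y1, y2, y3, y4, y5⟩ := eq_cyc_of_isThreeCycle (hu I1) hX'
    rw [← hX1] at y1 y2 y3 y4 y5
    set Z := u I0 Y with hZ
    set W := u I1 Y with hW
    have huinj : ∀ i j, u i = u j → i = j := fun i j e => hTinj i j (φ.injective (Subtype.ext e))
    have hZW : Z ≠ W := fun e => h01 (huinj _ _ (by rw [x5, y5, e]))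
    have hall : ∀ j, u j X = Y := by
      intro j
      by_cases j0 : j = I0
      · rw [j0]
      by_cases j1 : j = I1
      · rw [j1, ← hX1]
      obtain ⟨A, hA, hAe⟩ := hedge I0 j (Ne.symm j0)
      obtain ⟨B, hB, hBe⟩ := hedge I1 j (Ne.symm j1)
      have hAm : A = X ∨ A = Y ∨ A = Z := by
        by_contra h; simp only [not_or] at h
        exact hA (by rw [x5]; exact cyc_apply_other h.1 h.2.1 h.2.2)
      have hBm : B = X ∨ B = Y ∨ B = W := by
        by_contra h; simp only [not_or] at h
        exact hB (by rw [y5]; exact cyc_apply_other h.1 h.2.1 h.2.2)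
      have hsix : ∀ a, u j a ≠ a → ∀ z, u j z ≠ z → z = a ∨ z = u j a ∨ z = u j (u j a) := by
        intro a ha z hz
        by_contra h; simp only [not_or] at h
        obtain ⟨-, -, -, -, h5⟩ := eq_cyc_of_isThreeCycle (hu j) ha
        exact hz (by rw [h5]; exact cyc_apply_other h.1 h.2.1 h.2.2)
      rcases hAm with hA' | hA' | hA'
      · rw [hA'] at hAe; exact hAe.symm
      all_goals rcases hBm with hB' | hB' | hB'
      all_goals first
        | (rw [hB'] at hBe; exact (hBe.symm.trans hX1.symm))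
        | skip
      · rw [hA', ← hZ] at hAe; rw [hB', ← hW] at hBe
        exact absurd (hAe.trans hBe.symm) hZW
      · rw [hA', ← hZ] at hAe; rw [hB', y4] at hBe
        exfalso
        have hYm : u j Y ≠ Y := by rw [← hAe]; exact x3.symm
        have hWm : u j W ≠ W := by rw [← hBe]; exact y2
        rcases hsix Y hYm W hWm with h | h | h
        · exact y3 h.symm
        · exact hZW (by rw [hAe, ← h])
        · have h' : u j W = Y := by rw [h]; exact (eq_cyc_of_isThreeCycle (hu j) hYm).2.2.2.1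
          exact x1 (hBe.trans h')
      · rw [hA', x4] at hAe; rw [hB', ← hW] at hBe
        exfalso
        have hYm : u j Y ≠ Y := by rw [← hBe]; exact y3.symm
        have hZm : u j Z ≠ Z := by rw [← hAe]; exact x2
        rcases hsix Y hYm Z hZm with h | h | h
        · exact x3 h.symm
        · exact hZW (by rw [hBe, ← h])
        · have h' : u j Z = Y := by rw [h]; exact (eq_cyc_of_isThreeCycle (hu j) hYm).2.2.2.1
          exact x1 (hAe.trans h')
      · rw [hA', x4] at hAe; rw [hB', y4] at hBe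
        exact absurd ((u j).injective (hAe.symm.trans hBe)) hZW
    let s : I → α := fun j => u j Y
    have hXY : X ≠ Y := x1
    have hform : ∀ j, s j ≠ X ∧ s j ≠ Y ∧ u j = cyc X Y (s j) := by
      intro j
      have hm : u j X ≠ X := by rw [hall j]; exact hXY.symm
      obtain ⟨-, a2, a3, -, a5⟩ := eq_cyc_of_isThreeCycle (hu j) hm
      rw [hall j] at a2 a3 a5
      exact ⟨a2.symm, a3.symm, a5⟩
    have hsinj : ∀ i j, s i = s j → i = j := fun i j e =>
      huinj i j (by rw [(hform i).2.2, (hform j).2.2, e])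
    let f : α → α := fun z => if h : z ≠ p ∧ z ≠ q then s ⟨z, h⟩ else if z = p then X else Y
    have fp : f p = X := by simp [f]
    have fq : f q = Y := by simp [f, Ne.symm hpq]
    have fi : ∀ i : I, f i = s i := fun i => by simp [f, i.2]
    have hf : Function.Injective f := by
      intro z1 z2 e
      by_cases h1 : z1 ≠ p ∧ z1 ≠ q <;> by_cases h2 : z2 ≠ p ∧ z2 ≠ q
      · have e' := (fi ⟨z1, h1⟩).symm.trans (e.trans (fi ⟨z2, h2⟩))
        exact congrArg Subtype.val (hsinj _ _ e')
      · exfalso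
        rw [show f z1 = s ⟨z1, h1⟩ from fi ⟨z1, h1⟩] at e
        rcases not_and_or.1 h2 with h | h <;> rw [not_not] at h <;> subst h
        · rw [fp] at e; exact (hform _).1 e
        · rw [fq] at e; exact (hform _).2.1 e
      · exfalso
        rw [show f z2 = s ⟨z2, h2⟩ from fi ⟨z2, h2⟩] at e
        rcases not_and_or.1 h1 with h | h <;> rw [not_not] at h <;> subst h
        · rw [fp] at e; exact (hform _).1 e.symm
        · rw [fq] at e; exact (hform _).2.1 e.symm
      · rcases not_and_or.1 h1 with h | h <;> rw [not_not] at h <;> subst h <;>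
          rcases not_and_or.1 h2 with h' | h' <;> rw [not_not] at h' <;> subst h'
        · rfl
        · exact absurd (fp.symm.trans (e.trans fq)) hXY
        · exact absurd ((fp.symm.trans (e.symm.trans fq))) hXY
        · rfl
    let π : Perm α := Equiv.ofBijective f (Finite.injective_iff_bijective.1 hf)
    refine ⟨π, ?_⟩
    symm
    refine MulEquiv.ext fun g => ?_
    let E : Subgroup (alternatingGroup α) := MonoidHom.eqLocus φ.toMonoidHom (MulAut.conjNormal π).toMonoidHom
    suffices hE : E = ⊤ by exact (hE ▸ Subgroup.mem_top g : g ∈ E)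
    have hT : ∀ i, i ≠ p → i ≠ q → cyc p q i ∈ E.map (alternatingGroup α).subtype := by
      intro i h1 h2
      refine ⟨T ⟨i, h1, h2⟩, Subtype.ext ?_, rfl⟩
      show u ⟨i, h1, h2⟩ = ((MulAut.conjNormal π (T ⟨i, h1, h2⟩) : alternatingGroup α) : Perm α)
      rw [MulAut.conjNormal_apply]
      show _ = π * cyc p q i * π⁻¹
      rw [conj_cyc, show π p = X from fp, show π q = Y from fq, show π i = s ⟨i, h1, h2⟩ from fi ⟨i, h1, h2⟩]
      exact (hform _).2.2
    rw [eq_top_iff, ← alternatingGroup.closure_isThreeCycles_eq_top, Subgroup.closure_le]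
    intro t ht
    have ht' : (t : Perm α).IsThreeCycle := ht
    obtain ⟨a, ha⟩ : ∃ a, (t : Perm α) a ≠ a := by
      by_contra h; simp only [not_exists, not_not] at h
      have := ht'.orderOf
      rw [show (t : Perm α) = 1 from Perm.ext h, orderOf_one] at this
      omega
    obtain ⟨b1, b2, b3, -, b5⟩ := eq_cyc_of_isThreeCycle ht' ha
    have hmem := cyc_mem_of_basic hpq hT b1 b2 b3
    rw [← b5] at hmem
    obtain ⟨t', ht'', e⟩ := hmem
    rwa [← Subtype.ext (show (t' : Perm α) = t from e)]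

end Cfsg.Agent.Perm
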