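import Mathlib

/-!
Symmetric bicirculant graphs on 22 vertices of odd valency divisible by 3 with constant walk counts
along edges are complete.
-/

namespace Cfsg.Agent.Perm.Bicirc

/-- The symmetric subset of `ℤ/11` coded by five bits. -/
def expand (m : ℕ) : ℕ :=
  ((List.range 5).map fun i => if m.testBit i then 2 ^ (i + 1) + 2 ^ (10 - i) else 0).sum

/-- Masks of the four blocks. -/
def block (s t z : ℕ) (i j : Bool) : ℕ :=
  match i, j with
  | false, false => expand s
  | true, true => expand z
  | _, _ => expand t + 1

/-- Adjacency on `0..21`. -/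
def adj (s t z x y : ℕ) : Bool :=
  (block s t z (11 ≤ x) (11 ≤ y)).testBit ((y % 11 + (11 - x % 11)) % 11)

/-- Neighbours. -/
def nbrs (s t z x : ℕ) : List ℕ := (List.range 22).filter (adj s t z x)

/-- Number of walks of length `n`. -/
def walks (s t z : ℕ) : ℕ → ℕ → ℕ → ℕ
  | 0, x, y => if x = y then 1 else 0
  | n + 1, x, y => ((nbrs s t z x).map fun c => walks s t z n c y).sum

/-- Number of common neighbours, computed directly. -/
def common (s t z x y : ℕ) : ℕ := ((nbrs s t z x).filter fun c => adj s t z c y).length

/-- All edges at `0` and at `11` have equally many walks of length `n`. -/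
def edgeConst (s t z n : ℕ) : Bool :=
  let l := ((nbrs s t z 0).map fun y => walks s t z n 0 y) ++
    ((nbrs s t z 11).map fun y => walks s t z n 11 y)
  l.all fun a => a == l.headD 0

/-- The same for common neighbours. -/
def commonConst (s t z : ℕ) : Bool :=
  let l := ((nbrs s t z 0).map fun y => common s t z 0 y) ++
    ((nbrs s t z 11).map fun y => common s t z 11 y)
  l.all fun a => a == l.headD 0

/-- Number of ones among five bits. -/
def pop5 (m : ℕ) : ℕ := (List.range 5).countP fun i => m.testBit i

/-- The finite check for fixed outer blocks. -/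
def check2 (s t : ℕ) : Bool :=
  (2 * pop5 s + 2 * pop5 t + 1) % 3 != 0 || pop5 s + pop5 t == 10 ||
    (List.range 32).all fun z => pop5 s != pop5 z || !commonConst s t z
      || !(edgeConst s t z 3 && edgeConst s t z 4 && edgeConst s t z 5)

set_option maxHeartbeats 0 in
theorem check_all : ∀ s : Fin 32, ∀ t : Fin 32, check2 s t = true := by
  decide +kernel

end Cfsg.Agent.Perm.Bicirc
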