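import Mathlib

/-!
Fixed points of products of conjugates of two permutations: agreements of two permutations.
-/

set_option autoImplicit false
set_option linter.unusedSectionVars false

namespace Cfsg.Agent.Perm.ClassProductFix

open Equiv Finset

variable {n : ℕ}

/-- Number of points on which `b ∘ h` and `h ∘ c` agree. -/
def agree (c b h : Perm (Fin n)) : ℕ := (univ.filter fun x => b (h x) = h (c x)).card

/-- Number of fixed points. -/
def nfix (c : Perm (Fin n)) : ℕ := (univ.filter fun x => c x = x).card

theorem nfix_le {c : Perm (Fin n)} (hc : c ≠ 1) : nfix c + 2 ≤ n := by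
  obtain ⟨x, hx⟩ : ∃ x, c x ≠ x := by
    by_contra h
    push Not at h
    exact hc (Equiv.ext h)
  have hsub : (univ.filter fun y => c y = y) ⊆ univ \ {x, c x} := by
    intro y hy
    simp only [mem_filter, mem_univ, true_and] at hy
    simp only [mem_sdiff, mem_univ, mem_insert, mem_singleton, true_and]
    rintro (rfl | rfl)
    · exact hx hy
    · exact hx (c.injective hy)
  have h := card_le_card hsub
  have h2 : ({x, c x} : Finset (Fin n)).card = 2 := card_pair (Ne.symm hx)
  rw [card_sdiff_of_subset (subset_univ _), h2, card_univ, Fintype.card_fin] at h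
  have : 2 ≤ n := by
    have h3 := card_le_univ ({x, c x} : Finset (Fin n))
    rwa [h2, Fintype.card_fin] at h3
  unfold nfix
  omega

theorem extend (s : Finset (Fin n)) (e : Fin n → Fin n) (he : Set.InjOn e s) :
    ∃ h : Perm (Fin n), ∀ x ∈ s, h x = e x := by
  obtain ⟨g, hg⟩ := Finset.exists_equiv_extend_of_card_eq (t := (univ : Finset (Fin n))) (by simp)
    (subset_univ (s.image e)) he
  exact ⟨g.trans ⟨fun y => y.1, fun y => ⟨y, mem_univ _⟩, fun y => rfl, fun y => rfl⟩,
    fun x hx => hg x hx⟩

theorem extend_even (s : Finset (Fin n)) (hs : s.card + 2 ≤ n) (e : Fin n → Fin n)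
    (he : Set.InjOn e s) :
    ∃ h : Perm (Fin n), Perm.sign h = 1 ∧ ∀ x ∈ s, h x = e x := by
  obtain ⟨h, hh⟩ := extend s e he
  rcases Int.units_eq_one_or (Perm.sign h) with h1 | h1
  · exact ⟨h, h1, hh⟩
  have hc : 1 < (univ \ s).card := by
    rw [card_sdiff_of_subset (subset_univ _), card_univ, Fintype.card_fin]; omega
  obtain ⟨u, hu, v, hv, huv⟩ := one_lt_card.1 hc
  rw [mem_sdiff] at hu hv
  refine ⟨h * swap u v, by simp [h1, Perm.sign_swap huv], fun x hx => ?_⟩
  rw [Perm.mul_apply, swap_apply_of_ne_of_ne (by rintro rfl; exact hu.2 hx)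
    (by rintro rfl; exact hv.2 hx), hh x hx]

theorem agree_symm (c b h : Perm (Fin n)) : agree b c h⁻¹ = agree c b h := by
  unfold agree
  refine card_bij' (fun u _ => h⁻¹ u) (fun x _ => h x) ?_ ?_ ?_ ?_
  · intro u hu
    simp only [mem_filter, mem_univ, true_and] at hu ⊢
    rw [hu]; simp
  · intro x hx
    simp only [mem_filter, mem_univ, true_and] at hx ⊢
    rw [hx]; simp
  · intro u hu; simp
  · intro x hx; simp

theorem agree_mul (c b h z : Perm (Fin n)) (hz : z * c = c * z) :
    agree c b (h * z) = agree c b h := by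
  unfold agree
  have hz' : ∀ x, z (c x) = c (z x) := fun x => Equiv.congr_fun hz x
  refine card_bij' (fun x _ => z x) (fun x _ => z⁻¹ x) ?_ ?_ ?_ ?_
  · intro x hx
    rw [mem_filter] at hx ⊢
    refine ⟨mem_univ _, ?_⟩
    have := hx.2
    rw [Perm.mul_apply, Perm.mul_apply, hz'] at this
    exact this
  · intro x hx
    rw [mem_filter] at hx ⊢
    refine ⟨mem_univ _, ?_⟩
    rw [Perm.mul_apply, Perm.mul_apply, hz']
    simpa using hx.2
  · intro u hu; simp
  · intro x hx; simp

theorem fibre (A : Finset (Perm (Fin n))) {X : Type} [DecidableEq X] (U S : Finset X)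
    (f : Perm (Fin n) → X) (hf : ∀ h ∈ A, f h ∈ U) (hS : S ⊆ U)
    (hc : ∀ v ∈ U, ∀ w ∈ U, (A.filter fun h => f h = v).card = (A.filter fun h => f h = w).card) :
    (A.filter fun h => f h ∈ S).card * U.card = A.card * S.card := by
  rcases U.eq_empty_or_nonempty with rfl | ⟨v, hv⟩
  · rw [Finset.subset_empty.1 hS]; simp
  have h1 : A.card = U.card * (A.filter fun h => f h = v).card := by
    rw [card_eq_sum_card_fiberwise (f := f) (t := U) hf, ← smul_eq_mul, ← sum_const]
    exact sum_congr rfl fun w hw => hc w hw v hv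
  have h2 : (A.filter fun h => f h ∈ S).card = S.card * (A.filter fun h => f h = v).card := by
    rw [card_eq_sum_card_fiberwise (f := f) (t := S)
      (s := A.filter fun h => f h ∈ S) (fun h hh => (mem_filter.1 hh).2), ← smul_eq_mul, ← sum_const]
    refine sum_congr rfl fun w hw => ?_
    rw [← hc w (hS hw) v hv, filter_filter]
    exact congrArg Finset.card (filter_congr fun h _ => ⟨fun e => e.2, fun e => ⟨e ▸ hw, e⟩⟩)
  rw [h1, h2]; ring

/-- The even permutations. -/
def evens (n : ℕ) : Finset (Perm (Fin n)) := univ.filter fun h => Perm.sign h = 1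

theorem fibre_one (hn : 3 ≤ n) (x : Fin n) (S : Finset (Fin n)) :
    ((evens n).filter fun h => h x ∈ S).card * n = (evens n).card * S.card := by
  have h := fibre (evens n) univ S (fun h => h x) (fun _ _ => mem_univ _) (subset_univ _) ?_
  · rwa [card_univ, Fintype.card_fin] at h
  intro v _ w _
  obtain ⟨z, hz1, hz⟩ := extend_even ({v} : Finset (Fin n)) (by simp; omega) (fun _ => w)
    (by simp)
  have hzv : z v = w := hz v (mem_singleton_self v)
  refine card_bij' (fun h _ => z * h) (fun h _ => z⁻¹ * h) ?_ ?_ ?_ ?_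
  · intro h hh
    simp only [evens, mem_filter, mem_univ, true_and] at hh ⊢
    exact ⟨by simp [hh.1, hz1], by simp [hh.2, hzv]⟩
  · intro h hh
    simp only [evens, mem_filter, mem_univ, true_and] at hh ⊢
    exact ⟨by simp [hh.1, hz1], by simp [hh.2, ← hzv]⟩
  · intro h hh; simp
  · intro h hh; simp

theorem fibre_two (hn : 4 ≤ n) {x y : Fin n} (hxy : x ≠ y) (S : Finset (Fin n × Fin n))
    (hS : S ⊆ univ.offDiag) :
    ((evens n).filter fun h => (h x, h y) ∈ S).card * (n * n - n) = (evens n).card * S.card := by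
  have h := fibre (evens n) univ.offDiag S (fun h => (h x, h y))
    (fun h _ => mem_offDiag.2 ⟨mem_univ _, mem_univ _, fun e => hxy (h.injective e)⟩) hS ?_
  · rwa [offDiag_card, card_univ, Fintype.card_fin] at h
  rintro ⟨v₁, v₂⟩ hv ⟨w₁, w₂⟩ hw
  have hv' := (mem_offDiag.1 hv).2.2
  have hw' := (mem_offDiag.1 hw).2.2
  obtain ⟨z, hz1, hz⟩ := extend_even ({v₁, v₂} : Finset (Fin n))
    (by have := card_le_two (a := v₁) (b := v₂); omega)
    (fun u => if u = v₁ then w₁ else w₂)
    (by
      intro a ha b hb hab
      simp only [coe_insert, coe_singleton, Set.mem_insert_iff, Set.mem_singleton_iff] at ha hb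
      rcases ha with rfl | rfl <;> rcases hb with rfl | rfl <;>
        simp_all [eq_comm])
  have hz1' : z v₁ = w₁ := by rw [hz v₁ (by simp)]; simp
  have hz2' : z v₂ = w₂ := by rw [hz v₂ (by simp)]; simp [Ne.symm hv']
  refine card_bij' (fun h _ => z * h) (fun h _ => z⁻¹ * h) ?_ ?_ ?_ ?_
  · intro h hh
    simp only [evens, mem_filter, mem_univ, true_and, Prod.mk.injEq] at hh ⊢
    exact ⟨by simp [hh.1, hz1], by simp [hh.2.1, hz1'], by simp [hh.2.2, hz2']⟩
  · intro h hh
    simp only [evens, mem_filter, mem_univ, true_and, Prod.mk.injEq] at hh ⊢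
    exact ⟨by simp [hh.1, hz1], by simp [hh.2.1, ← hz1'], by simp [hh.2.2, ← hz2']⟩
  · intro h hh; simp
  · intro h hh; simp

theorem average (hn : 5 ≤ n) (c b : Perm (Fin n)) (k : ℕ)
    (hk : ∀ h : Perm (Fin n), Perm.sign h = 1 → agree c b h = k) :
    ((k : ℤ) - 1) * ((n : ℤ) - 1) = ((nfix c : ℤ) - 1) * ((nfix b : ℤ) - 1) := by
  have hA : 0 < (evens n).card := card_pos.2 ⟨1, by simp [evens]⟩
  have e1 : (evens n).card * k = ∑ h ∈ evens n, agree c b h := by
    refine ((sum_congr rfl (fun h hh => hk h (mem_filter.1 hh).2)).trans ?_).symm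
    rw [sum_const, smul_eq_mul, evens]
  have e2 : ∑ h ∈ evens n, agree c b h =
      ∑ x : Fin n, ((evens n).filter fun h => b (h x) = h (c x)).card := by
    simp only [agree, card_filter]
    exact sum_comm
  set S2 : Finset (Fin n × Fin n) := (univ.offDiag).filter fun q => b q.1 = q.2 with hS2
  have hS2c : S2.card + nfix b = n := by
    have : S2.card = (univ.filter fun u => ¬ b u = u).card := by
      refine card_bij' (fun q _ => q.1) (fun u _ => (u, b u)) ?_ ?_ ?_ ?_
      · intro q hq
        simp only [hS2, mem_filter, mem_offDiag, mem_univ, true_and] at hq ⊢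
        rw [hq.2]; exact Ne.symm hq.1
      · intro u hu
        simp only [hS2, mem_filter, mem_offDiag, mem_univ, true_and] at hu ⊢
        exact ⟨Ne.symm hu, trivial⟩
      · intro q hq
        simp only [hS2, mem_filter] at hq
        exact Prod.ext rfl hq.2
      · intro u hu; rfl
    rw [this, nfix, add_comm, card_filter_add_card_filter_not, card_univ, Fintype.card_fin]
  have e3 : ∀ x : Fin n, ((evens n).filter fun h => b (h x) = h (c x)).card * (n * (n * n - n)) =
      (evens n).card * (if c x = x then nfix b * (n * n - n) else S2.card * n) := by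
    intro x
    split_ifs with hx
    · rw [← mul_assoc, ← mul_assoc]
      refine congrArg (· * (n * n - n)) ?_
      unfold nfix
      rw [← fibre_one (by omega) x (univ.filter fun u => b u = u)]
      simp [hx]
    · rw [mul_comm n, ← mul_assoc, ← mul_assoc]
      refine congrArg (· * n) ?_
      rw [← fibre_two (by omega) (Ne.symm hx) S2 (filter_subset _ _)]
      congr 2
      refine filter_congr fun h _ => ?_
      simp only [hS2, mem_filter, mem_offDiag, mem_univ, true_and]
      exact ⟨fun e => ⟨fun e' => hx (h.injective e').symm, e⟩, fun e => e.2⟩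
  have e4 : (evens n).card * (k * (n * (n * n - n))) = (evens n).card *
      (nfix c * (nfix b * (n * n - n)) + (n - nfix c) * (S2.card * n)) := by
    rw [← mul_assoc, e1, e2, sum_mul, sum_congr rfl (fun x _ => e3 x), ← mul_sum]
    congr 1
    rw [sum_ite, sum_const, sum_const, smul_eq_mul, smul_eq_mul]
    congr 1
    congr 1
    rw [filter_not, card_sdiff_of_subset (filter_subset _ _), card_univ, Fintype.card_fin]
    rfl
  have e5 := Nat.eq_of_mul_eq_mul_left hA e4
  have hf : nfix c ≤ n := by
    have := card_le_univ (univ.filter fun x => c x = x)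
    rwa [Fintype.card_fin] at this
  have hnn : n ≤ n * n := Nat.le_mul_self n
  zify [hf, hnn] at e5
  have hS2z : (S2.card : ℤ) = n - nfix b := by omega
  rw [hS2z] at e5
  have hn0 : (n : ℤ) ≠ 0 := by omega
  apply mul_left_cancel₀ hn0
  apply mul_left_cancel₀ hn0
  linear_combination (n : ℤ) * 0 + e5

theorem key_ge_two {c b : Perm (Fin n)} {s : Finset (Fin n)} {h : Perm (Fin n)}
    (hs : ∀ x ∈ s, b (h x) = h (c x)) : s.card ≤ agree c b h :=
  card_le_card fun x hx => mem_filter.2 ⟨mem_univ _, hs x hx⟩

theorem two_arrows {c : Perm (Fin n)} (h : nfix c + 4 ≤ n) :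
    ∃ x u : Fin n, c x ≠ x ∧ c u ≠ u ∧ x ≠ u ∧ x ≠ c u ∧ c x ≠ u := by
  set M := (univ : Finset (Fin n)).filter fun x => ¬ c x = x with hM
  have hc : 4 ≤ M.card := by
    have := card_filter_add_card_filter_not (s := (univ : Finset (Fin n))) (fun x => c x = x)
    rw [card_univ, Fintype.card_fin] at this
    rw [hM]; unfold nfix at h; omega
  obtain ⟨x, hx⟩ : M.Nonempty := card_pos.1 (by omega)
  have : (M \ {x, c x, c⁻¹ x}).Nonempty := by
    apply card_pos.1
    have h3 := card_le_three (a := x) (b := c x) (c := c⁻¹ x)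
    have := le_card_sdiff ({x, c x, c⁻¹ x} : Finset (Fin n)) M
    omega
  obtain ⟨u, hu⟩ := this
  simp only [mem_sdiff, mem_insert, mem_singleton, not_or] at hu
  obtain ⟨hu, h1, h2, h3⟩ := hu
  refine ⟨x, u, (mem_filter.1 hx).2, (mem_filter.1 hu).2, Ne.symm h1, ?_, Ne.symm h2⟩
  intro e
  exact h3 (by rw [e]; simp)

theorem five (c : Perm (Fin 5)) :
    nfix c = 1 → Perm.sign c = 1 → ∀ x, c (c x) = x := by
  unfold nfix
  revert c
  decide +kernel

theorem odd_central {c : Perm (Fin n)} (hn : n = 5) (hc : nfix c = 1) :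
    ∃ z : Perm (Fin n), Perm.sign z = -1 ∧ z * c = c * z := by
  subst hn
  rcases Int.units_eq_one_or (Perm.sign c) with h1 | h1
  · have hcc := five c hc h1
    obtain ⟨x, u, hx, -⟩ := two_arrows (c := c) (by omega)
    refine ⟨swap x (c x), Perm.sign_swap (Ne.symm hx), ?_⟩
    rw [mul_swap_eq_swap_mul, hcc, swap_comm]
  · exact ⟨c, h1, rfl⟩

theorem key (hn : 5 ≤ n) (c b : Perm (Fin n)) (hc : c ≠ 1) (hb : b ≠ 1)
    (hfg : nfix c ≤ nfix b ∧ 2 ≤ nfix c ∨ nfix c = 1) :
    ¬ ∃ k, ∀ h : Perm (Fin n), Perm.sign h = 1 → agree c b h = k := by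
  rintro ⟨k, hk⟩
  have hav := average hn c b k hk
  have hf := nfix_le hc
  have hg := nfix_le hb
  rcases hfg with ⟨hle, h2⟩ | h1
  · -- align fixed points
    obtain ⟨e⟩ : Nonempty ({x // x ∈ univ.filter (fun x => c x = x)} ↪
        {x // x ∈ univ.filter (fun x => b x = x)}) := Function.Embedding.nonempty_of_card_le (by rw [Fintype.card_coe, Fintype.card_coe]; exact hle)
    set s := (univ : Finset (Fin n)).filter fun x => c x = x with hs
    have he : Set.InjOn (fun x => if hx : x ∈ s then (e ⟨x, hx⟩).1 else x) s := by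
      intro u hu v hv huv
      simp only [mem_coe] at hu hv
      simp only [dif_pos hu, dif_pos hv] at huv
      exact congrArg Subtype.val (e.injective (Subtype.ext huv))
    obtain ⟨h, h0, hh⟩ := extend_even s hf _ he
    have hge := key_ge_two (c := c) (b := b) (h := h) (s := s) (fun x hx => by
      have hcx : c x = x := (mem_filter.1 hx).2
      rw [hcx, hh x hx, dif_pos hx]
      exact (mem_filter.1 (e ⟨x, hx⟩).2).2)
    rw [hk h h0] at hge
    have hge' : nfix c ≤ k := hge
    nlinarith
  · rw [h1] at hav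
    have hk1 : k = 1 := by
      simp only [Nat.cast_one, sub_self, zero_mul] at hav
      rcases mul_eq_zero.1 hav with h | h <;> omega
    subst hk1
    obtain ⟨x₀, hx₀⟩ := card_eq_one.1 h1
    have hx₀' : c x₀ = x₀ := by
      have : x₀ ∈ univ.filter (fun x => c x = x) := by rw [hx₀]; simp
      exact (mem_filter.1 this).2
    rcases Nat.eq_zero_or_pos (nfix b) with hg0 | hg0
    · -- two arrows
      obtain ⟨x, u, hx, hu, hxu, hxcu, hcxu⟩ := two_arrows (c := c) (by omega)
      obtain ⟨y, v, hy, hv, hyv, hybv, hbyv⟩ := two_arrows (c := b) (by omega)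
      have he : Set.InjOn (fun w => if w = x then y else if w = c x then b y else if w = u then v else b v)
          (({x, c x, u, c u} : Finset (Fin n)) : Set (Fin n)) := by
        have hd : c x ≠ c u := fun e => hxu (c.injective e)
        have hd' : b y ≠ b v := fun e => hyv (b.injective e)
        intro w₁ h₁ w₂ h₂ h12
        simp only [coe_insert, coe_singleton, Set.mem_insert_iff, Set.mem_singleton_iff] at h₁ h₂
        rcases h₁ with rfl | rfl | rfl | rfl <;> rcases h₂ with rfl | rfl | rfl | rfl <;>
          simp_all [eq_comm]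
      obtain ⟨h, hh⟩ := extend _ _ he
      have hx1 : h x = y := by rw [hh x (by simp)]; simp
      have hx2 : h (c x) = b y := by rw [hh (c x) (by simp)]; simp [hx]
      have hu1 : h u = v := by
        rw [hh u (by simp)]; simp [Ne.symm hxu, Ne.symm hcxu]
      have hu2 : h (c u) = b v := by
        rw [hh (c u) (by simp)]; simp [Ne.symm hxcu, Ne.symm hxu, hu]
      have hge := key_ge_two (c := c) (b := b) (h := h) (s := {x, u}) (fun w hw => by
        rcases mem_insert.1 hw with rfl | hw
        · rw [hx1, hx2]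
        · rw [mem_singleton.1 hw, hu1, hu2])
      rw [card_pair hxu] at hge
      rcases Int.units_eq_one_or (Perm.sign h) with hs1 | hs1
      · rw [hk h hs1] at hge; omega
      by_cases h6 : 6 ≤ n
      · have hcard := (card_le_four (a := x) (b := c x) (c := u) (d := c u))
        obtain ⟨h', h0', hh'⟩ := extend_even ({x, c x, u, c u} : Finset (Fin n)) (by omega) _ he
        have hge' := key_ge_two (c := c) (b := b) (h := h') (s := {x, u}) (fun w hw => by
          have e1 : ∀ z ∈ ({x, c x, u, c u} : Finset (Fin n)), h' z = h z := fun z hz => by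
            rw [hh z hz, hh' z hz]
          rcases mem_insert.1 hw with rfl | hw
          · rw [e1 w (by simp), e1 (c w) (by simp), hx1, hx2]
          · rw [mem_singleton.1 hw, e1 u (by simp), e1 (c u) (by simp), hu1, hu2])
        rw [card_pair hxu, hk h' h0'] at hge'
        omega
      · obtain ⟨z, hz1, hz⟩ := odd_central (c := c) (by omega) h1
        have := hk (h * z) (by simp [hs1, hz1])
        rw [agree_mul c b h z hz] at this
        omega
    · -- fixed point and an arrow
      obtain ⟨u₀, hu₀⟩ := card_pos.1 hg0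
      have hu₀' : b u₀ = u₀ := (mem_filter.1 hu₀).2
      obtain ⟨y, hy⟩ : ∃ y, c y ≠ y := by
        by_contra hne; push Not at hne; exact hc (Equiv.ext hne)
      obtain ⟨v, hv⟩ : ∃ v, b v ≠ v := by
        by_contra hne; push Not at hne; exact hb (Equiv.ext hne)
      have d1 : x₀ ≠ y := fun e => hy (e ▸ hx₀')
      have d2 : x₀ ≠ c y := fun e => d1 (c.injective (hx₀'.trans e))
      have d3 : u₀ ≠ v := fun e => hv (e ▸ hu₀')
      have d4 : u₀ ≠ b v := fun e => d3 (b.injective (hu₀'.trans e))
      set f : Fin n → Fin n := fun w => if w = x₀ then u₀ else if w = y then v else b v with hf₀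
      have f1 : f x₀ = u₀ := if_pos rfl
      have f2 : f y = v := (if_neg (Ne.symm d1)).trans (if_pos rfl)
      have f3 : f (c y) = b v := (if_neg (Ne.symm d2)).trans (if_neg hy)
      have d5 : v ≠ b v := Ne.symm hv
      have he : Set.InjOn f (({x₀, y, c y} : Finset (Fin n)) : Set (Fin n)) := by
        intro w₁ h₁ w₂ h₂ h12
        simp only [coe_insert, coe_singleton, Set.mem_insert_iff, Set.mem_singleton_iff] at h₁ h₂
        rcases h₁ with e₁ | e₁ | e₁ <;> rcases h₂ with e₂ | e₂ | e₂ <;> subst e₁ e₂ <;>
          simp only [f1, f2, f3] at h12 <;>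
          first
            | rfl
            | exact absurd h12 d3
            | exact absurd h12 d4
            | exact absurd h12 d5
            | exact absurd h12.symm d3
            | exact absurd h12.symm d4
            | exact absurd h12.symm d5
      obtain ⟨h, h0, hh⟩ := extend_even ({x₀, y, c y} : Finset (Fin n))
        (by have := card_le_three (a := x₀) (b := y) (c := c y); omega) _ he
      have hge := key_ge_two (c := c) (b := b) (h := h) (s := {x₀, y}) (fun w hw => by
        rcases mem_insert.1 hw with rfl | hw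
        · rw [hx₀', hh w (by simp), f1, hu₀']
        · rw [mem_singleton.1 hw, hh y (by simp), hh (c y) (by simp), f2, f3])
      rw [card_pair d1, hk h h0] at hge
      omega

theorem not_const (hn : 5 ≤ n) (c b : Perm (Fin n)) (hc : c ≠ 1) (hb : b ≠ 1) :
    ¬ ∃ k, ∀ h : Perm (Fin n), Perm.sign h = 1 → agree c b h = k := by
  rintro ⟨k, hk⟩
  have hk' : ∀ h : Perm (Fin n), Perm.sign h = 1 → agree b c h = k := fun h hh => by
    rw [← agree_symm b c h]
    exact hk _ (by simpa using hh)
  rcases lt_or_ge (nfix c) 2 with hf | hf <;> rcases lt_or_ge (nfix b) 2 with hg | hg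
  all_goals
    first
    | exact key hn c b hc hb (Or.inr (by omega)) ⟨k, hk⟩
    | skip
  · -- both at most one
    by_cases h1 : nfix c = 1
    · exact key hn c b hc hb (Or.inr h1) ⟨k, hk⟩
    by_cases h2 : nfix b = 1
    · exact key hn b c hb hc (Or.inr h2) ⟨k, hk'⟩
    have hav := average hn c b k hk
    rw [show nfix c = 0 by omega, show nfix b = 0 by omega] at hav
    simp only [Nat.cast_zero, zero_sub, mul_neg, neg_mul, one_mul, neg_neg, mul_one] at hav
    have := Int.eq_one_of_mul_eq_one_right (by omega : (0:ℤ) ≤ (n:ℤ) - 1) (by rw [mul_comm]; exact hav)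
    omega
  · by_cases h1 : nfix c = 1
    · exact key hn c b hc hb (Or.inr h1) ⟨k, hk⟩
    have hav := average hn c b k hk
    rw [show nfix c = 0 by omega] at hav
    have hg' := nfix_le hb
    rcases k with _ | _ | k <;> push_cast at hav <;> nlinarith
  · by_cases h2 : nfix b = 1
    · exact key hn b c hb hc (Or.inr h2) ⟨k, hk'⟩
    have hav := average hn c b k hk
    rw [show nfix b = 0 by omega] at hav
    have hf' := nfix_le hc
    rcases k with _ | _ | k <;> push_cast at hav <;> nlinarith
  · rcases le_total (nfix c) (nfix b) with hl | hl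
    · exact key hn c b hc hb (Or.inl ⟨hl, hf⟩) ⟨k, hk⟩
    · exact key hn b c hb hc (Or.inl ⟨hl, hg⟩) ⟨k, hk'⟩

end Cfsg.Agent.Perm.ClassProductFix
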