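import Mathlib

/-! Elementary counting with conjugates and centralizers. -/

namespace Cfsg.Agent.Perm

open Subgroup

variable {G : Type*} [Group G]

theorem mem_centralizer_singleton' {g x : G} :
    x ∈ centralizer ({g} : Set G) ↔ x * g = g * x := by
  rw [mem_centralizer_iff]
  simp [eq_comm]

/-- The number of `Y`-conjugates of `g` times the order of `C_Y(g)` is `|Y|`. -/
theorem card_conjugates_mul (Y : Subgroup G) (g : G) :
    Nat.card {z : G // ∃ y ∈ Y, y * g * y⁻¹ = z} *
      Nat.card ↥(Y ⊓ centralizer ({g} : Set G)) = Nat.card Y := by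
  let C := (Y ⊓ centralizer ({g} : Set G)).subgroupOf Y
  have key : ∀ a b : Y, a⁻¹ * b ∈ C ↔ (a : G) * g * (a : G)⁻¹ = b * g * (b : G)⁻¹ := by
    intro a b
    simp only [C, mem_subgroupOf, mem_inf, mem_centralizer_singleton', Subgroup.coe_mul, Subgroup.coe_inv]
    constructor
    · rintro ⟨-, h⟩
      calc (a : G) * g * (a : G)⁻¹ = a * (g * ((a : G)⁻¹ * b)) * (b : G)⁻¹ := by group
        _ = _ := by rw [← h]; group
    · intro h
      refine ⟨mul_mem (inv_mem a.2) b.2, ?_⟩
      calc (a : G)⁻¹ * b * g = (a : G)⁻¹ * (b * g * (b : G)⁻¹) * b := by group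
        _ = _ := by rw [← h]; group
  let q : Y ⧸ C → {z : G // ∃ y ∈ Y, y * g * y⁻¹ = z} :=
    Quotient.lift (fun n : Y => ⟨(n : G) * g * (n : G)⁻¹, n, n.2, rfl⟩)
      fun a b hab => Subtype.ext ((key a b).1 (QuotientGroup.leftRel_apply.1 hab))
  have hq : Function.Bijective q := by
    constructor
    · intro a b
      induction a using QuotientGroup.induction_on with
      | _ a =>
      induction b using QuotientGroup.induction_on with
      | _ b =>
      intro h
      exact QuotientGroup.eq.2 ((key a b).2 (congrArg Subtype.val h))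
    · rintro ⟨z, n, hn, rfl⟩
      exact ⟨((⟨n, hn⟩ : Y) : Y ⧸ C), rfl⟩
  rw [← Nat.card_congr (Equiv.ofBijective q hq),
    ← Nat.card_congr (subgroupOfEquivOfLe (inf_le_left : Y ⊓ centralizer ({g} : Set G) ≤ Y)).toEquiv]
  exact C.card_eq_card_quotient_mul_card_subgroup.symm

theorem card_conjugates_mul_centralizer (g : G) :
    Nat.card {z : G // ∃ y, y * g * y⁻¹ = z} * Nat.card ↥(centralizer ({g} : Set G)) = Nat.card G := by
  have h := card_conjugates_mul (⊤ : Subgroup G) g
  rw [top_inf_eq, card_top] at h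
  rw [← h]
  congr 1
  exact Nat.card_congr (Equiv.subtypeEquivRight fun z => by simp)

theorem card_comm_eq_sum (G : Type*) [Group G] [Fintype G] :
    Nat.card {p : G × G // Commute p.1 p.2} =
      ∑ x : G, Nat.card ↥(centralizer ({x} : Set G)) := by
  rw [← Nat.card_sigma]
  exact Nat.card_congr
    { toFun := fun p => ⟨p.1.1, p.1.2, mem_centralizer_singleton'.2 p.2.symm⟩
      invFun := fun s => ⟨(s.1, s.2.1), (mem_centralizer_singleton'.1 s.2.2).symm⟩
      left_inv := fun _ => rfl
      right_inv := fun _ => rfl }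

end Cfsg.Agent.Perm
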