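import Mathlib

/-!
Schur's theorem for prime-power cyclic regular subgroups: in a permutation group on `ZMod (p ^ m)`,
`m ≥ 2`, containing the translations, either some proper non-trivial subgroup is invariant under
the stabiliser of `0`, or that stabiliser is transitive on the non-zero points.
-/

set_option autoImplicit false

namespace Cfsg.Agent.CyclicPrimePower

open Finset

variable {N : ℕ} [NeZero N] (G : Subgroup (Equiv.Perm (ZMod N)))

/-- A set invariant under the stabiliser of `0`. -/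
def Inv (s : Set (ZMod N)) : Prop := ∀ σ ∈ G, σ 0 = 0 → ∀ x, σ x ∈ s ↔ x ∈ s

variable {G}

theorem exists_shift (hT : ∀ c : ZMod N, Equiv.addRight c ∈ G) {σ : Equiv.Perm (ZMod N)} (hσ : σ ∈ G)
    (z : ZMod N) : ∃ ρ ∈ G, ρ 0 = 0 ∧ ∀ x, ρ x = σ (x + z) - σ z :=
  ⟨Equiv.addRight (-σ z) * σ * Equiv.addRight z, mul_mem (mul_mem (hT _) hσ) (hT _),
    by simp, fun x => by simp [sub_eq_add_neg]⟩

variable {R : Type*} [CommRing R]

/-- An element of the group ring constant on the orbits of the stabiliser of `0`. -/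
def InvElt (G : Subgroup (Equiv.Perm (ZMod N))) (a : AddMonoidAlgebra R (ZMod N)) : Prop :=
  ∀ σ ∈ G, σ 0 = 0 → ∀ x, a.coeff (σ x) = a.coeff x

theorem coeff_mul' (a b : AddMonoidAlgebra R (ZMod N)) (x : ZMod N) :
    (a * b).coeff x = ∑ h, a.coeff h * b.coeff (-h + x) := by
  rw [AddMonoidAlgebra.coeff_mul_apply_left, Finsupp.sum_fintype]
  intro i; rw [zero_mul]

theorem InvElt.mul (hT : ∀ c : ZMod N, Equiv.addRight c ∈ G) {a b : AddMonoidAlgebra R (ZMod N)}
    (ha : InvElt G a) (hb : InvElt G b) : InvElt G (a * b) := by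
  intro σ hσ h0 x
  rw [coeff_mul', coeff_mul', ← Equiv.sum_comp σ]
  refine sum_congr rfl fun z _ => ?_
  obtain ⟨ρ, hρ, hρ0, hρx⟩ := exists_shift hT hσ z
  have e : -σ z + σ x = ρ (-z + x) := by rw [hρx]; rw [neg_add_cancel_comm]; abel
  rw [ha σ hσ h0, e, hb ρ hρ hρ0]

theorem InvElt.one : InvElt G (1 : AddMonoidAlgebra R (ZMod N)) := by
  intro σ hσ h0 x
  classical
  have e : (σ x = 0) ↔ x = 0 := ⟨fun h => σ.injective (h.trans h0.symm), fun h => h ▸ h0⟩
  simp only [AddMonoidAlgebra.one_def, AddMonoidAlgebra.coeff_single, Finsupp.single_apply, eq_comm (a := (0 : ZMod N)), e]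

theorem InvElt.pow (hT : ∀ c : ZMod N, Equiv.addRight c ∈ G) {a : AddMonoidAlgebra R (ZMod N)}
    (ha : InvElt G a) : ∀ n : ℕ, InvElt G (a ^ n)
  | 0 => by rw [pow_zero]; exact InvElt.one
  | n + 1 => by rw [pow_succ]; exact (InvElt.pow hT ha n).mul hT ha

/-- The sum of the elements of a set. -/
noncomputable def ind (s : Finset (ZMod N)) : AddMonoidAlgebra R (ZMod N) :=
  ∑ x ∈ s, AddMonoidAlgebra.single x 1

theorem ind_coeff (s : Finset (ZMod N)) (y : ZMod N) :
    (ind s : AddMonoidAlgebra R (ZMod N)).coeff y = if y ∈ s then 1 else 0 := by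
  classical
  rw [ind, AddMonoidAlgebra.coeff_sum, Finsupp.finset_sum_apply]
  simp [Finsupp.single_apply, eq_comm]

theorem invElt_ind {s : Finset (ZMod N)} (hs : Inv G (s : Set (ZMod N))) :
    InvElt G (ind s : AddMonoidAlgebra R (ZMod N)) := by
  intro σ hσ h0 x
  have h := hs σ hσ h0 x
  simp only [mem_coe] at h
  classical
  rw [ind_coeff, ind_coeff]
  simp only [h]

/-- Frobenius: the multiples of an invariant set. -/
theorem inv_count (hT : ∀ c : ZMod N, Equiv.addRight c ∈ G) (l : ℕ) [Fact l.Prime] {s : Finset (ZMod N)}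
    (hs : Inv G (s : Set (ZMod N))) {σ : Equiv.Perm (ZMod N)} (hσ : σ ∈ G) (h0 : σ 0 = 0) (y : ZMod N) :
    ((#(s.filter fun x => l • x = σ y) : ℕ) : ZMod l) = (#(s.filter fun x => l • x = y) : ℕ) := by
  haveI : CharP (AddMonoidAlgebra (ZMod l) (ZMod N)) l :=
    charP_of_injective_algebraMap' (ZMod l) l
  have key : ∀ z, ((ind s : AddMonoidAlgebra (ZMod l) (ZMod N)) ^ l).coeff z =
      ((#(s.filter fun x => l • x = z) : ℕ) : ZMod l) := by
    intro z
    rw [ind, sum_pow_char, AddMonoidAlgebra.coeff_sum, Finsupp.finset_sum_apply]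
    simp only [AddMonoidAlgebra.single_pow, one_pow, AddMonoidAlgebra.coeff_single, Finsupp.single_apply]
    rw [sum_boole]
  rw [← key, ← key]
  exact (invElt_ind hs).pow hT l σ hσ h0 y

variable (G) in
/-- The orbit of a point under the stabiliser of `0`. -/
noncomputable def orb (x : ZMod N) : Finset (ZMod N) := by
  classical exact univ.filter fun y => ∃ σ ∈ G, σ 0 = 0 ∧ σ x = y

theorem mem_orb {x y : ZMod N} : y ∈ orb G x ↔ ∃ σ ∈ G, σ 0 = 0 ∧ σ x = y := by
  simp [orb]

theorem self_mem_orb (x : ZMod N) : x ∈ orb G x := mem_orb.mpr ⟨1, one_mem G, rfl, rfl⟩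

theorem inv_orb (x : ZMod N) : Inv G (orb G x : Set (ZMod N)) := by
  intro σ hσ h0 y
  simp only [mem_coe, mem_orb]
  constructor
  · rintro ⟨τ, hτ, hτ0, hτx⟩
    exact ⟨σ⁻¹ * τ, mul_mem (inv_mem hσ) hτ, by simp only [Equiv.Perm.mul_apply, hτ0]; exact Equiv.Perm.inv_eq_iff_eq.mpr h0.symm,
      by simp [hτx]⟩
  · rintro ⟨τ, hτ, hτ0, hτx⟩
    exact ⟨σ * τ, mul_mem hσ hτ, by simp [hτ0, h0], by simp [hτx]⟩

theorem orb_subset {s : Finset (ZMod N)} (hs : Inv G (s : Set (ZMod N))) {x : ZMod N} (hx : x ∈ s) :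
    orb G x ⊆ s := fun y hy => by
  obtain ⟨σ, hσ, h0, rfl⟩ := mem_orb.mp hy
  exact mem_coe.mp ((hs σ hσ h0 x).mpr (mem_coe.mpr hx))

theorem orb_eq {x y : ZMod N} (hy : y ∈ orb G x) : orb G y = orb G x := by
  refine (orb_subset (inv_orb x) hy).antisymm (orb_subset (inv_orb y) ?_)
  obtain ⟨σ, hσ, h0, hσx⟩ := mem_orb.mp hy
  exact mem_orb.mpr ⟨σ⁻¹, inv_mem hσ, Equiv.Perm.inv_eq_iff_eq.mpr h0.symm,
    Equiv.Perm.inv_eq_iff_eq.mpr hσx.symm⟩

theorem zero_notMem_orb {x : ZMod N} (hx : x ≠ 0) : (0 : ZMod N) ∉ orb G x := fun h => by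
  obtain ⟨σ, -, h0, hσx⟩ := mem_orb.mp h
  exact hx (σ.injective (hσx.trans h0.symm))

/-- Two rational combinations of the powers of a primitive `p`-th root of unity. -/
theorem eq_const_of_sum_eq_zero {p : ℕ} [Fact p.Prime] {ω : ℂ} (hω : IsPrimitiveRoot ω p)
    (c : ZMod p → ℤ) (h : ∑ j, (c j : ℂ) * ω ^ j.val = 0) (j : ZMod p) : c j = c 0 := by
  classical
  have hp := (Fact.out : p.Prime)
  set P : Polynomial ℚ := ∑ j, Polynomial.C (c j : ℚ) * Polynomial.X ^ j.val with hP
  have hroot : Polynomial.aeval ω P = 0 := by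
    rw [hP, map_sum, ← h]
    exact sum_congr rfl fun j _ => by simp
  have hdvd : Polynomial.cyclotomic p ℚ ∣ P := by
    rw [Polynomial.cyclotomic_eq_minpoly_rat hω hp.pos]
    exact minpoly.dvd ℚ ω hroot
  obtain ⟨Q, hQ⟩ := hdvd
  have hcoeff : ∀ i : ZMod p, P.coeff i.val = (c i : ℚ) := by
    intro i
    simp only [hP, Polynomial.finset_sum_coeff, Polynomial.coeff_C_mul_X_pow]
    rw [sum_eq_single i (fun b _ hb => if_neg fun e => hb (ZMod.val_injective p e.symm))
      (fun hn => absurd (mem_univ i) hn), if_pos rfl]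
  have hdeg : P.natDegree ≤ p - 1 := by
    refine Polynomial.natDegree_sum_le_of_forall_le _ _ fun i _ => (Polynomial.natDegree_C_mul_X_pow_le _ _).trans ?_
    have := ZMod.val_lt i
    omega
  rcases eq_or_ne Q 0 with rfl | hQ0
  · rw [mul_zero] at hQ
    have h1 := hcoeff j
    have h2 := hcoeff 0
    rw [hQ, Polynomial.coeff_zero] at h1 h2
    exact_mod_cast h1.symm.trans h2
  have hQd : Q.natDegree = 0 := by
    have := congrArg Polynomial.natDegree hQ
    rw [Polynomial.natDegree_mul (Polynomial.cyclotomic_ne_zero p ℚ) hQ0, Polynomial.natDegree_cyclotomic,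
      Nat.totient_prime hp] at this
    omega
  obtain ⟨a, rfl⟩ := Polynomial.natDegree_eq_zero.mp hQd
  have h1 : ∀ i : ZMod p, (c i : ℚ) = a := by
    intro i
    rw [← hcoeff, hQ, Polynomial.coeff_mul_C, Polynomial.cyclotomic_prime, Polynomial.finset_sum_coeff]
    simp only [Polynomial.coeff_X_pow]
    rw [sum_ite_eq, if_pos (mem_range.mpr (ZMod.val_lt i)), one_mul]
  exact_mod_cast (h1 j).trans (h1 0).symm

variable (G) in
/-- The invariant elements of the complex group ring. -/
noncomputable def invAlg (hT : ∀ c : ZMod N, Equiv.addRight c ∈ G) : Subalgebra ℂ (AddMonoidAlgebra ℂ (ZMod N)) where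
  carrier := {a | InvElt G a}
  mul_mem' := InvElt.mul hT
  one_mem' := InvElt.one
  add_mem' := fun ha hb σ hσ h0 x => by
    simp only [AddMonoidAlgebra.coeff_add, Finsupp.add_apply, ha σ hσ h0 x, hb σ hσ h0 x]
  zero_mem' := fun σ _ _ x => by simp
  algebraMap_mem' := fun r σ hσ h0 x => by
    rw [Algebra.algebraMap_eq_smul_one, AddMonoidAlgebra.coeff_smul_apply, AddMonoidAlgebra.coeff_smul_apply,
      InvElt.one σ hσ h0 x]

theorem finrank_invAlg_le (hT : ∀ c : ZMod N, Equiv.addRight c ∈ G) :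
    FiniteDimensional ℂ (invAlg G hT) ∧
      Module.finrank ℂ (invAlg G hT) ≤ #((univ : Finset (ZMod N)).image (orb G)) := by
  classical
  let rep : ↥((univ : Finset (ZMod N)).image (orb G)) → ZMod N := fun T => (mem_image.mp T.2).choose
  have hrep : ∀ T, orb G (rep T) = T.1 := fun T => (mem_image.mp T.2).choose_spec.2
  let L : invAlg G hT →ₗ[ℂ] (↥((univ : Finset (ZMod N)).image (orb G)) → ℂ) :=
    { toFun := fun a T => (a : AddMonoidAlgebra ℂ (ZMod N)).coeff (rep T)
      map_add' := fun a b => by funext T; simp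
      map_smul' := fun r a => by funext T; simp }
  have hL : Function.Injective L := by
    intro a b h
    refine Subtype.ext (AddMonoidAlgebra.coeff_injective (Finsupp.ext fun x => ?_))
    set T : ↥((univ : Finset (ZMod N)).image (orb G)) := ⟨orb G x, mem_image_of_mem _ (mem_univ x)⟩ with hTx
    have hx : x ∈ orb G (rep T) := by rw [hrep]; exact self_mem_orb x
    obtain ⟨σ, hσ, h0, hσx⟩ := mem_orb.mp hx
    rw [← hσx, a.2 σ hσ h0, b.2 σ hσ h0]
    exact congrFun h T
  refine ⟨FiniteDimensional.of_injective L hL, ?_⟩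
  have := LinearMap.finrank_le_finrank_of_injective hL
  rwa [Module.finrank_fintype_fun_eq_card, Fintype.card_coe] at this

section Schur

variable {p m : ℕ} [Fact p.Prime] [NeZero (p ^ m)] {G : Subgroup (Equiv.Perm (ZMod (p ^ m)))}

/-- Schur: the stabiliser of `0` is transitive on non-zero points unless it has an invariant subgroup. -/
theorem schur (hm : 2 ≤ m) (hT : ∀ c : ZMod (p ^ m), Equiv.addRight c ∈ G)
    (hprim : ∀ H : AddSubgroup (ZMod (p ^ m)), Inv G (H : Set (ZMod (p ^ m))) → H = ⊥ ∨ H = ⊤)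
    (x : ZMod (p ^ m)) (hx : x ≠ 0) : x ∈ orb G 1 := by
  classical
  have hp := (Fact.out : p.Prime)
  have hpm : p ^ m = p ^ (m - 1) * p := by rw [← pow_succ, Nat.sub_add_cancel (by omega)]
  let r : ZMod (p ^ m) →+* ZMod p := ZMod.castHom (dvd_pow_self p (by omega)) (ZMod p)
  let q : ZMod (p ^ m) := ((p ^ (m - 1) : ℕ) : ZMod (p ^ m))
  let emb : ZMod p → ZMod (p ^ m) := fun j => q * (j.val : ZMod (p ^ m))
  have hq : ∀ a b : ℕ, q * (a : ZMod (p ^ m)) = q * (b : ZMod (p ^ m)) ↔ (a : ZMod p) = b := by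
    intro a b
    simp only [q, ← Nat.cast_mul, ZMod.natCast_eq_natCast_iff]
    conv_lhs => rw [hpm]
    exact ⟨fun h => Nat.ModEq.mul_left_cancel' (pow_ne_zero _ hp.ne_zero) h, fun h => h.mul_left' _⟩
  have hr : ∀ y, r y = ((y.val : ℕ) : ZMod p) := fun y => by
    conv_lhs => rw [← ZMod.natCast_zmod_val y]
    rw [map_natCast]
  have hqr : ∀ y, q * y = emb (r y) := by
    intro y
    conv_lhs => rw [← ZMod.natCast_zmod_val y]
    refine (hq _ _).mpr ?_
    rw [ZMod.natCast_zmod_val, hr]
  have hkemb : ∀ (k : ZMod (p ^ m)) (j : ZMod p), k * emb j = emb (r k * j) := by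
    intro k j
    rw [show k * emb j = q * (k * (j.val : ZMod (p ^ m))) by simp only [emb]; ring, hqr]
    rw [map_mul, map_natCast, ZMod.natCast_zmod_val]
  have hembinj : Function.Injective emb := fun i j h => by
    have := (hq _ _).mp h
    rwa [ZMod.natCast_zmod_val, ZMod.natCast_zmod_val] at this
  have hemb0 : emb 0 = 0 := by simp [emb]
  have hembp : ∀ j, p • emb j = 0 := fun j => by
    rw [nsmul_eq_mul, hkemb, map_natCast, ZMod.natCast_self, zero_mul, hemb0]
  have htors : ∀ y : ZMod (p ^ m), p • y = 0 → ∃ j, y = emb j := by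
    intro y hy
    rw [← ZMod.natCast_zmod_val y, nsmul_eq_mul, ← Nat.cast_mul, ZMod.natCast_eq_zero_iff] at hy
    obtain ⟨c, hc⟩ : p ^ (m - 1) ∣ y.val :=
      Nat.dvd_of_mul_dvd_mul_left hp.pos ((show p * p ^ (m - 1) ∣ p * y.val by rw [mul_comm p (p ^ (m-1)), ← hpm]; exact hy))
    refine ⟨(c : ℕ), ?_⟩
    rw [← ZMod.natCast_zmod_val y, hc, Nat.cast_mul]
    exact (hq _ _).mpr (by rw [ZMod.natCast_zmod_val])
  have hunit : ∀ y : ZMod (p ^ m), r y ≠ 0 → IsUnit y := by
    intro y hy
    rw [← ZMod.natCast_zmod_val y, ZMod.isUnit_iff_coprime]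
    refine Nat.Coprime.pow_right _ ((hp.coprime_iff_not_dvd.mpr fun hd => hy ?_).symm)
    rw [hr, ZMod.natCast_eq_zero_iff]; exact hd
  have hrq : ∀ j, r (emb j) = 0 := fun j => by
    simp only [emb, q, map_mul, map_natCast]
    rw [Nat.cast_pow, ZMod.natCast_self, zero_pow (by omega), zero_mul]
  -- the p-th power map
  have hroots : ∀ s : Finset (ZMod (p ^ m)), Inv G (s : Set (ZMod (p ^ m))) →
      ∀ y ∈ s, p • y ≠ 0 → ∀ j, y + emb j ∈ s := by
    intro s hs y hy hpy
    let Y : Set (ZMod (p ^ m)) := {z | z ≠ 0 ∧ ((#(s.filter fun x => p • x = z) : ℕ) : ZMod p) ≠ 0}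
    have hYinv : ∀ σ ∈ G, σ 0 = 0 → ∀ z, σ z ∈ Y ↔ z ∈ Y := by
      intro σ hσ h0 z
      have hne : σ z ≠ 0 ↔ z ≠ 0 :=
        not_congr ⟨fun h => σ.injective (h.trans h0.symm), fun h => h ▸ h0⟩
      simp only [Y, Set.mem_setOf_eq, inv_count hT p hs hσ h0, hne]
    let H : AddSubgroup (ZMod (p ^ m)) := AddSubgroup.closure Y
    have hHin : ∀ z ∈ H, ∀ σ ∈ G, σ 0 = 0 → σ z ∈ H := by
      intro z hz
      induction hz using AddSubgroup.closure_induction with
      | mem w hw => exact fun σ hσ h0 => AddSubgroup.subset_closure ((hYinv σ hσ h0 w).mpr hw)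
      | zero => exact fun σ _ h0 => by rw [h0]; exact H.zero_mem
      | add a b _ _ ha hb =>
        intro σ hσ h0
        obtain ⟨ρ, hρ, hρ0, hρx⟩ := exists_shift hT hσ a
        have e : σ (a + b) = σ a + ρ b := by rw [hρx, add_comm b a]; abel
        rw [e]; exact H.add_mem (ha σ hσ h0) (hb ρ hρ hρ0)
      | neg a _ ha =>
        intro σ hσ h0
        obtain ⟨ρ, hρ, hρ0, hρx⟩ := exists_shift hT hσ (-a)
        have e : σ (-a) = -ρ a := by rw [hρx, add_neg_cancel, h0]; abel
        rw [e]; exact H.neg_mem (ha ρ hρ hρ0)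
    have hH : Inv G (H : Set (ZMod (p ^ m))) := fun σ hσ h0 z => ⟨fun h => by
      have := hHin _ h σ⁻¹ (inv_mem hσ) (Equiv.Perm.inv_eq_iff_eq.mpr h0.symm)
      simpa using this, fun h => hHin z h σ hσ h0⟩
    have hYle : H ≤ r.toAddMonoidHom.ker := by
      rw [AddSubgroup.closure_le]
      intro z hz
      obtain ⟨w, hw⟩ : (s.filter fun x => p • x = z).Nonempty :=
        Finset.card_ne_zero.mp fun h => hz.2 (by rw [h]; simp)
      rw [SetLike.mem_coe, AddMonoidHom.mem_ker, ← (mem_filter.mp hw).2, map_nsmul, nsmul_eq_mul,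
        ZMod.natCast_self, zero_mul]
    have hzero : ((#(s.filter fun x => p • x = p • y) : ℕ) : ZMod p) = 0 := by
      by_contra hne
      rcases hprim H hH with h | h
      · exact hpy ((AddSubgroup.mem_bot).mp (h ▸ AddSubgroup.subset_closure ⟨hpy, hne⟩ : p • y ∈ (⊥ : AddSubgroup _)))
      · have h1 := hYle (h ▸ AddSubgroup.mem_top (1 : ZMod (p ^ m)))
        rw [AddMonoidHom.mem_ker, RingHom.toAddMonoidHom_eq_coe, AddMonoidHom.coe_coe, map_one] at h1
        exact one_ne_zero h1
    have hfib : (s.filter fun x => p • x = p • y) ⊆ (univ : Finset (ZMod p)).image fun j => y + emb j := by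
      intro z hz
      obtain ⟨j, hj⟩ := htors (z - y) (by rw [nsmul_sub, (mem_filter.mp hz).2, sub_self])
      exact mem_image.mpr ⟨j, mem_univ j, by rw [← hj, add_sub_cancel]⟩
    have heq := eq_of_subset_of_card_le hfib (by
      refine card_image_le.trans ?_
      rw [card_univ, ZMod.card]
      refine Nat.le_of_dvd (card_pos.mpr ⟨y, mem_filter.mpr ⟨hy, rfl⟩⟩) ?_
      rwa [← ZMod.natCast_eq_zero_iff])
    intro j
    have : y + emb j ∈ (univ : Finset (ZMod p)).image fun j => y + emb j := mem_image.mpr ⟨j, mem_univ j, rfl⟩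
    rw [← heq] at this
    exact (mem_filter.mp this).1
  -- every orbit meets the subgroup of order p
  have hmeet : ∀ y, y ≠ 0 → ∃ j, j ≠ 0 ∧ emb j ∈ orb G y := by
    intro y hy
    by_contra hno
    push Not at hno
    have hnz := zero_notMem_orb (G := G) hy
    have hall : ∀ z ∈ orb G y, p • z ≠ 0 := by
      intro z hz h
      obtain ⟨j, rfl⟩ := htors z h
      exact hno j (fun e => hnz (by rw [e, hemb0] at hz; exact hz)) hz
    let H : AddSubgroup (ZMod (p ^ m)) :=
      { carrier := {c | (orb G y).image (· + c) = orb G y}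
        zero_mem' := by
          show (orb G y).image (fun z => z + 0) = orb G y
          rw [funext (fun z : ZMod (p ^ m) => add_zero z), image_id']
        add_mem' := fun {a b} ha hb => by
          show (orb G y).image (· + (a + b)) = orb G y
          conv_rhs => rw [← (hb : (orb G y).image (· + b) = orb G y), ← (ha : (orb G y).image (· + a) = orb G y), image_image]
          exact image_congr fun z _ => (add_assoc z a b).symm
        neg_mem' := fun {a} ha => by
          show (orb G y).image (· + -a) = orb G y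
          conv_lhs => rw [← (ha : (orb G y).image (· + a) = orb G y), image_image]
          conv_rhs => rw [← image_id (s := orb G y)]
          exact image_congr fun z _ => by simp }
    have hH : Inv G (H : Set (ZMod (p ^ m))) := by
      have one : ∀ σ ∈ G, σ 0 = 0 → ∀ c ∈ H, σ c ∈ H := by
        intro σ hσ h0 c hc
        change (orb G y).image (· + σ c) = orb G y
        refine (eq_of_subset_of_card_le (fun z hz => ?_) (card_image_of_injective _ (add_left_injective _)).le).symm
        -- `z` pulls back to a point of the orbit translated by `c`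
        have hpre : σ⁻¹ z ∈ (orb G y).image (· + c) := by
          rw [(hc : (orb G y).image (· + c) = orb G y)]
          exact mem_coe.mp ((inv_orb y σ hσ h0 (σ⁻¹ z)).mp (by simpa using hz))
        obtain ⟨w, hw, hwz⟩ := mem_image.mp hpre
        obtain ⟨ρ, hρ, hρ0, hρx⟩ := exists_shift hT hσ c
        refine mem_image.mpr ⟨ρ w, mem_coe.mp ((inv_orb y ρ hρ hρ0 w).mpr hw), ?_⟩
        skip
        rw [hρx, hwz]; simp
      exact fun σ hσ h0 z => ⟨fun h => by
        have := one σ⁻¹ (inv_mem hσ) (Equiv.Perm.inv_eq_iff_eq.mpr h0.symm) _ h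
        simpa using this, fun h => one σ hσ h0 z h⟩
    have hQ : emb 1 ∈ H := by
      refine eq_of_subset_of_card_le (image_subset_iff.mpr fun z hz => hroots _ (inv_orb y) z hz (hall z hz) 1)
        (card_image_of_injective _ (add_left_injective _)).ge
    rcases hprim H hH with h | h
    · rw [h, AddSubgroup.mem_bot, ← hemb0] at hQ
      exact one_ne_zero (hembinj hQ)
    · have h1 : -y ∈ H := h ▸ AddSubgroup.mem_top _
      have h2 : y + -y ∈ orb G y := (h1 : (orb G y).image (· + -y) = orb G y) ▸ mem_image_of_mem _ (self_mem_orb y)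
      rw [add_neg_cancel] at h2
      exact hnz h2
  -- multipliers
  have hmult : ∀ (k : ℕ), ¬ p ∣ k → ∀ s : Finset (ZMod (p ^ m)), Inv G (s : Set (ZMod (p ^ m))) →
      Inv G ((s.image fun z => (k : ZMod (p ^ m)) * z : Finset (ZMod (p ^ m))) : Set (ZMod (p ^ m))) := by
    intro k
    induction k using Nat.recOnMul with
    | zero => exact fun h => absurd (dvd_zero p) h
    | one => intro _ s hs; simpa using hs
    | prime l hl =>
      intro hpl s hs σ hσ h0 z
      haveI := Fact.mk hl
      have hu : IsUnit (l : ZMod (p ^ m)) := by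
        rw [ZMod.isUnit_iff_coprime]
        exact ((hp.coprime_iff_not_dvd.mpr hpl).symm).pow_right _
      have hmem : ∀ w, w ∈ s.image (fun z => (l : ZMod (p ^ m)) * z) ↔
          ((#(s.filter fun x => l • x = w) : ℕ) : ZMod l) ≠ 0 := by
        intro w
        rcases (s.filter fun x => l • x = w).eq_empty_or_nonempty with he | ⟨v, hv⟩
        · rw [he]
          refine iff_of_false (fun h => ?_) (by simp)
          obtain ⟨v, hv, hvw⟩ := mem_image.mp h
          exact notMem_empty v (he ▸ mem_filter.mpr ⟨hv, by rw [nsmul_eq_mul]; exact hvw⟩)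
        · have : (s.filter fun x => l • x = w) = {v} := eq_singleton_iff_unique_mem.mpr ⟨hv, fun x hx => by
            have e := (mem_filter.mp hx).2.trans (mem_filter.mp hv).2.symm
            rw [nsmul_eq_mul, nsmul_eq_mul] at e
            exact hu.mul_left_cancel e⟩
          rw [this, card_singleton, Nat.cast_one]
          exact iff_of_true (mem_image.mpr ⟨v, (mem_filter.mp hv).1, by rw [← (mem_filter.mp hv).2, nsmul_eq_mul]⟩) one_ne_zero
      rw [mem_coe, mem_coe, hmem, hmem, inv_count hT l hs hσ h0]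
    | mul a b iha ihb =>
      intro hab s hs
      have := iha (fun h => hab (dvd_mul_of_dvd_left h b)) _ (ihb (fun h => hab (dvd_mul_of_dvd_right h a)) s hs)
      rwa [image_image, show ((fun z => (a : ZMod (p ^ m)) * z) ∘ fun z => (b : ZMod (p ^ m)) * z) =
        fun z => ((a * b : ℕ) : ZMod (p ^ m)) * z by funext z; simp [mul_assoc]] at this
  have horbmul : ∀ (k z : ZMod (p ^ m)), r k ≠ 0 → (orb G z).image (k * ·) = orb G (k * z) := by
    intro k z hk
    obtain ⟨k', hk'⟩ := (hunit k hk).exists_left_inv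
    have hn : ∀ c : ZMod (p ^ m), r c ≠ 0 → ¬ p ∣ c.val := fun c hc hd => hc (by
      rw [hr, ZMod.natCast_eq_zero_iff]; exact hd)
    have hk'0 : r k' ≠ 0 := fun h => one_ne_zero (α := ZMod p) (by rw [← map_one r, ← hk', map_mul, h, zero_mul])
    have hi : ∀ c : ZMod (p ^ m), r c ≠ 0 → ∀ w, orb G (c * w) ⊆ (orb G w).image (c * ·) := fun c hc w => by
      have := hmult c.val (hn c hc) _ (inv_orb w)
      rw [ZMod.natCast_zmod_val] at this
      exact orb_subset this (mem_image_of_mem _ (self_mem_orb w))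
    refine (eq_of_subset_of_card_le (hi k hk z) (card_image_le.trans ?_)).symm
    have h2 := card_le_card (hi k' hk'0 (k * z))
    rw [← mul_assoc, hk', one_mul] at h2
    exact h2.trans card_image_le
  -- the orbit of `1`
  have h10 : (1 : ZMod (p ^ m)) ≠ 0 := fun h => one_ne_zero (α := ZMod p) (by rw [← map_one r, h, map_zero])
  obtain ⟨j₀, hj₀, hu₀⟩ := hmeet 1 h10
  set T₀ := orb G (1 : ZMod (p ^ m)) with hT₀
  have hT00 : (0 : ZMod (p ^ m)) ∉ T₀ := zero_notMem_orb h10
  have hmap : ∀ y, y ≠ 0 → ∃ k, r k ≠ 0 ∧ T₀.image (k * ·) = orb G y := by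
    intro y hy
    obtain ⟨j, hj, hju⟩ := hmeet y hy
    refine ⟨((j * j₀⁻¹).val : ZMod (p ^ m)), ?_, ?_⟩
    · rw [map_natCast, ZMod.natCast_zmod_val]; exact mul_ne_zero hj (inv_ne_zero hj₀)
    · rw [hT₀, horbmul _ _ (by rw [map_natCast, ZMod.natCast_zmod_val]; exact mul_ne_zero hj (inv_ne_zero hj₀)), mul_one]
      refine (orb_eq (?_ : ((j * j₀⁻¹).val : ZMod (p ^ m)) * emb j₀ ∈ _)).symm.trans ?_
      · have := mem_image_of_mem (fun z => ((j * j₀⁻¹).val : ZMod (p ^ m)) * z) hu₀
        rwa [horbmul _ _ (by rw [map_natCast, ZMod.natCast_zmod_val]; exact mul_ne_zero hj (inv_ne_zero hj₀)), mul_one] at this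
      · rw [hkemb, map_natCast, ZMod.natCast_zmod_val, inv_mul_cancel_right₀ hj₀]
        exact orb_eq hju
  by_cases hres : ∀ j : ZMod p, ∃ z ∈ T₀, r z = j
  · -- every unit lies in the orbit of 1
    have hunits : ∀ y, r y ≠ 0 → y ∈ T₀ := by
      intro y hy
      obtain ⟨z, hz, hzy⟩ := hres (r y)
      obtain ⟨z', hz'⟩ := (hunit z (hzy ▸ hy)).exists_left_inv
      have hk1 : r (y * z') = 1 := by rw [map_mul, ← hzy, ← map_mul, mul_comm, hz', map_one]
      have himg : T₀.image ((y * z') * ·) = T₀ := by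
        rw [hT₀, horbmul _ _ (hk1 ▸ one_ne_zero), mul_one]
        refine (orb_eq (?_ : emb j₀ ∈ _)).symm.trans (orb_eq hu₀)
        have := mem_image_of_mem (fun w => (y * z') * w) hu₀
        rw [horbmul _ _ (hk1 ▸ one_ne_zero), mul_one] at this
        simpa only [hkemb, hk1, one_mul] using this
      rw [← himg]
      exact mem_image.mpr ⟨z, hz, by rw [mul_assoc, hz', mul_one]⟩
    obtain ⟨k, hk, hk'⟩ := hmap x hx
    rw [hT₀, horbmul _ _ hk, mul_one] at hk'
    have hkT := hunits k hk
    show x ∈ orb G 1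
    rw [← orb_eq hkT, hk']
    exact self_mem_orb x
  · exfalso
    obtain ⟨j₁, hj₁⟩ := not_forall.mp hres
    push Not at hj₁
    -- too many distinct characters of the invariant algebra
    let ζ : ℂ := Complex.exp (2 * Real.pi * Complex.I / (p ^ m : ℕ))
    have hζ : IsPrimitiveRoot ζ (p ^ m) := Complex.isPrimitiveRoot_exp _ (NeZero.ne _)
    let χ : AddChar (ZMod (p ^ m)) ℂ := AddChar.zmodChar (p ^ m) hζ.pow_eq_one
    let ω : ℂ := ζ ^ (p ^ (m - 1))
    have hω : IsPrimitiveRoot ω p := hζ.pow (NeZero.pos _) hpm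
    have hχemb : ∀ j, χ (emb j) = ω ^ j.val := fun j => by
      simp only [emb, q, ← Nat.cast_mul, χ, ω, AddChar.zmodChar_apply', pow_mul]
    let R := ((univ : Finset (ZMod (p ^ m))).image (orb G)).filter fun T => (0 : ZMod (p ^ m)) ∉ T
    have hR : ∀ T : R, ∃ k, r k ≠ 0 ∧ T₀.image (k * ·) = T.1 := by
      rintro ⟨T, hT'⟩
      obtain ⟨hTm, hT0⟩ := mem_filter.mp hT'
      obtain ⟨y, -, rfl⟩ := mem_image.mp hTm
      exact hmap y fun e => hT0 (by rw [e]; exact self_mem_orb _)
    choose kf hkf hkT using hR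
    let ks : Option (Option R) → ZMod (p ^ m) := fun o => o.elim 0 (fun o => o.elim q kf)
    let φ : Option (Option R) → (invAlg G hT →ₐ[ℂ] ℂ) := fun o =>
      (AddMonoidAlgebra.lift ℂ ℂ (ZMod (p ^ m)) (χ.mulShift (ks o)).toMonoidHom).comp (invAlg G hT).val
    let t : invAlg G hT := ⟨ind T₀, invElt_ind (inv_orb 1)⟩
    have hev : ∀ o, φ o t = ∑ z ∈ T₀, χ (ks o * z) := fun o => by
      simp only [φ, t, ind, AlgHom.comp_apply, Subalgebra.coe_val, map_sum, AddMonoidAlgebra.lift_single, one_smul]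
      rfl
    -- values
    have hv0 : φ none t = ∑ j : ZMod p, (((if j = 0 then #T₀ else 0 : ℕ) : ℤ) : ℂ) * ω ^ j.val := by
      rw [hev, sum_eq_single (0 : ZMod p) (fun b _ hb => by simp [hb]) (fun h => absurd (mem_univ _) h)]
      simp [ks]
    have hvq : φ (some none) t = ∑ j, ((#(T₀.filter fun z => r z = j) : ℤ) : ℂ) * ω ^ j.val := by
      rw [hev, ← sum_fiberwise T₀ (fun z => r z)]
      refine sum_congr rfl fun j _ => ?_
      rw [sum_congr rfl (g := fun _ => ω ^ j.val) fun z hz => by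
        simp only [ks, Option.elim_some, Option.elim_none]
        rw [hqr, hχemb, (mem_filter.mp hz).2]]
      simp
    have hvk : ∀ T : R, φ (some (some T)) t = ∑ j, (((if emb j ∈ T.1 then 1 else 0 : ℕ) : ℤ) : ℂ) * ω ^ j.val := by
      intro T
      rw [hev]
      simp only [ks, Option.elim_some]
      have hinj : Function.Injective fun z : ZMod (p ^ m) => kf T * z := (hunit _ (hkf T)).mul_right_injective
      rw [← sum_image (g := fun z => kf T * z) (f := fun z => χ z) (fun a _ b _ h => hinj h), hkT]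
      rw [← sum_filter_add_sum_filter_not T.1 (fun z => p • z = 0)]
      have hout : ∑ z ∈ T.1.filter (fun z => ¬ p • z = 0), χ z = 0 := by
        set S := ∑ z ∈ T.1.filter (fun z => ¬ p • z = 0), χ z
        have h1 : S * χ (emb 1) = S := by
          rw [sum_mul]
          refine sum_equiv (Equiv.addRight (emb 1)) (fun z => ?_) (fun z _ => by simp [AddChar.map_add_eq_mul])
          obtain ⟨hTm, -⟩ := mem_filter.mp T.2
          obtain ⟨y, -, hy⟩ := mem_image.mp hTm
          rw [← hy]
          simp only [mem_filter, Equiv.coe_addRight, nsmul_add, hembp, add_zero]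
          constructor
          · rintro ⟨hz, hz'⟩
            exact ⟨hroots _ (inv_orb y) z hz hz' 1, hz'⟩
          · rintro ⟨hz, hz'⟩
            refine ⟨?_, hz'⟩
            have := hroots _ (inv_orb y) _ hz (by rwa [nsmul_add, hembp, add_zero]) (-1)
            have e : emb 1 + emb (-1) = 0 := by
              simp only [emb, ← mul_add, ← Nat.cast_add]
              exact ((hq _ 0).mpr (by rw [Nat.cast_add, ZMod.natCast_zmod_val, ZMod.natCast_zmod_val, add_neg_cancel, Nat.cast_zero])).trans (by simp)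
            rwa [add_assoc, e, add_zero] at this
        have h2 : χ (emb 1) ≠ 1 := by
          rw [hχemb, ZMod.val_one, pow_one]; exact hω.ne_one hp.one_lt
        by_contra hS
        exact h2 (mul_left_cancel₀ hS (h1.trans (mul_one S).symm))
      rw [hout, add_zero]
      have hset : T.1.filter (fun z => p • z = 0) = ((univ : Finset (ZMod p)).filter fun j => emb j ∈ T.1).image emb := by
        ext z
        simp only [mem_filter, mem_image, mem_univ, true_and]
        exact ⟨fun ⟨hz, hz'⟩ => by obtain ⟨j, rfl⟩ := htors z hz'; exact ⟨j, hz, rfl⟩,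
          fun ⟨j, hj, e⟩ => e ▸ ⟨hj, hembp j⟩⟩
      rw [hset, sum_image (fun a _ b _ h => hembinj h), sum_filter]
      refine sum_congr rfl fun j _ => ?_
      split_ifs <;> simp [hχemb]
    have key : ∀ (c d : ZMod p → ℕ), ∑ j, ((c j : ℤ) : ℂ) * ω ^ j.val = ∑ j, ((d j : ℤ) : ℂ) * ω ^ j.val →
        ∀ j, (c j : ℤ) - d j = c 0 - d 0 := fun c d h j =>
      eq_const_of_sum_eq_zero hω (fun j => (c j : ℤ) - d j) (by
        simp only [Int.cast_sub, sub_mul, sum_sub_distrib, h, sub_self]) j
    have hTzero : ∀ T : R, emb 0 ∉ T.1 := fun T => hemb0 ▸ (mem_filter.mp T.2).2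
    have hn0 : 0 < #(T₀.filter fun z => r z = 0) := card_pos.mpr ⟨emb j₀, mem_filter.mpr ⟨hu₀, hrq j₀⟩⟩
    have hn1 : 0 < #(T₀.filter fun z => r z = 1) := card_pos.mpr ⟨1, mem_filter.mpr ⟨self_mem_orb 1, map_one r⟩⟩
    have hj₁' : #(T₀.filter fun z => r z = j₁) = 0 := by
      rw [card_eq_zero, filter_eq_empty_iff]; exact fun z hz => hj₁ z hz
    have hle0 : #(T₀.filter fun z => r z = 0) ≤ #T₀ := card_filter_le _ _
    have hne : φ none t ≠ φ (some none) t := by
      rw [hv0, hvq]
      intro h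
      have := key _ _ h 1
      simp only [one_ne_zero, if_false, if_pos] at this
      omega
    have hne0 : ∀ T : R, φ none t ≠ φ (some (some T)) t := by
      intro T
      rw [hv0, hvk]
      intro h
      have := key _ _ h 1
      simp only [one_ne_zero, if_false, if_pos, hTzero T] at this
      have hc : 0 < #T₀ := card_pos.mpr ⟨1, self_mem_orb 1⟩
      split_ifs at this <;> omega
    have hneq : ∀ T : R, φ (some none) t ≠ φ (some (some T)) t := by
      intro T
      rw [hvq, hvk]
      intro h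
      have := key _ _ h j₁
      simp only [if_false, hTzero T, hj₁'] at this
      split_ifs at this <;> omega
    have hnek : ∀ T T' : R, φ (some (some T)) t = φ (some (some T')) t → T = T' := by
      intro T T' h
      rw [hvk, hvk] at h
      have hj : emb (r (kf T) * j₀) ∈ T.1 := by
        rw [← hkT T, ← hkemb]; exact mem_image_of_mem _ hu₀
      have := key _ _ h (r (kf T) * j₀)
      simp only [if_false, hTzero T, hTzero T', hj, if_true] at this
      have hj' : emb (r (kf T) * j₀) ∈ T'.1 := by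
        by_contra hh
        rw [if_neg hh] at this
        omega
      obtain ⟨y, -, hy⟩ := mem_image.mp (mem_filter.mp T.2).1
      obtain ⟨y', -, hy'⟩ := mem_image.mp (mem_filter.mp T'.2).1
      rw [← hy] at hj
      rw [← hy'] at hj'
      exact Subtype.ext (by rw [← hy, ← hy', ← orb_eq hj, orb_eq hj'])
    have hφ : Function.Injective φ := by
      rintro (_ | _ | T) (_ | _ | T') h <;> have h' := AlgHom.congr_fun h t
      · rfl
      · exact absurd h' hne
      · exact absurd h' (hne0 T')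
      · exact absurd h'.symm hne
      · rfl
      · exact absurd h' (hneq T')
      · exact absurd h'.symm (hne0 T)
      · exact absurd h'.symm (hneq T)
      · rw [hnek T T' h']
    obtain ⟨hfd, hfr⟩ := finrank_invAlg_le (G := G) hT
    have hli := (linearIndependent_algHom_toLinearMap' ℂ (invAlg G hT) ℂ).comp φ hφ
    have h1 := hli.fintype_card_le_finrank
    rw [Subspace.dual_finrank_eq, Fintype.card_option, Fintype.card_option, Fintype.card_coe] at h1
    have h2 : #((univ : Finset (ZMod (p ^ m))).image (orb G)) ≤ #R + 1 := by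
      refine (card_le_card (?_ : _ ⊆ insert (orb G 0) R)).trans (card_insert_le _ _)
      intro T hTm
      by_cases h0 : (0 : ZMod (p ^ m)) ∈ T
      · obtain ⟨y, -, rfl⟩ := mem_image.mp hTm
        exact mem_insert.mpr (Or.inl (orb_eq h0).symm)
      · exact mem_insert_of_mem (mem_filter.mpr ⟨hTm, h0⟩)
    omega

end Schur

section Composite

variable {N : ℕ} [NeZero N] {G : Subgroup (Equiv.Perm (ZMod N))}

/-- An invariant set is periodic off the subgroup of order `p`. -/
theorem periodic (hT : ∀ c : ZMod N, Equiv.addRight c ∈ G)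
    (hprim : ∀ H : AddSubgroup (ZMod N), Inv G (H : Set (ZMod N)) → H = ⊥ ∨ H = ⊤)
    {p : ℕ} [Fact p.Prime] (hpN : p ∣ N) {s : Finset (ZMod N)} (hs : Inv G (s : Set (ZMod N)))
    {y : ZMod N} (hy : y ∈ s) (hpy : p • y ≠ 0) {c : ZMod N} (hc : p • c = 0) : y + c ∈ s := by
  classical
  let r : ZMod N →+* ZMod p := ZMod.castHom hpN (ZMod p)
  let Y : Set (ZMod N) := {z | z ≠ 0 ∧ ((#(s.filter fun x => p • x = z) : ℕ) : ZMod p) ≠ 0}
  have hYinv : ∀ σ ∈ G, σ 0 = 0 → ∀ z, σ z ∈ Y ↔ z ∈ Y := by
    intro σ hσ h0 z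
    have hne : σ z ≠ 0 ↔ z ≠ 0 :=
      not_congr ⟨fun h => σ.injective (h.trans h0.symm), fun h => h ▸ h0⟩
    simp only [Y, Set.mem_setOf_eq, inv_count hT p hs hσ h0, hne]
  let H : AddSubgroup (ZMod N) := AddSubgroup.closure Y
  have hHin : ∀ z ∈ H, ∀ σ ∈ G, σ 0 = 0 → σ z ∈ H := by
    intro z hz
    induction hz using AddSubgroup.closure_induction with
    | mem w hw => exact fun σ hσ h0 => AddSubgroup.subset_closure ((hYinv σ hσ h0 w).mpr hw)
    | zero => exact fun σ _ h0 => by rw [h0]; exact H.zero_mem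
    | add a b _ _ ha hb =>
      intro σ hσ h0
      obtain ⟨ρ, hρ, hρ0, hρx⟩ := exists_shift hT hσ a
      have e : σ (a + b) = σ a + ρ b := by rw [hρx, add_comm b a]; abel
      rw [e]; exact H.add_mem (ha σ hσ h0) (hb ρ hρ hρ0)
    | neg a _ ha =>
      intro σ hσ h0
      obtain ⟨ρ, hρ, hρ0, hρx⟩ := exists_shift hT hσ (-a)
      have e : σ (-a) = -ρ a := by rw [hρx, add_neg_cancel, h0]; abel
      rw [e]; exact H.neg_mem (ha ρ hρ hρ0)
  have hH : Inv G (H : Set (ZMod N)) := fun σ hσ h0 z => ⟨fun h => by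
    have := hHin _ h σ⁻¹ (inv_mem hσ) (Equiv.Perm.inv_eq_iff_eq.mpr h0.symm)
    simpa using this, fun h => hHin z h σ hσ h0⟩
  have hYle : H ≤ r.toAddMonoidHom.ker := by
    rw [AddSubgroup.closure_le]
    intro z hz
    obtain ⟨w, hw⟩ : (s.filter fun x => p • x = z).Nonempty :=
      Finset.card_ne_zero.mp fun h => hz.2 (by rw [h]; simp)
    rw [SetLike.mem_coe, AddMonoidHom.mem_ker, ← (mem_filter.mp hw).2, map_nsmul, nsmul_eq_mul,
      ZMod.natCast_self, zero_mul]
  have hzero : ((#(s.filter fun x => p • x = p • y) : ℕ) : ZMod p) = 0 := by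
    by_contra hne
    rcases hprim H hH with h | h
    · exact hpy ((AddSubgroup.mem_bot).mp (h ▸ AddSubgroup.subset_closure ⟨hpy, hne⟩ : p • y ∈ (⊥ : AddSubgroup _)))
    · have h1 := hYle (h ▸ AddSubgroup.mem_top (1 : ZMod N))
      rw [AddMonoidHom.mem_ker, RingHom.toAddMonoidHom_eq_coe, AddMonoidHom.coe_coe, map_one] at h1
      exact one_ne_zero h1
  have hfib : (s.filter fun x => p • x = p • y) ⊆
      ((univ : Finset (ZMod N)).filter fun z => p • z = 0).image (y + ·) := by
    intro z hz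
    exact mem_image.mpr ⟨z - y, mem_filter.mpr ⟨mem_univ _, by rw [nsmul_sub, (mem_filter.mp hz).2, sub_self]⟩,
      add_sub_cancel y z⟩
  have heq := eq_of_subset_of_card_le hfib (by
    refine card_image_le.trans ((IsAddCyclic.card_nsmul_eq_zero_le (α := ZMod N) (Fact.out : p.Prime).pos).trans ?_)
    refine Nat.le_of_dvd (card_pos.mpr ⟨y, mem_filter.mpr ⟨hy, rfl⟩⟩) ?_
    rwa [← ZMod.natCast_eq_zero_iff])
  have : y + c ∈ ((univ : Finset (ZMod N)).filter fun z => p • z = 0).image (y + ·) :=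
    mem_image.mpr ⟨c, mem_filter.mpr ⟨mem_univ _, hc⟩, rfl⟩
  rw [← heq] at this
  exact (mem_filter.mp this).1

/-- Every orbit meets the subgroup of order `p`. -/
theorem exists_torsion_mem_orb (hT : ∀ c : ZMod N, Equiv.addRight c ∈ G)
    (hprim : ∀ H : AddSubgroup (ZMod N), Inv G (H : Set (ZMod N)) → H = ⊥ ∨ H = ⊤)
    {p : ℕ} [Fact p.Prime] (hpN : p ∣ N) {y : ZMod N} (hy : y ≠ 0) :
    ∃ a ∈ orb G y, p • a = 0 := by
  classical
  by_contra hall
  push Not at hall
  obtain ⟨c, hc⟩ := exists_prime_addOrderOf_dvd_card (G := ZMod N) p (by rwa [ZMod.card])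
  let H : AddSubgroup (ZMod N) :=
    { carrier := {c | (orb G y).image (· + c) = orb G y}
      zero_mem' := by
        show (orb G y).image (fun z => z + 0) = orb G y
        rw [funext (fun z : ZMod N => add_zero z), image_id']
      add_mem' := fun {a b} ha hb => by
        show (orb G y).image (· + (a + b)) = orb G y
        conv_rhs => rw [← (hb : (orb G y).image (· + b) = orb G y), ← (ha : (orb G y).image (· + a) = orb G y), image_image]
        exact image_congr fun z _ => (add_assoc z a b).symm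
      neg_mem' := fun {a} ha => by
        show (orb G y).image (· + -a) = orb G y
        conv_lhs => rw [← (ha : (orb G y).image (· + a) = orb G y), image_image]
        conv_rhs => rw [← image_id (s := orb G y)]
        exact image_congr fun z _ => by simp }
  have one : ∀ σ ∈ G, σ 0 = 0 → ∀ c ∈ H, σ c ∈ H := by
    intro σ hσ h0 c hc
    change (orb G y).image (· + σ c) = orb G y
    refine (eq_of_subset_of_card_le (fun z hz => ?_) (card_image_of_injective _ (add_left_injective _)).le).symm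
    have hpre : σ⁻¹ z ∈ (orb G y).image (· + c) := by
      rw [(hc : (orb G y).image (· + c) = orb G y)]
      exact mem_coe.mp ((inv_orb y σ hσ h0 (σ⁻¹ z)).mp (by simpa using hz))
    obtain ⟨w, hw, hwz⟩ := mem_image.mp hpre
    obtain ⟨ρ, hρ, hρ0, hρx⟩ := exists_shift hT hσ c
    refine mem_image.mpr ⟨ρ w, mem_coe.mp ((inv_orb y ρ hρ hρ0 w).mpr hw), ?_⟩
    rw [hρx, hwz]; simp
  have hH : Inv G (H : Set (ZMod N)) := fun σ hσ h0 z => ⟨fun h => by
    have := one σ⁻¹ (inv_mem hσ) (Equiv.Perm.inv_eq_iff_eq.mpr h0.symm) _ h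
    simpa using this, fun h => one σ hσ h0 z h⟩
  have hcH : c ∈ H := eq_of_subset_of_card_le (image_subset_iff.mpr fun z hz =>
    periodic hT hprim hpN (inv_orb y) hz (hall z hz) (by rw [← hc, addOrderOf_nsmul_eq_zero]))
    (card_image_of_injective _ (add_left_injective _)).ge
  rcases hprim H hH with h | h
  · rw [h, AddSubgroup.mem_bot] at hcH
    rw [hcH, addOrderOf_zero] at hc
    exact (Fact.out : p.Prime).ne_one hc.symm
  · have h1 : -y ∈ H := h ▸ AddSubgroup.mem_top _
    have h2 : y + -y ∈ orb G y := (h1 : (orb G y).image (· + -y) = orb G y) ▸ mem_image_of_mem _ (self_mem_orb y)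
    rw [add_neg_cancel] at h2
    exact zero_notMem_orb (G := G) hy h2

/-- Schur: composite, non prime power degree. -/
theorem schur_composite (hT : ∀ c : ZMod N, Equiv.addRight c ∈ G)
    (hprim : ∀ H : AddSubgroup (ZMod N), Inv G (H : Set (ZMod N)) → H = ⊥ ∨ H = ⊤)
    {p l : ℕ} [Fact p.Prime] [Fact l.Prime] (hpl : p ≠ l) (hp : p ∣ N) (hl : l ∣ N)
    {x y : ZMod N} (hx : x ≠ 0) (hy : y ≠ 0) : x ∈ orb G y := by
  have hcop : p.Coprime l := (Nat.coprime_primes Fact.out Fact.out).mpr hpl
  have kill : ∀ z : ZMod N, p • z = 0 → l • z = 0 → z = 0 := by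
    intro z h1 h2
    rw [← AddMonoid.addOrderOf_eq_one_iff]
    exact Nat.eq_one_of_dvd_coprimes hcop (addOrderOf_dvd_iff_nsmul_eq_zero.mpr h1)
      (addOrderOf_dvd_iff_nsmul_eq_zero.mpr h2)
  have main : ∀ z : ZMod N, z ≠ 0 → ∀ c, c ≠ 0 → p • c = 0 → c ∈ orb G z := by
    intro z hz c hc0 hc
    obtain ⟨a, ha, hla⟩ := exists_torsion_mem_orb hT hprim hl hz
    have ha0 : a ≠ 0 := fun e => zero_notMem_orb (G := G) hz (e ▸ ha)
    have h1 : a + c ∈ orb G z :=
      periodic hT hprim hp (inv_orb z) ha (fun e => ha0 (kill a e hla)) hc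
    have h2 := periodic hT hprim hl (inv_orb z) h1
      (by rw [nsmul_add, hla, zero_add]; exact fun e => hc0 (kill c hc e))
      (c := -a) (by rw [nsmul_eq_mul, mul_neg, ← nsmul_eq_mul, hla, neg_zero])
    rwa [add_neg_cancel_comm] at h2
  obtain ⟨b, hb, hpb⟩ := exists_torsion_mem_orb hT hprim hp hx
  have hb0 : b ≠ 0 := fun e => zero_notMem_orb (G := G) hx (e ▸ hb)
  rw [← orb_eq (main y hy b hb0 hpb), orb_eq hb]
  exact self_mem_orb x

end Composite

end Cfsg.Agent.CyclicPrimePower
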