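import Mathlib

/-! A fixed-point-free linear map of prime order `q` in characteristic `p`, and its semilinear
symmetries. -/

namespace Cfsg.Agent.Perm

open Polynomial

variable {p q : ℕ} [hp : Fact p.Prime] [hq : Fact q.Prime]
variable {V : Type*} [AddCommGroup V] [Module (ZMod p) V]

theorem aeval_pow_commute (T : Module.End (ZMod p) V) (φ : Module.End (ZMod p) V) {i : ℕ}
    (h : φ * T = T ^ i * φ) (f : (ZMod p)[X]) (v : V) :
    φ ((aeval T f) v) = (aeval T (f.comp (X ^ i))) (φ v) := by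
  rw [aeval_comp, map_pow, aeval_X]
  have hk : ∀ k : ℕ, φ * T ^ k = (T ^ i) ^ k * φ := by
    intro k
    induction k with
    | zero => simp
    | succ k ih => rw [pow_succ, ← mul_assoc, ih, mul_assoc, h, ← mul_assoc, ← pow_succ]
  suffices h2 : φ * aeval T f = aeval (T ^ i) f * φ from LinearMap.congr_fun h2 v
  induction f using Polynomial.induction_on' with
  | add a b ha hb => rw [map_add, map_add, mul_add, add_mul, ha, hb]
  | monomial k c =>
    rw [aeval_monomial, aeval_monomial, ← mul_assoc, ← Algebra.commutes, mul_assoc, hk, mul_assoc]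

theorem aeval_cyclotomic_eq_zero (T : Module.End (ZMod p) V) (hT : T ^ q = 1)
    (hfix : ∀ v, T v = v → v = 0) : aeval T (cyclotomic q (ZMod p)) = 0 := by
  have h : (T - 1) * aeval T (cyclotomic q (ZMod p)) = 0 := by
    have := congrArg (aeval T) (cyclotomic_prime_mul_X_sub_one (ZMod p) q)
    simp only [map_mul, map_sub, aeval_X, map_one, map_pow, hT, sub_self] at this
    rw [← this]
    have hc : Commute (T - 1) (aeval T (cyclotomic q (ZMod p))) := by
      have h2 := (Commute.all (X - 1 : (ZMod p)[X]) (cyclotomic q (ZMod p))).map (aeval T)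
      simpa using h2
    exact hc.eq
  ext v
  refine hfix _ ?_
  have := LinearMap.congr_fun h v
  simpa [sub_eq_zero] using this

/-- An irreducible polynomial with a non-zero kernel vector. -/
theorem exists_irreducible_kernel [Nontrivial V] (T : Module.End (ZMod p) V) (hT : T ^ q = 1)
    (hfix : ∀ v, T v = v → v = 0) :
    ∃ (h : (ZMod p)[X]) (v : V), Irreducible h ∧ h.Monic ∧ h ∣ cyclotomic q (ZMod p) ∧ v ≠ 0 ∧
      (aeval T h) v = 0 := by
  obtain ⟨v0, hv0⟩ := exists_ne (0 : V)
  let S : Set ℕ := {d | ∃ (h : (ZMod p)[X]) (v : V), h.natDegree = d ∧ h.Monic ∧ v ≠ 0 ∧ (aeval T h) v = 0}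
  have hS : S.Nonempty := ⟨_, cyclotomic q (ZMod p), v0, rfl, cyclotomic.monic q _, hv0, by
    rw [aeval_cyclotomic_eq_zero T hT hfix]; rfl⟩
  obtain ⟨h, v, hd, hm, hv, hhv⟩ := Nat.sInf_mem hS
  have hmin : ∀ (g : (ZMod p)[X]) (w : V), g.Monic → w ≠ 0 → (aeval T g) w = 0 →
      h.natDegree ≤ g.natDegree := fun g w hg hw hgw => hd ▸ Nat.sInf_le ⟨g, w, rfl, hg, hw, hgw⟩
  have h1 : h ≠ 1 := fun e => hv (by simpa [e] using hhv)
  have hirr : Irreducible h := by
    rw [hm.irreducible_iff_natDegree']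
    refine ⟨h1, fun a b ha hb hab hmem => ?_⟩
    rw [Finset.mem_Ioc] at hmem
    have hsum := congrArg natDegree hab
    rw [ha.natDegree_mul hb] at hsum
    by_cases hbv : (aeval T b) v = 0
    · have := hmin b v hb hv hbv
      omega
    · have h2 : (aeval T a) ((aeval T b) v) = 0 := by
        rw [← hab, map_mul] at hhv
        exact hhv
      have := hmin a _ ha hbv h2
      omega
  refine ⟨h, v, hirr, hm, ?_, hv, hhv⟩
  by_contra hnd
  obtain ⟨a, b, hab⟩ := (hirr.coprime_iff_not_dvd.2 hnd)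
  have := congrArg (fun f => (aeval T f) v) hab
  simp [hhv, aeval_cyclotomic_eq_zero T hT hfix] at this
  exact hv this.symm

theorem pow_mod_q (T : Module.End (ZMod p) V) (hT : T ^ q = 1) (n : ℕ) : T ^ n = T ^ (n % q) := by
  conv_lhs => rw [← Nat.mod_add_div n q, pow_add, pow_mul, hT, one_pow, mul_one]

theorem orderOf_natCast_eq_of_transitive [Nontrivial V] (T : Module.End (ZMod p) V) (hT : T ^ q = 1)
    (hfix : ∀ v, T v = v → v = 0) (hpq : p ≠ q)
    (htr : ∀ v w : V, v ≠ 0 → w ≠ 0 → ∃ (φ : Module.End (ZMod p) V) (i : ℕ),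
      Function.Bijective φ ∧ ¬ q ∣ i ∧ φ * T = T ^ i * φ ∧ φ v = w)
    (hall : ∀ i : ℕ, ¬ q ∣ i → ∃ φ : Module.End (ZMod p) V, Function.Bijective φ ∧ φ * T = T ^ i * φ) :
    orderOf (p : ZMod q) = q - 1 := by
  obtain ⟨h, v, hirr, hm, hdvd, hv, hhv⟩ := exists_irreducible_kernel T hT hfix
  have hann : ∀ f : (ZMod p)[X], ∀ u : V, u ≠ 0 → (aeval T h) u = 0 → (aeval T f) u = 0 → h ∣ f := by
    intro f u hu hhu hfu
    by_contra hnd
    obtain ⟨a, b, hab⟩ := (hirr.coprime_iff_not_dvd.2 hnd)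
    have := congrArg (fun g => (aeval T g) u) hab
    simp [hhu, hfu] at this
    exact hu this.symm
  have hdvd0 : ∀ f : (ZMod p)[X], ∀ u : V, (aeval T h) u = 0 → h ∣ f → (aeval T f) u = 0 := by
    rintro _ u hu ⟨c, rfl⟩
    rw [mul_comm, map_mul]
    simp [hu]
  have hinv : ∀ i : ℕ, ¬ q ∣ i → ∃ j : ℕ, ¬ q ∣ j ∧ (i * j) % q = 1 := by
    intro i hi
    refine ⟨((i : ZMod q)⁻¹).val, ?_, ?_⟩
    · intro hd
      have h0 : (i : ZMod q)⁻¹ = 0 := by
        rw [← ZMod.natCast_zmod_val ((i : ZMod q)⁻¹), ZMod.natCast_eq_zero_iff]; exact hd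
      exact hi ((ZMod.natCast_eq_zero_iff _ _).1 (inv_eq_zero.1 h0))
    · have h0 : (i : ZMod q) ≠ 0 := fun e => hi ((ZMod.natCast_eq_zero_iff _ _).1 e)
      have h1 : ((i * ((i : ZMod q)⁻¹).val : ℕ) : ZMod q) = ((1 : ℕ) : ZMod q) := by
        rw [Nat.cast_mul, ZMod.natCast_zmod_val, mul_inv_cancel₀ h0, Nat.cast_one]
      have := (ZMod.natCast_eq_natCast_iff' _ _ _).1 h1
      rwa [Nat.one_mod_eq_one.2 hq.out.ne_one] at this
  have hcomp : ∀ (l j : ℕ), (l * j) % q = 1 → ∀ (f : (ZMod p)[X]) (u : V),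
      (aeval T ((f.comp (X ^ l)).comp (X ^ j))) u = (aeval T f) u := by
    intro l j hlj f u
    rw [comp_assoc, X_pow_comp, ← pow_mul, mul_comm j l, aeval_comp, map_pow, aeval_X,
      pow_mod_q T hT (l * j), hlj, pow_one]
  -- the whole space is killed by `h`
  have hzero : ∀ w : V, (aeval T h) w = 0 := by
    intro w
    by_cases hw : w = 0
    · simp [hw]
    obtain ⟨φ, i, hφ, hi, hφT, hφv⟩ := htr v w hv hw
    by_cases hvw : v + w = 0
    · rw [eq_neg_of_add_eq_zero_right hvw, map_neg, hhv, neg_zero]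
    obtain ⟨ψ, l, hψ, hl, hψT, hψv⟩ := htr v (v + w) hv hvw
    have hsum : (aeval T (h.comp (X ^ l))) v + (aeval T (h.comp (X ^ l))) w = 0 := by
      rw [← map_add, ← hψv, ← aeval_pow_commute T ψ hψT, hhv, map_zero]
    by_cases hl0 : (aeval T (h.comp (X ^ l))) v = 0
    · rw [hl0, zero_add] at hsum
      have hback : ∀ u, (aeval T (h.comp (X ^ l))) u = 0 → ∃ u0, ψ u0 = u ∧ (aeval T h) u0 = 0 := by
        intro u hu
        obtain ⟨u0, rfl⟩ := hψ.2 u
        refine ⟨u0, rfl, hψ.1 ?_⟩
        rw [aeval_pow_commute T ψ hψT, hu, map_zero]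
      obtain ⟨l', hl'q, hll'⟩ := hinv l hl
      obtain ⟨u0, hu0, hhu0⟩ := hback v hl0
      obtain ⟨u1, hu1, hhu1⟩ := hback w hsum
      have hval : ∀ u, ψ ((aeval T (h.comp (X ^ l'))) u) = (aeval T h) (ψ u) := by
        intro u
        rw [aeval_pow_commute T ψ hψT, hcomp l' l (by rwa [mul_comm]) h]
      have hdd : h ∣ h.comp (X ^ l') := by
        refine hann _ u0 (fun e => hv (by rw [← hu0, e, map_zero])) hhu0 (hψ.1 ?_)
        rw [hval, hu0, hhv, map_zero]
      rw [← hu1, ← hval, hdvd0 _ u1 hhu1 hdd, map_zero]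
    · obtain ⟨i', hi'q, hii'⟩ := hinv i hi
      let g : (ZMod p)[X] := -((h.comp (X ^ l)).comp (X ^ i'))
      have hval : ∀ (f : (ZMod p)[X]) (u : V),
          φ ((aeval T (f.comp (X ^ i'))) u) = (aeval T f) (φ u) := by
        intro f u
        rw [aeval_pow_commute T φ hφT, hcomp i' i (by rwa [mul_comm]) f]
      have hu : (aeval T (h.comp (X ^ l))) v = φ ((aeval T g) v) := by
        rw [show g = -((h.comp (X ^ l)).comp (X ^ i')) from rfl, map_neg, LinearMap.neg_apply, map_neg,
          hval, hφv]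
        exact eq_neg_of_add_eq_zero_left hsum
      have hhu : (aeval T h) ((aeval T (h.comp (X ^ l))) v) = 0 := by
        rw [← Module.End.mul_apply, ← map_mul, mul_comm, map_mul, Module.End.mul_apply, hhv, map_zero]
      have h3 : (aeval T (h.comp (X ^ i') * g)) v = 0 := by
        apply hφ.1
        rw [map_mul, Module.End.mul_apply, hval, ← hu, hhu, map_zero]
      have h4 : h ∣ h.comp (X ^ i') * g := hann _ v hv hhv h3
      have h5 : ¬ h ∣ g := fun hd => hl0 (by rw [hu, hdvd0 _ v hhv hd, map_zero])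
      rcases (hirr.prime.dvd_mul).1 h4 with hd | hd
      · rw [← hφv, ← hval, hdvd0 _ v hhv hd, map_zero]
      · exact absurd hd h5
  have hroots : ∀ i : ℕ, ¬ q ∣ i → h ∣ h.comp (X ^ i) := by
    intro i hi
    obtain ⟨φ, hφ, hφT⟩ := hall i hi
    refine hann _ v hv hhv ?_
    obtain ⟨u, hu⟩ := hφ.2 v
    rw [← hu, ← aeval_pow_commute T φ hφT, hzero, map_zero]
  -- count roots
  have : Fact (Irreducible h) := ⟨hirr⟩
  set ζ := AdjoinRoot.root h with hζ
  have hp' : (q : ZMod p) ≠ 0 := fun e =>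
    hpq ((Nat.prime_dvd_prime_iff_eq hp.out hq.out).1 ((ZMod.natCast_eq_zero_iff _ _).1 e))
  have hne0 : NeZero (q : AdjoinRoot h) := ⟨fun e => hp' ((AdjoinRoot.of h).injective (by
    rw [map_natCast, map_zero]; exact e))⟩
  have hζprim : IsPrimitiveRoot ζ q := by
    rw [← isRoot_cyclotomic_iff, IsRoot.def, ← map_cyclotomic q (AdjoinRoot.of h), eval_map]
    exact eval₂_eq_zero_of_dvd_of_eval₂_eq_zero _ _ hdvd (AdjoinRoot.eval₂_root h)
  have hdeg : q - 1 ≤ h.natDegree := by
    classical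
    have hroot : ∀ i ∈ Finset.Ico 1 q, ζ ^ i ∈ (h.map (AdjoinRoot.of h)).roots.toFinset := by
      intro i hi
      rw [Finset.mem_Ico] at hi
      rw [Multiset.mem_toFinset, mem_roots (map_ne_zero hm.ne_zero), IsRoot.def, eval_map]
      have hd := hroots i (fun hd => by have := Nat.le_of_dvd (by omega) hd; omega)
      have h2 : eval₂ (AdjoinRoot.of h) ζ (h.comp (X ^ i)) = 0 :=
        eval₂_eq_zero_of_dvd_of_eval₂_eq_zero _ _ hd (AdjoinRoot.eval₂_root h)
      simpa [eval₂_comp] using h2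
    have hcard : ((Finset.Ico 1 q).image (ζ ^ ·)).card = q - 1 := by
      rw [Finset.card_image_of_injOn, Nat.card_Ico]
      intro a ha b hb hab
      simp only [Finset.coe_Ico, Set.mem_Ico] at ha hb
      exact hζprim.pow_inj ha.2 hb.2 hab
    have h1 := Finset.card_le_card (Finset.image_subset_iff.2 hroot)
    rw [hcard] at h1
    exact h1.trans ((Multiset.toFinset_card_le _).trans ((card_roots' _).trans natDegree_map_le))
  -- the field has `p ^ deg h` elements
  have hne : (p : ZMod q) ≠ 0 := fun e =>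
    hpq ((Nat.prime_dvd_prime_iff_eq hq.out hp.out).1 ((ZMod.natCast_eq_zero_iff _ _).1 e)).symm
  set d := orderOf (p : ZMod q) with hd
  have hdpos : 0 < d := by
    rw [hd, orderOf_pos_iff]
    exact isOfFinOrder_iff_pow_eq_one.2 ⟨q - 1, by have := hq.out.two_le; omega, ZMod.pow_card_sub_one_eq_one hne⟩
  refine le_antisymm (Nat.le_of_dvd (by have := hq.out.two_le; omega) (ZMod.orderOf_dvd_card_sub_one hne))
    (hdeg.trans ?_)
  have hfin : Module.Finite (ZMod p) (AdjoinRoot h) := hm.finite_adjoinRoot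
  have : Finite (AdjoinRoot h) := Module.finite_of_finite (ZMod p)
  have : CharP (AdjoinRoot h) p := charP_of_injective_ringHom (AdjoinRoot.of h).injective p
  have hpd : ζ ^ p ^ d = ζ := by
    have h1 : ((p ^ d : ℕ) : ZMod q) = ((1 : ℕ) : ZMod q) := by
      rw [Nat.cast_pow, hd, pow_orderOf_eq_one, Nat.cast_one]
    have h2 := (ZMod.natCast_eq_natCast_iff' _ _ _).1 h1
    rw [Nat.one_mod_eq_one.2 hq.out.ne_one] at h2
    conv_lhs => rw [← Nat.mod_add_div (p ^ d) q, h2, pow_add, pow_mul, hζprim.pow_eq_one, one_pow, mul_one, pow_one]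
  let F := iterateFrobenius (AdjoinRoot h) p d
  have hall2 : ∀ x : AdjoinRoot h, F x = x := by
    intro x
    induction x using AdjoinRoot.induction_on with
    | ih f =>
      induction f using Polynomial.induction_on' with
      | add a b ha hb => rw [map_add, map_add, ha, hb]
      | monomial k c =>
        rw [← C_mul_X_pow_eq_monomial, map_mul, map_mul, map_pow, map_pow, AdjoinRoot.mk_C, AdjoinRoot.mk_X]
        congr 1
        · show iterateFrobenius _ p d _ = _
          rw [iterateFrobenius_def, ← map_pow, ZMod.pow_card_pow]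
        · show (iterateFrobenius _ p d ζ) ^ k = _
          rw [iterateFrobenius_def, hpd]
  classical
  have : Fintype (AdjoinRoot h) := Fintype.ofFinite _
  have hpoly : (X ^ p ^ d - X : (AdjoinRoot h)[X]) ≠ 0 :=
    FiniteField.X_pow_card_pow_sub_X_ne_zero _ (by omega) hp.out.one_lt
  have hsub : (Finset.univ : Finset (AdjoinRoot h)) ⊆ (X ^ p ^ d - X : (AdjoinRoot h)[X]).roots.toFinset := by
    intro x _
    rw [Multiset.mem_toFinset, mem_roots hpoly]
    have := hall2 x
    rw [show F = iterateFrobenius (AdjoinRoot h) p d from rfl, iterateFrobenius_def] at this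
    simp [IsRoot.def, this]
  have hle : Fintype.card (AdjoinRoot h) ≤ p ^ d := by
    refine (Finset.card_le_card hsub).trans ((Multiset.toFinset_card_le _).trans ((card_roots' _).trans ?_))
    rw [FiniteField.X_pow_card_pow_sub_X_natDegree_eq _ (by omega) hp.out.one_lt]
  have hcardK : Fintype.card (AdjoinRoot h) = p ^ h.natDegree := by
    rw [Module.card_eq_pow_finrank (K := ZMod p), ZMod.card,
      Module.finrank_eq_card_basis (AdjoinRoot.powerBasis' hm).basis, Fintype.card_fin]
    rfl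
  rw [hcardK] at hle
  exact (Nat.pow_le_pow_iff_right hp.out.one_lt).1 hle

theorem exists_semilinear [Finite V] [Nontrivial V] (T : Module.End (ZMod p) V) (hT : T ^ q = 1)
    (hfix : ∀ v, T v = v → v = 0) (hpq : p ≠ q) (hord : orderOf (p : ZMod q) = q - 1)
    {v w : V} (hv : v ≠ 0) (hw : w ≠ 0) {i : ℕ} (hi : ¬ q ∣ i) :
    ∃ L : V ≃+ V, L v = w ∧ ∀ u, L (T u) = (T ^ i) (L u) := by
  classical
  have hp' : (q : ZMod p) ≠ 0 := fun e =>
    hpq ((Nat.prime_dvd_prime_iff_eq hp.out hq.out).1 ((ZMod.natCast_eq_zero_iff _ _).1 e))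
  obtain ⟨h, v0, hirr, hm, hdvd, hv0, hhv0⟩ := exists_irreducible_kernel T hT hfix
  have : Fact (Irreducible h) := ⟨hirr⟩
  have hfin : Module.Finite (ZMod p) (AdjoinRoot h) := hm.finite_adjoinRoot
  have hfinK : Finite (AdjoinRoot h) := Module.finite_of_finite (ZMod p)
  have hchar : CharP (AdjoinRoot h) p := charP_of_injective_ringHom (AdjoinRoot.of h).injective p
  have hne : NeZero (q : AdjoinRoot h) := ⟨fun e => hp' ((AdjoinRoot.of h).injective (by
    rw [map_natCast, map_zero]; exact e))⟩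
  have hζ : IsPrimitiveRoot (AdjoinRoot.root h) q := by
    rw [← isRoot_cyclotomic_iff, IsRoot.def, ← map_cyclotomic q (AdjoinRoot.of h), eval_map]
    exact eval₂_eq_zero_of_dvd_of_eval₂_eq_zero _ _ hdvd (AdjoinRoot.eval₂_root h)
  -- `h` is the whole cyclotomic polynomial
  have hdeg : q - 1 ≤ h.natDegree := by
    have : Fintype (AdjoinRoot h) := Fintype.ofFinite _
    have hcardK : Fintype.card (AdjoinRoot h) = p ^ h.natDegree := by
      rw [Module.card_eq_pow_finrank (K := ZMod p), ZMod.card,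
        Module.finrank_eq_card_basis (AdjoinRoot.powerBasis' hm).basis, Fintype.card_fin]
      rfl
    have h1 := FiniteField.pow_card_sub_one_eq_one (AdjoinRoot.root h) (hζ.ne_zero hq.out.ne_zero)
    rw [hcardK] at h1
    have h2 := hζ.dvd_of_pow_eq_one _ h1
    have h3 : (p : ZMod q) ^ h.natDegree = 1 := by
      have h4 : ((p ^ h.natDegree : ℕ) : ZMod q) = ((1 : ℕ) : ZMod q) := by
        rw [ZMod.natCast_eq_natCast_iff]
        exact ((Nat.modEq_iff_dvd' (Nat.one_le_pow _ _ hp.out.pos)).2 h2).symm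
      simpa using h4
    rw [← hord]
    exact Nat.le_of_dvd hirr.natDegree_pos (orderOf_dvd_of_pow_eq_one h3)
  have hhc : h = cyclotomic q (ZMod p) := by
    refine (eq_of_monic_of_dvd_of_natDegree_le hm (cyclotomic.monic q _) hdvd ?_).symm
    rw [natDegree_cyclotomic, Nat.totient_prime hq.out]
    exact hdeg
  have haev : aeval T h = 0 := by rw [hhc]; exact aeval_cyclotomic_eq_zero T hT hfix
  -- `V` is a vector space over `K`
  let ρ : AdjoinRoot h →ₐ[ZMod p] Module.End (ZMod p) V :=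
    Ideal.Quotient.liftₐ _ (aeval T) (fun a ha => by
      obtain ⟨c, rfl⟩ := Ideal.mem_span_singleton'.1 ha
      rw [map_mul, haev, mul_zero])
  have hρ : ρ (AdjoinRoot.root h) = T := by
    show (aeval T) X = T
    exact aeval_X T
  let _ : Module (AdjoinRoot h) V := Module.compHom V ρ.toRingHom
  have hsmul : ∀ (a : AdjoinRoot h) (u : V), a • u = ρ a u := fun a u => rfl
  -- a linear automorphism moving `v` to `w`
  have hmove : ∀ a b : V, a ≠ 0 → b ≠ 0 → ∃ L : V ≃ₗ[AdjoinRoot h] V, L a = b := by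
    intro a b ha hb
    have hdual : ∀ a : V, a ≠ 0 → ∃ f : Module.Dual (AdjoinRoot h) V, f a ≠ 0 := by
      intro a ha
      by_contra hh
      push Not at hh
      exact ha ((Module.forall_dual_apply_eq_zero_iff (AdjoinRoot h) a).1 hh)
    obtain ⟨f1, hf1⟩ := hdual a ha
    obtain ⟨f2, hf2⟩ := hdual b hb
    obtain ⟨f, hfa, hfb⟩ : ∃ f : Module.Dual (AdjoinRoot h) V, f a ≠ 0 ∧ f b ≠ 0 := by
      by_cases h1 : f1 b ≠ 0
      · exact ⟨f1, hf1, h1⟩
      by_cases h2 : f2 a ≠ 0
      · exact ⟨f2, h2, hf2⟩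
      push Not at h1 h2
      exact ⟨f1 + f2, by simpa [h2] using hf1, by simpa [h1] using hf2⟩
    let M : V →ₗ[AdjoinRoot h] V := LinearMap.id + ((f a)⁻¹ • f).smulRight (b - a)
    have hMinj : Function.Injective M := by
      rw [← LinearMap.ker_eq_bot, LinearMap.ker_eq_bot']
      intro u hu
      have h1 := congrArg f hu
      simp only [M, LinearMap.add_apply, LinearMap.id_apply, LinearMap.smulRight_apply,
        LinearMap.smul_apply, map_add, map_smul, map_sub, map_zero, smul_eq_mul] at h1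
      have h2 : f u * f b = 0 := by
        have h3 := congrArg (fun t => f a * t) h1
        simp only [mul_add, mul_zero] at h3
        rw [← mul_assoc, ← mul_assoc, mul_inv_cancel₀ hfa, one_mul] at h3
        linear_combination h3
      have h3 : f u = 0 := (mul_eq_zero.1 h2).resolve_right hfb
      simpa [M, h3] using hu
    refine ⟨LinearEquiv.ofBijective M ⟨hMinj, Finite.surjective_of_injective hMinj⟩, ?_⟩
    show M a = b
    simp [M, hfa]
  -- a semilinear bijection
  obtain ⟨j, hj⟩ : ∃ j : ℕ, p ^ j % q = i % q := by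
    have hne : (p : ZMod q) ≠ 0 := fun e =>
      hpq ((Nat.prime_dvd_prime_iff_eq hq.out hp.out).1 ((ZMod.natCast_eq_zero_iff _ _).1 e)).symm
    let P : (ZMod q)ˣ := Units.mk0 _ hne
    let I : (ZMod q)ˣ := Units.mk0 (i : ZMod q) (fun e => hi ((ZMod.natCast_eq_zero_iff _ _).1 e))
    have hP : orderOf P = Nat.card (ZMod q)ˣ := by
      rw [← orderOf_units, Units.val_mk0, hord, Nat.card_eq_fintype_card, ZMod.card_units]
    have hmem : I ∈ Subgroup.zpowers P := by
      rw [show Subgroup.zpowers P = ⊤ from Subgroup.eq_top_of_card_eq _ (by rw [Nat.card_zpowers, hP])]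
      trivial
    obtain ⟨j, hj⟩ := (mem_powers_iff_mem_zpowers).2 hmem
    refine ⟨j, (ZMod.natCast_eq_natCast_iff' _ _ _).1 ?_⟩
    rw [Nat.cast_pow]
    exact congrArg Units.val hj
  let σ : AdjoinRoot h →+* AdjoinRoot h := iterateFrobenius (AdjoinRoot h) p j
  have hσζ : σ (AdjoinRoot.root h) = AdjoinRoot.root h ^ i := by
    show iterateFrobenius _ p j _ = _
    rw [iterateFrobenius_def, ← Nat.mod_add_div (p ^ j) q, ← Nat.mod_add_div i q, hj,
      pow_add, pow_mul, hζ.pow_eq_one, one_pow, pow_add, pow_mul, hζ.pow_eq_one, one_pow]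
  let b := Module.Basis.ofVectorSpace (AdjoinRoot h) V
  have hfinι : Finite (Module.Basis.ofVectorSpaceIndex (AdjoinRoot h) V) := inferInstance
  let _ : Fintype (Module.Basis.ofVectorSpaceIndex (AdjoinRoot h) V) := Fintype.ofFinite _
  let S : V →+ V :=
    AddMonoidHom.mk' (fun u => b.equivFun.symm fun k => σ (b.equivFun u k)) (fun u u' => by
      rw [← map_add]; congr 1; funext k; simp)
  have hSinj : Function.Injective S := by
    intro u u' huu
    apply b.equivFun.injective
    funext k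
    exact σ.injective (congrFun (b.equivFun.symm.injective huu) k)
  have hS : ∀ (a : AdjoinRoot h) (u : V), S (a • u) = σ a • S u := by
    intro a u
    show b.equivFun.symm _ = σ a • b.equivFun.symm _
    rw [← map_smul]; congr 1; funext k
    simp
  have hSv : S v ≠ 0 := fun e => hv (hSinj (e.trans (map_zero S).symm))
  obtain ⟨L, hL⟩ := hmove (S v) w hSv hw
  refine ⟨AddEquiv.ofBijective (L.toLinearMap.toAddMonoidHom.comp S)
    ⟨L.injective.comp hSinj, L.surjective.comp (Finite.surjective_of_injective hSinj)⟩, hL, fun u => ?_⟩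
  show L (S (T u)) = (T ^ i) (L (S u))
  rw [← hρ, ← hsmul, hS, hσζ, map_smul, hsmul, map_pow, hρ]

end Cfsg.Agent.Perm
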