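import Mathlib

/-! Extensions `V^k ⋊ G` of a group by a 2-group on which odd elements act fixed-point-freely
have the prime graph of `G` and unbounded order. -/

namespace Cfsg.Agent.Perm

variable {G : Type*} [Group G] {V : Type*} [AddCommGroup V]

/-- The diagonal action on `k` copies, written multiplicatively. -/
def powAction (ρ : G →* Multiplicative V ≃* Multiplicative V) (k : ℕ) :
    G →* MulAut (Fin k → Multiplicative V) where
  toFun g := MulEquiv.piCongrRight fun _ => ρ g
  map_one' := by ext f i; simp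
  map_mul' g h := by ext f i; simp

theorem exists_orderOf_eq_of_pow {H : Type*} [Group H] {x : H} {p q : ℕ}
    (h : orderOf x = p * q) (hp : 0 < p) : orderOf (x ^ p) = q := by
  rw [orderOf_pow' x hp.ne', h, Nat.gcd_mul_right_left, Nat.mul_div_cancel_left q hp]

theorem exists_large_same_prime_graph [Finite G] [Finite V] [Nontrivial V]
    (ρ : G →* Multiplicative V ≃* Multiplicative V) (hV : IsPGroup 2 (Multiplicative V))
    (h2 : 2 ∣ Nat.card G)
    (hfpf : ∀ g : G, (orderOf g).Prime → Odd (orderOf g) → ∀ v, ρ g v = v → v = 1) (N : ℕ) :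
    ∃ (H : Type) (_ : Group H) (_ : Finite H), N < Nat.card H ∧
      ((∀ p : ℕ, p.Prime → (p ∣ Nat.card G ↔ p ∣ Nat.card H)) ∧
      (∀ p q : ℕ, p.Prime → q.Prime → p ≠ q →
        ((∃ g : G, orderOf g = p * q) ↔ (∃ g : H, orderOf g = p * q)))) := by
  have : Fact (Nat.Prime 2) := ⟨Nat.prime_two⟩
  let S := SemidirectProduct (Fin N → Multiplicative V) G (powAction ρ N)
  let e : S ≃ (Fin N → Multiplicative V) × G := SemidirectProduct.equivProd
  have hfin : Finite S := Finite.of_equiv _ e.symm
  have hcard : Nat.card S = Nat.card V ^ N * Nat.card G := by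
    rw [Nat.card_congr e, Nat.card_prod, Nat.card_fun, Nat.card_fin]
    rfl
  obtain ⟨n, hn⟩ := IsPGroup.iff_card.1 hV
  have hn' : Nat.card V = 2 ^ n := hn
  have hbig : N < Nat.card S := by
    rw [hcard]
    have h1 : N < 2 ^ N := Nat.lt_two_pow_self
    have h3 : 2 ^ N ≤ Nat.card V ^ N := Nat.pow_le_pow_left Finite.one_lt_card N
    have h4 : 0 < Nat.card G := Nat.card_pos
    calc N < Nat.card V ^ N := h1.trans_le h3
      _ ≤ _ := Nat.le_mul_of_pos_right _ h4
  have hπ : ∀ p : ℕ, p.Prime → (p ∣ Nat.card G ↔ p ∣ Nat.card S) := by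
    intro p hp
    rw [hcard]
    refine ⟨fun h => dvd_mul_of_dvd_right h _, fun h => ?_⟩
    rcases hp.dvd_mul.1 h with h | h
    · rw [hn', ← pow_mul] at h
      rw [(Nat.prime_dvd_prime_iff_eq hp Nat.prime_two).1 (hp.dvd_of_dvd_pow h)]
      exact h2
    · exact h
  have hV2 : ∀ x : S, SemidirectProduct.rightHom x = 1 → ∃ j, orderOf x = 2 ^ j := by
    intro x hx
    have h1 : x = SemidirectProduct.inl x.left := SemidirectProduct.ext (by simp) (by simpa using hx)
    have hP : IsPGroup 2 (Fin N → Multiplicative V) :=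
      IsPGroup.of_card (n := n * N) (by rw [Nat.card_fun, Nat.card_fin, hn, ← pow_mul])
    obtain ⟨j, hj⟩ := IsPGroup.iff_orderOf.1 hP x.left
    exact ⟨j, by rw [h1, orderOf_injective _ SemidirectProduct.inl_injective, hj]⟩
  have hodd : ∀ {p q : ℕ}, p.Prime → q.Prime → p ≠ q → q ≠ 2 → ∀ x : S, orderOf x = p * q →
      ∃ g : G, orderOf g = p * q := by
    intro p q hp hq hpq hq2 x hx
    set g := SemidirectProduct.rightHom (φ := powAction ρ N) x with hg
    have hdvd : orderOf g ∣ p * q := hx ▸ orderOf_map_dvd _ x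
    have hqg : q ∣ orderOf g := by
      by_contra hqg
      have hgp : orderOf g ∣ p := (((hq.coprime_iff_not_dvd).2 hqg).symm).dvd_of_dvd_mul_right hdvd
      have h1 : SemidirectProduct.rightHom (x ^ p) = (1 : G) := by
        rw [map_pow, ← hg, ← orderOf_dvd_iff_pow_eq_one]; exact hgp
      obtain ⟨j, hj⟩ := hV2 _ h1
      rw [exists_orderOf_eq_of_pow hx hp.pos] at hj
      exact hq2 ((Nat.prime_dvd_prime_iff_eq hq Nat.prime_two).1
        (hq.dvd_of_dvd_pow (dvd_of_eq hj)))
    by_cases hpg : p ∣ orderOf g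
    · exact ⟨g, Nat.dvd_antisymm hdvd
        (((Nat.coprime_primes hp hq).2 hpq).mul_dvd_of_dvd_of_dvd hpg hqg)⟩
    exfalso
    have hgq : orderOf g = q := Nat.dvd_antisymm
      ((((hp.coprime_iff_not_dvd).2 hpg).symm).dvd_of_dvd_mul_left hdvd) hqg
    have hgq' : g ^ q = 1 := hgq ▸ pow_orderOf_eq_one g
    have hker : SemidirectProduct.rightHom (x ^ q) = (1 : G) := by rw [map_pow, ← hg, hgq']
    have hxq : x ^ q ≠ 1 := by
      intro h
      have := orderOf_dvd_of_pow_eq_one h
      rw [hx] at this
      exact hp.not_dvd_one (Nat.dvd_of_mul_dvd_mul_right hq.pos (by simpa using this))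
    have hw : x * x ^ q = x ^ q * x := (Commute.self_pow x q).eq
    have e1 := congrArg SemidirectProduct.left hw
    have hr : (x ^ q).right = 1 := by simpa using hker
    rw [SemidirectProduct.mul_left, SemidirectProduct.mul_left, hr, map_one] at e1
    change x.left * (powAction ρ N g) (x ^ q).left = (x ^ q).left * x.left at e1
    rw [mul_comm ((x ^ q).left)] at e1
    have e2 := mul_left_cancel e1
    apply hxq
    refine SemidirectProduct.ext ?_ (by simpa using hker)
    funext i
    simp only [SemidirectProduct.one_left, Pi.one_apply]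
    refine hfpf g (hgq ▸ hq) (hgq ▸ hq.odd_of_ne_two hq2) _ ?_
    exact congrFun e2 i
  have hedge : ∀ p q : ℕ, p.Prime → q.Prime → p ≠ q →
      ((∃ g : G, orderOf g = p * q) ↔ (∃ g : S, orderOf g = p * q)) := by
    intro p q hp hq hpq
    constructor
    · rintro ⟨g, hg⟩
      exact ⟨SemidirectProduct.inr g, by rw [orderOf_injective _ SemidirectProduct.inr_injective, hg]⟩
    · rintro ⟨x, hx⟩
      by_cases hq2 : q = 2
      · have hp2 : p ≠ 2 := fun h => hpq (h.trans hq2.symm)
        rw [mul_comm] at hx ⊢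
        exact hodd hq hp (Ne.symm hpq) hp2 x hx
      · exact hodd hp hq hpq hq2 x hx
  obtain ⟨n', ⟨e'⟩⟩ := Finite.exists_equiv_fin S
  let f : S →* Equiv.Perm (Fin n') := e'.permCongrHom.toMonoidHom.comp (MulAction.toPermHom S S)
  have hf : Function.Injective f := by
    intro a b hab
    have := Equiv.congr_fun (e'.permCongrHom.injective hab) (1 : S)
    simpa using this
  let em : S ≃* f.range := MonoidHom.ofInjective hf
  refine ⟨f.range, inferInstance, inferInstance, ?_, ?_, ?_⟩
  · rwa [← Nat.card_congr em.toEquiv]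
  · intro p hp; rw [← Nat.card_congr em.toEquiv]; exact hπ p hp
  · intro p q hp hq hpq
    rw [hedge p q hp hq hpq]
    exact ⟨fun ⟨g, hg⟩ => ⟨em g, (MulEquiv.orderOf_eq em g).trans hg⟩,
      fun ⟨g, hg⟩ => ⟨em.symm g, (MulEquiv.orderOf_eq em.symm g).trans hg⟩⟩

/-- The action of a matrix group on column vectors, in the form used above. -/
def vecAction {n : Type*} [Fintype n] [DecidableEq n] {F : Type*} [Field F] {H : Type*} [Group H]
    (f : H →* Matrix n n F) : H →* Multiplicative (n → F) ≃* Multiplicative (n → F) where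
  toFun g := AddEquiv.toMultiplicative
    { toFun := fun v => Matrix.mulVec (f g) v
      invFun := fun v => Matrix.mulVec (f g⁻¹) v
      left_inv := fun v => by
        show Matrix.mulVec (f g⁻¹) (Matrix.mulVec (f g) v) = v
        rw [Matrix.mulVec_mulVec, ← map_mul, inv_mul_cancel, map_one, Matrix.one_mulVec]
      right_inv := fun v => by
        show Matrix.mulVec (f g) (Matrix.mulVec (f g⁻¹) v) = v
        rw [Matrix.mulVec_mulVec, ← map_mul, mul_inv_cancel, map_one, Matrix.one_mulVec]
      map_add' := fun u v => Matrix.mulVec_add _ u v }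
  map_one' := by
    apply MulEquiv.ext
    intro v
    show Multiplicative.ofAdd (Matrix.mulVec (f 1) v.toAdd) = v
    rw [map_one, Matrix.one_mulVec]; rfl
  map_mul' g h := by
    apply MulEquiv.ext
    intro v
    show Multiplicative.ofAdd (Matrix.mulVec (f (g * h)) v.toAdd) =
      Multiplicative.ofAdd (Matrix.mulVec (f g) (Matrix.mulVec (f h) v.toAdd))
    rw [map_mul, Matrix.mulVec_mulVec]

theorem vecAction_fixed_det {n : Type*} [Fintype n] [DecidableEq n] {F : Type*} [Field F]
    {H : Type*} [Group H] (f : H →* Matrix n n F) (g : H) (v : Multiplicative (n → F))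
    (hv : vecAction f g v = v) (hne : v ≠ 1) : (f g - 1).det = 0 := by
  rw [← Matrix.exists_mulVec_eq_zero_iff]
  refine ⟨v.toAdd, fun h => hne h, ?_⟩
  have h1 : Matrix.mulVec (f g) v.toAdd = v.toAdd := congrArg Multiplicative.toAdd hv
  rw [Matrix.sub_mulVec, Matrix.one_mulVec, h1, sub_self]

theorem isPGroup_two_vec {n : Type*} {F : Type*} [Field F] [CharP F 2] :
    IsPGroup 2 (Multiplicative (n → F)) := by
  intro v
  refine ⟨1, ?_⟩
  apply Multiplicative.toAdd.injective
  funext i
  simp [pow_two, CharTwo.add_self_eq_zero]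

end Cfsg.Agent.Perm
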