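import Mathlib

namespace Cfsg.Agent.Lib.InvariantSubsets

open Equiv Equiv.Perm

variable {n : ℕ}

theorem exists_invariant (k r : ℕ) (hr : r.Prime) (hkn : k ≤ n) (hmod : k % r ≤ n % r)
    (σ : Perm (Fin n)) (hσ : orderOf σ = r) :
    ∃ s : Finset (Fin n), s.card = k ∧ s.image σ = s := by
  classical
  have hr0 : 0 < r := hr.pos
  obtain ⟨m, hm⟩ := cycleType_prime_order (hσ ▸ hr : (orderOf σ).Prime)
  rw [hσ] at hm
  have hcard : ∀ c ∈ σ.cycleFactorsFinset, c.support.card = r := by
    intro c hc
    have : c.support.card ∈ σ.cycleType := by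
      rw [cycleType_def]
      exact Multiset.mem_map.mpr ⟨c, hc, rfl⟩
    rw [hm] at this
    exact Multiset.eq_of_mem_replicate this
  have hM : σ.cycleFactorsFinset.card = m + 1 := by
    have := congrArg Multiset.card hm
    rwa [Multiset.card_replicate, cycleType_def, Multiset.card_map] at this
  have hsum : (m + 1) * r = σ.support.card := by
    rw [← sum_cycleType, hm, Multiset.sum_replicate, smul_eq_mul]
  have hle : (m + 1) * r ≤ n := by
    have := sum_cycleType_le σ
    rwa [hm, Multiset.sum_replicate, smul_eq_mul, Fintype.card_fin] at this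
  set a := min (m + 1) (k / r) with ha
  have hak : a * r ≤ k :=
    le_trans (Nat.mul_le_mul_right r (min_le_right _ _)) (Nat.div_mul_le_self k r)
  have hb : k - a * r ≤ n - (m + 1) * r := by
    rcases le_total (m + 1) (k / r) with h | h
    · rw [ha, min_eq_left h]; omega
    · rw [ha, min_eq_right h]
      have h1 : n % r = (n - (m + 1) * r) % r := by
        conv_lhs => rw [show n = (n - (m + 1) * r) + (m + 1) * r by omega]
        rw [Nat.add_mul_mod_self_right]
      have h2 := Nat.mod_le (n - (m + 1) * r) r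
      have h3 := Nat.div_add_mod k r
      rw [mul_comm r] at h3
      omega
  obtain ⟨T, hT, hTc⟩ := Finset.exists_subset_card_eq (s := σ.cycleFactorsFinset) (n := a)
    (by omega)
  obtain ⟨B, hB, hBc⟩ := Finset.exists_subset_card_eq (s := σ.supportᶜ) (n := k - a * r)
    (by rw [Finset.card_compl, Fintype.card_fin, ← hsum]; omega)
  have hsub : T.biUnion support ⊆ σ.support := by
    intro x hx
    obtain ⟨c, hc, hxc⟩ := Finset.mem_biUnion.mp hx
    exact mem_cycleFactorsFinset_support_le (hT hc) hxc
  have hdis : Disjoint (T.biUnion support) B :=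
    Finset.disjoint_of_subset_left hsub (Finset.disjoint_of_subset_right hB disjoint_compl_right)
  refine ⟨T.biUnion support ∪ B, ?_, ?_⟩
  · rw [Finset.card_union_of_disjoint hdis, Finset.card_biUnion, hBc,
      Finset.sum_const_nat fun c hc => hcard c (hT hc), hTc]
    · omega
    · intro c hc d hd hcd
      exact (σ.cycleFactorsFinset_pairwise_disjoint (hT hc) (hT hd) hcd).disjoint_support
  · refine Finset.eq_of_subset_of_card_le ?_ (le_of_eq (Finset.card_image_of_injective _ σ.injective).symm)
    intro y hy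
    obtain ⟨x, hx, rfl⟩ := Finset.mem_image.mp hy
    rcases Finset.mem_union.mp hx with hx | hx
    · obtain ⟨c, hc, hxc⟩ := Finset.mem_biUnion.mp hx
      have h := (mem_cycleFactorsFinset_iff.mp (hT hc)).2 x hxc
      refine Finset.mem_union_left _ (Finset.mem_biUnion.mpr ⟨c, hc, ?_⟩)
      rw [← h]
      exact apply_mem_support.mpr hxc
    · have : σ x = x := by
        have := Finset.mem_compl.mp (hB hx)
        simpa [mem_support] using this
      rw [this]
      exact Finset.mem_union_right _ hx

theorem exists_obstruction (k r : ℕ) (hr : r.Prime) (hrn : r ≤ n) :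
    ∃ σ : Perm (Fin n), orderOf σ = r ∧
      ((∃ s : Finset (Fin n), s.card = k ∧ s.image σ = s) → k % r ≤ n % r) := by
  classical
  haveI := Fact.mk hr
  have hq : 0 < n / r := Nat.div_pos hrn hr.pos
  have hex : ∃ g : Perm (Fin n), g.cycleType = Multiset.replicate (n / r) r := by
    rw [exists_with_cycleType_iff]
    refine ⟨?_, fun a ha => ?_⟩
    · rw [Multiset.sum_replicate, smul_eq_mul, Fintype.card_fin]
      exact Nat.div_mul_le_self n r
    · rw [Multiset.eq_of_mem_replicate ha]; exact hr.two_le
  obtain ⟨σ, hσ⟩ := hex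
  have hord : orderOf σ = r := by
    rw [← lcm_cycleType, hσ]
    apply Nat.dvd_antisymm
    · exact Multiset.lcm_dvd.mpr fun b hb => (Multiset.eq_of_mem_replicate hb).dvd
    · exact Multiset.dvd_lcm (Multiset.mem_replicate.mpr ⟨hq.ne', rfl⟩)
  have hsupp : σ.support.card = n / r * r := by
    rw [← sum_cycleType, hσ, Multiset.sum_replicate, smul_eq_mul]
  refine ⟨σ, hord, ?_⟩
  rintro ⟨s, rfl, hs⟩
  have hmem : ∀ x, σ x ∈ s ↔ x ∈ s := fun x => by
    constructor
    · intro h
      rw [← hs] at h
      obtain ⟨y, hy, hxy⟩ := Finset.mem_image.mp h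
      rwa [← σ.injective hxy]
    · intro h
      rw [← hs]
      exact Finset.mem_image_of_mem _ h
  set τ : Perm {x // x ∈ s} := σ.subtypePerm hmem with hτ
  have hτr : τ ^ (r ^ 1) = 1 := by
    rw [pow_one, hτ, subtypePerm_pow]
    ext x
    have h1 : σ ^ r = 1 := hord ▸ pow_orderOf_eq_one σ
    simp [h1]
  have hmodeq := Equiv.Perm.card_compl_support_modEq (p := r) (n := 1) hτr
  rw [Fintype.card_coe] at hmodeq
  have hbound : τ.supportᶜ.card ≤ n % r := by
    have h1 : τ.supportᶜ.card ≤ σ.supportᶜ.card := by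
      refine Finset.card_le_card_of_injOn (fun x => (x : Fin n)) ?_ ?_
      · intro x hx
        simp only [Finset.coe_compl, Set.mem_compl_iff, Finset.mem_coe, mem_support, not_not] at hx ⊢
        exact congrArg Subtype.val hx
      · intro a _ b _ h
        exact Subtype.ext h
    rw [Finset.card_compl σ.support, Fintype.card_fin, hsupp] at h1
    have h2 := Nat.div_add_mod n r
    rw [mul_comm r] at h2
    omega
  calc s.card % r = τ.supportᶜ.card % r := hmodeq.symm
    _ ≤ τ.supportᶜ.card := Nat.mod_le _ _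
    _ ≤ n % r := hbound

theorem not_dvd_choose_small {r a k : ℕ} (hr : r.Prime) (hka : k ≤ a) (har : a < r) :
    ¬ r ∣ Nat.choose a k := by
  intro h
  have h1 : r ∣ a.factorial := by
    rw [← Nat.choose_mul_factorial_mul_factorial hka]
    exact dvd_mul_of_dvd_left (dvd_mul_of_dvd_left h _) _
  exact absurd ((Nat.Prime.dvd_factorial hr).mp h1) (by omega)

theorem main (k r : ℕ) (hkn : k ≤ n) (hr : r.Prime) (hrd : r ∣ Nat.choose n k) :
    ((∀ σ : Perm (Fin n), orderOf σ = r → ∃ s : Finset (Fin n), s.card = k ∧ s.image σ = s) ↔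
      k % r ≤ n % r) ∧ (k % r ≤ n % r → r ≤ k) := by
  haveI := Fact.mk hr
  have hrn : r ≤ n := by
    by_contra h
    exact not_dvd_choose_small hr hkn (by omega) hrd
  refine ⟨⟨fun h => ?_, fun h σ hσ => exists_invariant k r hr hkn h σ hσ⟩, fun h => ?_⟩
  · obtain ⟨σ, hσ, hob⟩ := exists_obstruction k r hr hrn
    exact hob (h σ hσ)
  · by_contra hk
    have hk' : k < r := by omega
    rw [Nat.mod_eq_of_lt hk'] at h
    have hL : Nat.choose n k ≡ Nat.choose (n % r) (k % r) * Nat.choose (n / r) (k / r) [MOD r] :=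
      Choose.choose_modEq_choose_mod_mul_choose_div_nat
    rw [Nat.mod_eq_of_lt hk', Nat.div_eq_of_lt hk', Nat.choose_zero_right, mul_one] at hL
    exact not_dvd_choose_small hr h (Nat.mod_lt _ hr.pos) ((hL.dvd_iff dvd_rfl).mp hrd)

end Cfsg.Agent.Lib.InvariantSubsets
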