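import Cfsg.Agent.Lib.Block.Cover
import Cfsg.Agent.Lib.Block.RegInner
import Cfsg.Agent.Lib.Block.WeakOrth
import Cfsg.Agent.Lib.Char.DegreeIndex
import Cfsg.Agent.Lib.Char.Burnside
import Cfsg.Agent.Lib.Solv.Basic
import Cfsg.Agent.Lib.Struct.PrimeParts

/-!
# Kazarin's theorem: a class of prime power size generates a solvable normal subgroup

For a `p`-regular element `x` acting non-trivially on a minimal normal subgroup `N` that is not solvable and
`G = N⟨x⟩`, take a prime `r ≠ p` dividing `|N|`.  In the principal `r`-block of `G` no character vanishes at `x`, so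
by Burnside those not trivial on `N` have degree divisible by `p`, and the weak orthogonality relation in the
principal `r`-block of `N` gives `1 ≡ 0` modulo `p`.
-/

set_option autoImplicit false
set_option linter.style.haveILetI false

namespace Cfsg.Agent.Perm.Kazarin

open Cfsg Cfsg.Agent.Char Cfsg.Agent.Block Module

universe u

variable {G : Type u} [Group G] [Finite G]

theorem core_step {p k : ℕ} (hp : p.Prime) {x : G} (hxp : ¬ p ∣ orderOf x)
    (hcl : (Subgroup.centralizer ({x} : Set G)).index = p ^ k) (N : Subgroup G) [N.Normal]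
    (htop : N ⊔ Subgroup.zpowers x = ⊤) (hmin : ∀ K : Subgroup G, K.Normal → K ≤ N → K = ⊥ ∨ K = N)
    (hns : ¬ Group.IsSolvable N) : ∀ n ∈ N, n * x = x * n := by
  classical
  by_contra hcen
  haveI := Fact.mk hp
  -- a second prime
  obtain ⟨r, hr, hrN, hrp⟩ : ∃ r : ℕ, r.Prime ∧ r ∣ Nat.card N ∧ r ≠ p := by
    by_contra hc
    push Not at hc
    refine hns ?_
    have h1 := Nat.eq_prime_pow_of_unique_prime_dvd (p := p) Nat.card_pos.ne' fun {d} hd hdn => hc d hd hdn
    haveI := (IsPGroup.of_card h1).isNilpotent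
    infer_instance
  haveI := Fact.mk hr
  obtain ⟨M, hM⟩ := exists_isPModular hr
  haveI := prime_of_isPModular hM
  haveI := Fintype.ofFinite G
  haveI := Fintype.ofFinite N
  haveI := Fintype.ofFinite (IrrCharacter N)
  obtain ⟨y, hy⟩ := exists_prime_orderOf_dvd_card' (G := N) r hrN
  let one : IrrCharacter N := ⟨1, isIrrCharacter_one⟩
  let oneG : IrrCharacter G := ⟨1, isIrrCharacter_one⟩
  have hb : IsPBlock M (principalBlock M N) := ⟨one, rfl⟩
  have hB : IsPBlock M (principalBlock M G) := ⟨oneG, rfl⟩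
  have hone : one ∈ principalBlock M N := self_mem_blockOf one
  have hcov : Covers (principalBlock M G) (principalBlock M N) := by
    refine ⟨oneG, self_mem_blockOf oneG, one, hone, ?_⟩
    show classInner (one : N → ℂ) (one : N → ℂ) ≠ 0
    rw [IsIrrCharacter.classInner_self one.2]
    exact one_ne_zero
  have hindex : N.index ∣ orderOf x := by
    have h1 : Subgroup.zpowers (QuotientGroup.mk' N x) = ⊤ := by
      rw [← MonoidHom.map_zpowers, ← Subgroup.map_top_of_surjective _ (QuotientGroup.mk'_surjective N), ← htop,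
        Subgroup.map_sup, QuotientGroup.map_mk'_self, bot_sup_eq]
    rw [Subgroup.index_eq_card, ← Subgroup.card_top, ← h1, Nat.card_zpowers]
    exact orderOf_map_dvd _ _
  have key : ∀ θ ∈ principalBlock M N, θ ≠ one →
      ∃ z : ℂ, IsIntegral ℤ z ∧ (θ : N → ℂ) 1 * (θ : N → ℂ) y = (p : ℂ) * z := by
    intro θ hθ hne
    obtain ⟨χ, hχ, hin⟩ := exists_constituent_of_covers hM hB hb hcov hθ
    obtain ⟨d, hd⟩ := IsCharacter.exists_degree (IsIrrCharacter.isCharacter θ.2)
    obtain ⟨c, hc⟩ := IsCharacter.exists_degree (IsIrrCharacter.isCharacter χ.2)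
    by_cases hpd : p ∣ d
    · obtain ⟨m, rfl⟩ := hpd
      refine ⟨(m : ℂ) * (θ : N → ℂ) y, ?_, ?_⟩
      · refine IsIntegral.mul ?_ (IsCharacter.isIntegral (IsIrrCharacter.isCharacter θ.2) y)
        simpa using isIntegral_algebraMap (R := ℤ) (A := ℂ) (x := (m : ℤ))
      · rw [hd]; push_cast; ring
    exfalso
    obtain ⟨hdc, hratio⟩ := degree_ratio_dvd_index χ.2 θ.2 hin hc hd
    have hpc : ¬ p ∣ c := by
      rw [← Nat.mul_div_cancel' hdc, hp.dvd_mul]
      rintro (h | h)
      · exact hpd h
      · exact hxp ((h.trans hratio).trans hindex)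
    have hx0 : (χ : G → ℂ) x ≠ 0 := fun h0 => by
      have h1 := hχ x
      simp only [centralChar, mul_one, div_one, h0, mul_zero, zero_div, sub_zero, hcl] at h1
      exact hrp ((Nat.prime_dvd_prime_iff_eq hr hp).mp
        (hr.dvd_of_dvd_pow ((memLocalIdeal_natCast_iff hr hM.2.2 _).mp h1)))
    obtain ⟨χ', m, ρ, hρ, rfl⟩ := χ
    haveI := hρ
    have hfin : finrank ℂ (Fin m → ℂ) = c := by
      have := ρ.char_one
      simp only at hc
      rw [hc] at this
      exact_mod_cast this.symm
    rcases eq_zero_or_norm_eq_of_coprime ρ x (by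
      rw [hcl, hfin]; exact Nat.Coprime.pow_right k (hp.coprime_iff_not_dvd.mpr hpc).symm) with h | h
    · exact hx0 h
    obtain ⟨ω, hω⟩ := (norm_character_eq_iff ρ x).mp h
    have hcomm : ∀ g, ρ g * ρ x = ρ x * ρ g := fun g => by
      rw [hω]; exact LinearMap.ext fun v => by simp
    haveI hk : (MonoidHom.ker ρ).Normal := MonoidHom.normal_ker ρ
    rcases hmin (N ⊓ MonoidHom.ker ρ) inferInstance inf_le_left with h1 | h1
    · refine hcen fun n hn => ?_
      have : n * x * n⁻¹ * x⁻¹ ∈ N ⊓ MonoidHom.ker ρ := by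
        refine Subgroup.mem_inf.mpr ⟨?_, ?_⟩
        · rw [mul_assoc n x, mul_assoc n]
          exact N.mul_mem hn (Subgroup.Normal.conj_mem inferInstance _ (N.inv_mem hn) x)
        · rw [MonoidHom.mem_ker, map_mul, map_mul, map_mul, hcomm n, mul_assoc (ρ x), ← map_mul ρ n, mul_inv_cancel,
            map_one, mul_one, ← map_mul, mul_inv_cancel, map_one]
      rw [h1, Subgroup.mem_bot, mul_inv_eq_one, mul_inv_eq_iff_eq_mul] at this
      exact this
    · refine hin ?_
      have h2 : (fun n : N => ρ.character n) = (c : ℂ) • (one : N → ℂ) := funext fun n => by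
        have hn : ρ (n : G) = 1 := MonoidHom.mem_ker.mp ((h1.symm ▸ n.2 : (n : G) ∈ N ⊓ MonoidHom.ker ρ).2)
        show ρ.character n = (c : ℂ) * 1
        rw [Representation.character, hn, LinearMap.trace_one, hfin, mul_one]
      show classInner (fun n : N => ρ.character n) (θ : N → ℂ) = 0
      rw [h2, classInner_smul_left, IsIrrCharacter.classInner_eq_zero one.2 θ.2
        (fun e => hne (Subtype.ext e.symm)), mul_zero]
  choose! z hz hzeq using key
  have h0 := weak_orthogonality' hM hb (x := (1 : N)) (y := y) (by rw [orderOf_one]; exact hr.not_dvd_one)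
    (by rw [hy])
  rw [finsum_mem_eq_finite_toFinset_sum _ (Set.toFinite _),
    ← Finset.add_sum_erase _ _ ((Set.Finite.mem_toFinset _).mpr hone),
    Finset.sum_congr rfl fun θ hθ => hzeq θ ((Set.Finite.mem_toFinset _).mp (Finset.mem_of_mem_erase hθ))
      (Finset.ne_of_mem_erase hθ), ← Finset.mul_sum] at h0
  simp only [one, Pi.one_apply, one_mul] at h0
  set S := ∑ θ ∈ ((Set.toFinite (principalBlock M N)).toFinset).erase one, z θ with hS
  have hSint : IsIntegral ℤ S := IsIntegral.sum _ fun θ hθ =>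
    hz θ ((Set.Finite.mem_toFinset _).mp (Finset.mem_of_mem_erase hθ)) (Finset.ne_of_mem_erase hθ)
  have h1 : IsIntegral ℤ ((1 : ℕ) / (p : ℂ)) := by
    have e : ((1 : ℕ) : ℂ) / (p : ℂ) = -S := by
      have hp0 : (p : ℂ) ≠ 0 := Nat.cast_ne_zero.mpr hp.ne_zero
      field_simp
      push_cast
      linear_combination h0
    rw [e]; exact hSint.neg
  exact hp.one_lt.ne' (Nat.dvd_one.mp (nat_dvd_of_isIntegral_div hp.ne_zero h1))

open Subgroup in
theorem relIndex_sup_normal (H K : Subgroup G) [K.Normal] :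
    H.relIndex (H ⊔ K) = H.relIndex K := by
  have h1 := relIndex_sup_right H K
  have hH := Subgroup.card_mul_index (K.subgroupOf H)
  have hK := Subgroup.card_mul_index (H.subgroupOf K)
  have hX := Subgroup.card_mul_index (H.subgroupOf (H ⊔ K))
  have hY := Subgroup.card_mul_index (K.subgroupOf (H ⊔ K))
  have e1 : Nat.card (K.subgroupOf H) = Nat.card (H ⊓ K : Subgroup G) := by
    rw [← inf_subgroupOf_left, Nat.card_congr (subgroupOfEquivOfLe inf_le_left).toEquiv]
  have e2 : Nat.card (H.subgroupOf K) = Nat.card (H ⊓ K : Subgroup G) := by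
    rw [← inf_subgroupOf_right, Nat.card_congr (subgroupOfEquivOfLe inf_le_right).toEquiv]
  rw [Nat.card_congr (subgroupOfEquivOfLe le_sup_left).toEquiv] at hX
  rw [Nat.card_congr (subgroupOfEquivOfLe le_sup_right).toEquiv] at hY
  simp only [relIndex] at h1 ⊢
  rw [e1] at hH; rw [e2] at hK
  rw [h1] at hY
  refine Nat.eq_of_mul_eq_mul_left (Nat.card_pos (α := H)) ?_
  calc Nat.card H * _ = Nat.card ↥(H ⊔ K) := hX
    _ = Nat.card K * (K.subgroupOf H).index := hY.symm
    _ = _ := by rw [← hH, ← hK]; ring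

omit [Finite G] in
theorem index_centralizer_subtype (H : Subgroup G) (x : H) :
    (Subgroup.centralizer ({x} : Set H)).index = (Subgroup.centralizer ({(x : G)} : Set G)).relIndex H := by
  unfold Subgroup.relIndex
  congr 1
  ext y
  simp [Subgroup.mem_subgroupOf, Subgroup.mem_centralizer_singleton_iff, Subtype.ext_iff]

/-- the class size of the image divides the class size -/
theorem index_centralizer_map_dvd {Q : Type*} [Group Q] (f : G →* Q) (hf : Function.Surjective f) (x : G) :
    (Subgroup.centralizer ({f x} : Set Q)).index ∣ (Subgroup.centralizer ({x} : Set G)).index := by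
  refine (Subgroup.index_dvd_of_le ?_).trans (Subgroup.index_map_dvd _ hf)
  rintro - ⟨c, hc, rfl⟩
  rw [Subgroup.mem_centralizer_singleton_iff, ← map_mul, ← map_mul,
    (Subgroup.mem_centralizer_singleton_iff.mp hc)]

theorem commute_of_solvable (N : Subgroup G) [hNn : N.Normal]
    (hR : ∀ R : Subgroup G, R.Normal → Group.IsSolvable R → R = ⊥) {G1 : Subgroup G} (hle : N ≤ G1) (x1 : G1)
    (hs : Group.IsSolvable ↥(Subgroup.normalClosure ({x1} : Set G1))) : ∀ m ∈ N, m * (x1 : G) = (x1 : G) * m := by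
  set K1 := Subgroup.normalClosure ({x1} : Set G1)
  set J : Subgroup N := (K1.map G1.subtype).subgroupOf N
  haveI hJn : J.Normal := ⟨fun a ha b => by
    obtain ⟨c, hc, hca⟩ := Subgroup.mem_map.mp (Subgroup.mem_subgroupOf.mp ha)
    refine Subgroup.mem_subgroupOf.mpr (Subgroup.mem_map.mpr
      ⟨⟨(b : G), hle b.2⟩ * c * ⟨(b : G), hle b.2⟩⁻¹,
        Subgroup.normalClosure_normal.conj_mem c hc _, ?_⟩)
    simp only [map_mul, map_inv, Subgroup.coe_subtype] at hca ⊢
    simp [hca]⟩
  haveI : Group.IsSolvable ↥(K1.map G1.subtype) :=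
    Group.isSolvable_of_surjective (G1.subtype.subgroupMap_surjective K1)
  haveI hJs : Group.IsSolvable J := by
    let f : J →* ↥(K1.map G1.subtype) :=
      { toFun := fun a => ⟨((a : N) : G), Subgroup.mem_subgroupOf.mp a.2⟩, map_one' := rfl, map_mul' := fun _ _ => rfl }
    exact Group.isSolvable_of_isSolvable_injective (f := f) fun a b e =>
      Subtype.ext (Subtype.ext (congrArg (fun t : ↥(K1.map G1.subtype) => (t : G)) e))
  have hJ : J = ⊥ := by
    by_contra hJ
    obtain ⟨L, hLn, hLJ, hL1, hLmin⟩ := Solv.exists_minimal_normal_le hJ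
    haveI := hLn
    haveI : Group.IsSolvable L := Group.isSolvable_of_isSolvable_injective (Subgroup.inclusion_injective hLJ)
    haveI hLc := Solv.minimal_normal_isMulCommutative L hL1 hLmin
    letI : CommGroup L := { (inferInstance : Group L) with mul_comm := hLc.is_comm.comm }
    have hLF := Solv.le_fittingSubgroup (N := L) inferInstance
    haveI := Solv.fittingSubgroup_characteristic N
    haveI := Solv.fittingSubgroup_isNilpotent N
    have hF : (fittingSubgroup N).map N.subtype = ⊥ := hR _ inferInstance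
      (Group.isSolvable_of_surjective (N.subtype.subgroupMap_surjective (fittingSubgroup N)))
    rw [Subgroup.map_eq_bot_iff_of_injective _ N.subtype_injective] at hF
    exact hL1 (le_bot_iff.mp (hF ▸ hLF))
  intro m hm
  have hc : m * (x1 : G) * m⁻¹ * (x1 : G)⁻¹ ∈ N := by
    rw [mul_assoc m (x1 : G), mul_assoc m]
    exact N.mul_mem hm (hNn.conj_mem _ (N.inv_mem hm) (x1 : G))
  have hm1 : (⟨m, hle hm⟩ : G1) * x1 * ⟨m, hle hm⟩⁻¹ * x1⁻¹ ∈ K1 :=
    K1.mul_mem (Subgroup.normalClosure_normal.conj_mem _ (Subgroup.subset_normalClosure (Set.mem_singleton _)) _)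
      (K1.inv_mem (Subgroup.subset_normalClosure (Set.mem_singleton _)))
  have hmem : (⟨m * (x1 : G) * m⁻¹ * (x1 : G)⁻¹, hc⟩ : N) ∈ J := Subgroup.mem_subgroupOf.mpr (Subgroup.mem_map.mpr ⟨_, hm1, rfl⟩)
  rw [hJ, Subgroup.mem_bot, Subtype.ext_iff] at hmem
  exact mul_inv_eq_iff_eq_mul.mp (mul_inv_eq_one.mp hmem)

theorem solvable_regular {p : ℕ} (hp : p.Prime) : ∀ (n : ℕ) (G : Type u) [Group G] [Finite G], Nat.card G = n →
    ∀ x : G, ¬ p ∣ orderOf x → (∃ k, (Subgroup.centralizer ({x} : Set G)).index = p ^ k) →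
      Group.IsSolvable ↥(Subgroup.normalClosure ({x} : Set G)) := by
  intro n
  induction n using Nat.strong_induction_on with
  | _ n ih =>
    intro G _ _ hn x hxp hk
    obtain ⟨k, hcl⟩ := hk
    haveI := Fact.mk hp
    set K := Subgroup.normalClosure ({x} : Set G)
    by_cases hR : ∃ R : Subgroup G, R.Normal ∧ Group.IsSolvable R ∧ R ≠ ⊥
    · obtain ⟨R, hRn, hRs, hR1⟩ := hR
      haveI := hRn
      haveI := hRs
      have hlt : Nat.card (G ⧸ R) < n := by
        rw [← hn, Subgroup.card_eq_card_quotient_mul_card_subgroup R]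
        exact lt_mul_of_one_lt_right Nat.card_pos (R.one_lt_card_iff_ne_bot.mpr hR1)
      have hmap : K.map (QuotientGroup.mk' R) = Subgroup.normalClosure {QuotientGroup.mk' R x} := by
        rw [Subgroup.map_normalClosure _ _ (QuotientGroup.mk'_surjective R), Set.image_singleton]
      haveI : Group.IsSolvable ↥(K.map (QuotientGroup.mk' R)) := by
        rw [hmap]
        refine ih _ hlt _ rfl _ (fun h => hxp (h.trans (orderOf_map_dvd _ x))) ?_
        obtain ⟨j, -, hj⟩ := (Nat.dvd_prime_pow hp).mp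
          (hcl ▸ index_centralizer_map_dvd _ (QuotientGroup.mk'_surjective R) x)
        exact ⟨j, hj⟩
      haveI : Group.IsSolvable ↥(R ⊓ K) := Group.isSolvable_of_isSolvable_injective (Subgroup.inclusion_injective (inf_le_left))
      refine Group.isSolvable_of_ker_le_range (Subgroup.inclusion (inf_le_right : R ⊓ K ≤ K))
        ((QuotientGroup.mk' R).subgroupMap K) fun a ha => ?_
      rw [MonoidHom.mem_ker] at ha
      refine ⟨⟨(a : G), ⟨(QuotientGroup.eq_one_iff _).mp (congrArg Subtype.val ha), a.2⟩⟩, rfl⟩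
    push Not at hR
    by_contra hK
    have hK1 : K ≠ ⊥ := fun h => hK (by rw [h]; infer_instance)
    obtain ⟨N, hNn, hNK, hN1, hmin⟩ := Solv.exists_minimal_normal_le hK1
    haveI := hNn
    have hNs : ¬ Group.IsSolvable N := fun h => hN1 (hR N hNn h)
    have hNc : ∀ m ∈ N, m * x = x * m := by
      by_cases htop : N ⊔ Subgroup.zpowers x = ⊤
      · exact core_step hp hxp hcl N htop hmin hNs
      set G1 := N ⊔ Subgroup.zpowers x with hG1
      have hxG : x ∈ G1 := (le_sup_right : _ ≤ G1) (Subgroup.mem_zpowers x)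
      set x1 : G1 := ⟨x, hxG⟩
      have hlt : Nat.card G1 < n := hn ▸ lt_of_le_of_ne (Subgroup.card_le_card_group G1)
        (fun e => htop (Subgroup.eq_top_of_card_eq G1 e))
      have hdvd : (Subgroup.centralizer ({x} : Set G)).relIndex G1 ∣ p ^ k := by
        set C := Subgroup.centralizer ({x} : Set G)
        have hH : (C ⊓ G1) ⊔ N = G1 := le_antisymm (sup_le inf_le_right le_sup_left) (sup_le le_sup_right
          ((Subgroup.zpowers_le.mpr (Subgroup.mem_inf.mpr
            ⟨Subgroup.mem_centralizer_singleton_iff.mpr rfl, hxG⟩)).trans le_sup_left))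
        have e1 : C.relIndex G1 = C.relIndex N := by
          calc C.relIndex G1 = (C ⊓ G1).relIndex ((C ⊓ G1) ⊔ N) := by rw [hH, Subgroup.inf_relIndex_right]
            _ = (C ⊓ G1).relIndex N := relIndex_sup_normal _ _
            _ = C.relIndex N := by
              rw [← Subgroup.inf_relIndex_right (C ⊓ G1) N, inf_assoc, inf_eq_right.mpr (le_sup_left : N ≤ G1),
                Subgroup.inf_relIndex_right]
        rw [e1, ← relIndex_sup_normal C N, ← hcl]
        exact Subgroup.relIndex_dvd_index_of_le le_sup_left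
      obtain ⟨j, -, hj⟩ := (Nat.dvd_prime_pow hp).mp hdvd
      haveI := ih _ hlt G1 rfl x1 (by rwa [← Subgroup.orderOf_coe])
        ⟨j, (index_centralizer_subtype G1 x1).trans hj⟩
      exact commute_of_solvable N hR (le_sup_left : N ≤ G1) x1 (inferInstance)
    have hKc : K ≤ Subgroup.centralizer (N : Set G) := by
      refine Subgroup.normalClosure_le_normal ?_
      intro y hy
      rw [Set.mem_singleton_iff] at hy
      subst hy
      exact Subgroup.mem_centralizer_iff.mpr hNc
    refine hNs ?_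
    letI : CommGroup N := { (inferInstance : Group N) with
      mul_comm := fun a b => Subtype.ext (Subgroup.mem_centralizer_iff.mp (hKc (hNK a.2)) _ b.2).symm }
    infer_instance

/-- a `p`-element whose class has `p`-power size lies in a normal `p`-subgroup -/
theorem isPGroup_normalClosure {p k : ℕ} [hp : Fact p.Prime] {a : G} (ha : ∃ i, orderOf a = p ^ i)
    (hcl : (Subgroup.centralizer ({a} : Set G)).index = p ^ k) :
    IsPGroup p ↥(Subgroup.normalClosure ({a} : Set G)) := by
  obtain ⟨i, hi⟩ := ha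
  obtain ⟨P, hP⟩ := (IsPGroup.of_card (show Nat.card (Subgroup.zpowers a) = p ^ i by
    rw [Nat.card_zpowers, hi])).exists_le_sylow
  refine P.isPGroup'.to_le ?_
  set C := Subgroup.centralizer ({a} : Set G)
  let f : (P : Subgroup G) ⧸ C.subgroupOf (P : Subgroup G) → G ⧸ C :=
    Quotient.map' Subtype.val fun u v h => by
      rw [QuotientGroup.leftRel_apply] at h ⊢
      exact h
  have hinj : Function.Injective f := by
    intro u v h
    induction u using QuotientGroup.induction_on with | _ u => ?_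
    induction v using QuotientGroup.induction_on with | _ v => ?_
    have h' : ((u : G) : G ⧸ C) = ((v : G) : G ⧸ C) := h
    rw [QuotientGroup.eq] at h' ⊢
    exact h'
  have hge : p ^ k ≤ Nat.card ((P : Subgroup G) ⧸ C.subgroupOf (P : Subgroup G)) := by
    obtain ⟨s, hs⟩ := IsPGroup.iff_card.mp (P.isPGroup'.comap_subtype (K := C) : IsPGroup p ((P : Subgroup G).subgroupOf C))
    have h1 : s ≤ (Nat.card C).factorization p := (hp.out.pow_dvd_iff_le_factorization Nat.card_pos.ne').mp
      (hs ▸ Subgroup.card_subgroup_dvd_card _)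
    have h2 : (Nat.card G).factorization p = (Nat.card C).factorization p + k := by
      rw [← C.card_mul_index, hcl, Nat.factorization_mul Nat.card_pos.ne' (pow_ne_zero _ hp.out.ne_zero),
        Finsupp.add_apply, Nat.Prime.factorization_pow hp.out, Finsupp.single_eq_same]
    have h3 := Subgroup.card_eq_card_quotient_mul_card_subgroup (C.subgroupOf (P : Subgroup G))
    have h4 : Nat.card ↥(C.subgroupOf (P : Subgroup G)) = p ^ s := by
      rw [← hs]
      exact Nat.card_congr ⟨fun u => ⟨⟨u.1.1, u.2⟩, u.1.2⟩, fun u => ⟨⟨u.1.1, u.2⟩, u.1.2⟩, fun _ => rfl, fun _ => rfl⟩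
    rw [show Nat.card (P : Subgroup G) = p ^ (Nat.card G).factorization p from P.card_eq_multiplicity, h2, h4] at h3
    refine Nat.le_of_mul_le_mul_right ?_ (pow_pos hp.out.pos s)
    rw [← h3, ← pow_add]
    exact Nat.pow_le_pow_right hp.out.pos (by omega)
  have hsurj : Function.Surjective f := by
    refine (hinj.bijective_of_nat_card_le ?_).2
    rw [← Subgroup.index_eq_card, hcl]
    exact hge
  rw [Subgroup.normalClosure, Subgroup.closure_le]
  intro b hb
  obtain ⟨a', ha', hb⟩ := Group.mem_conjugatesOfSet_iff.mp hb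
  rw [Set.mem_singleton_iff] at ha'
  rw [ha'] at hb
  obtain ⟨g, rfl⟩ := isConj_iff.mp hb
  obtain ⟨u, hu⟩ := hsurj (g : G ⧸ C)
  induction u using QuotientGroup.induction_on with | _ u => ?_
  have h' : ((u : G) : G ⧸ C) = (g : G ⧸ C) := hu
  rw [QuotientGroup.eq, Subgroup.mem_centralizer_singleton_iff] at h'
  have : g * a * g⁻¹ = (u : G) * a * (u : G)⁻¹ := by
    calc g * a * g⁻¹ = (u : G) * (((u : G)⁻¹ * g) * a) * g⁻¹ := by group
      _ = (u : G) * (a * ((u : G)⁻¹ * g)) * g⁻¹ := by rw [h']
      _ = (u : G) * a * (u : G)⁻¹ := by group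
  rw [this]
  exact (P : Subgroup G).mul_mem ((P : Subgroup G).mul_mem u.2 (hP (Subgroup.mem_zpowers a))) ((P : Subgroup G).inv_mem u.2)

/-- Kazarin's theorem, with the splitting into the two parts of the element -/
theorem split {p k : ℕ} (hp : p.Prime) (x : G) (hcl : (Subgroup.centralizer ({x} : Set G)).index = p ^ k) :
    ∃ a b : G, x ∈ Subgroup.zpowers a ⊔ Subgroup.zpowers b ∧ ¬ p ∣ orderOf b ∧
      IsPGroup p ↥(Subgroup.normalClosure ({a} : Set G)) ∧
      (∃ j, (Subgroup.centralizer ({b} : Set G)).index = p ^ j) := by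
  haveI := Fact.mk hp
  obtain ⟨i, m, hm, hord⟩ := Nat.exists_eq_pow_mul_and_not_dvd (orderOf_pos x).ne' p hp.ne_one
  have hcen : ∀ e : ℕ, ∃ j, (Subgroup.centralizer ({x ^ e} : Set G)).index = p ^ j := fun e => by
    obtain ⟨j, -, hj⟩ := (Nat.dvd_prime_pow hp).mp (hcl ▸ Subgroup.index_dvd_of_le
      (show Subgroup.centralizer ({x} : Set G) ≤ Subgroup.centralizer ({x ^ e} : Set G) from fun c hc =>
        Subgroup.mem_centralizer_singleton_iff.mpr
          ((show Commute c x from Subgroup.mem_centralizer_singleton_iff.mp hc).pow_right e).eq))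
    exact ⟨j, hj⟩
  have hm0 : m ≠ 0 := fun h => hm (h ▸ dvd_zero p)
  have ha : orderOf (x ^ m) = p ^ i := by
    rw [orderOf_pow_of_dvd hm0 ⟨p ^ i, by rw [hord, mul_comm]⟩, hord, Nat.mul_div_cancel _ (Nat.pos_of_ne_zero hm0)]
  have hb : orderOf (x ^ p ^ i) = m := by
    rw [orderOf_pow_of_dvd (pow_ne_zero _ hp.ne_zero) ⟨m, hord⟩, hord, Nat.mul_div_cancel_left _ (pow_pos hp.pos _)]
  refine ⟨x ^ m, x ^ p ^ i, ?_, hb ▸ hm, ?_, hcen _⟩
  · exact Struct.PrimeParts.mem_of_coprime_pows ((hp.coprime_iff_not_dvd.mpr hm).pow_left i).symm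
      ((le_sup_left : _ ≤ Subgroup.zpowers (x ^ m) ⊔ Subgroup.zpowers (x ^ p ^ i)) (Subgroup.mem_zpowers _))
      ((le_sup_right : _ ≤ Subgroup.zpowers (x ^ m) ⊔ Subgroup.zpowers (x ^ p ^ i)) (Subgroup.mem_zpowers _))
  · obtain ⟨j, hj⟩ := hcen m
    exact isPGroup_normalClosure ⟨i, ha⟩ hj

theorem normalClosure_le_sup {x a b : G} (h : x ∈ Subgroup.zpowers a ⊔ Subgroup.zpowers b) :
    Subgroup.normalClosure ({x} : Set G) ≤ Subgroup.normalClosure ({a} : Set G) ⊔ Subgroup.normalClosure ({b} : Set G) := by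
  haveI : (Subgroup.normalClosure ({a} : Set G) ⊔ Subgroup.normalClosure ({b} : Set G)).Normal := inferInstance
  refine Subgroup.normalClosure_le_normal fun y hy => ?_
  rw [Set.mem_singleton_iff] at hy
  subst hy
  exact (sup_le_sup (Subgroup.zpowers_le.mpr (Subgroup.subset_normalClosure (Set.mem_singleton _)))
    (Subgroup.zpowers_le.mpr (Subgroup.subset_normalClosure (Set.mem_singleton _)))) h

end Cfsg.Agent.Perm.Kazarin

namespace Cfsg.Agent.Perm.Kazarin

open Cfsg

universe v

theorem solvable_normalClosure {G : Type v} [Group G] [Finite G] {p k : ℕ} (hp : p.Prime) (x : G)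
    (hcl : (Subgroup.centralizer ({x} : Set G)).index = p ^ k) :
    Group.IsSolvable ↥(Subgroup.normalClosure ({x} : Set G)) := by
  haveI := Fact.mk hp
  obtain ⟨a, b, hx, hb, ha, hj⟩ := split hp x hcl
  set A := Subgroup.normalClosure ({a} : Set G)
  set B := Subgroup.normalClosure ({b} : Set G)
  haveI hAs : Group.IsSolvable A := by
    haveI := ha.isNilpotent
    infer_instance
  haveI hBs : Group.IsSolvable B := solvable_regular hp _ G rfl b hb hj
  have hS : Group.IsSolvable ↥(A ⊔ B) := by
    have hmap : (A ⊔ B).map (QuotientGroup.mk' A) = B.map (QuotientGroup.mk' A) := by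
      rw [Subgroup.map_sup, QuotientGroup.map_mk'_self, bot_sup_eq]
    haveI : Group.IsSolvable ↥((A ⊔ B).map (QuotientGroup.mk' A)) := by
      rw [hmap]
      exact Group.isSolvable_of_surjective ((QuotientGroup.mk' A).subgroupMap_surjective B)
    refine Group.isSolvable_of_ker_le_range (Subgroup.inclusion (le_sup_left : A ≤ A ⊔ B))
      ((QuotientGroup.mk' A).subgroupMap (A ⊔ B)) fun c hc => ?_
    rw [MonoidHom.mem_ker] at hc
    exact ⟨⟨(c : G), (QuotientGroup.eq_one_iff _).mp (congrArg Subtype.val hc)⟩, rfl⟩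
  haveI := hS
  exact Group.isSolvable_of_isSolvable_injective (Subgroup.inclusion_injective (normalClosure_le_sup hx))

end Cfsg.Agent.Perm.Kazarin
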