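import Mathlib

/-! Subgroups of a two-dimensional general linear group given by a list of their elements. -/

namespace Cfsg.Agent.Perm

open Matrix

variable {p : ℕ} [NeZero p]

/-- quadruples of entries -/
abbrev Quad (p : ℕ) := ZMod p × ZMod p × ZMod p × ZMod p

/-- product of quadruples read as matrices -/
def qmul (x y : Quad p) : Quad p :=
  (x.1 * y.1 + x.2.1 * y.2.2.1, x.1 * y.2.1 + x.2.1 * y.2.2.2,
    x.2.2.1 * y.1 + x.2.2.2 * y.2.2.1, x.2.2.1 * y.2.1 + x.2.2.2 * y.2.2.2)

/-- entries of a matrix -/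
def quad (g : GL (Fin 2) (ZMod p)) : Quad p :=
  ((g : Matrix (Fin 2) (Fin 2) (ZMod p)) 0 0, (g : Matrix (Fin 2) (Fin 2) (ZMod p)) 0 1,
    (g : Matrix (Fin 2) (Fin 2) (ZMod p)) 1 0, (g : Matrix (Fin 2) (Fin 2) (ZMod p)) 1 1)

theorem quad_injective : Function.Injective (quad : GL (Fin 2) (ZMod p) → Quad p) := by
  intro g h e
  simp only [quad, Prod.ext_iff] at e
  refine Units.ext (Matrix.ext fun i j => ?_)
  fin_cases i <;> fin_cases j
  · exact e.1
  · exact e.2.1
  · exact e.2.2.1
  · exact e.2.2.2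

theorem quad_mul (g h : GL (Fin 2) (ZMod p)) : quad (g * h) = qmul (quad g) (quad h) := by
  simp [quad, qmul, Matrix.mul_apply, Fin.sum_univ_two]

theorem regular_of_list (gens : List (GL (Fin 2) (ZMod p))) (elems : List (Quad p))
    (parent : List (ℕ × ℕ)) (hnd : elems.Nodup) (hlen : parent.length = elems.length)
    (hone : elems[0]? = some (1, 0, 0, 1))
    (hmul : ∀ x ∈ elems, ∀ y ∈ gens.map quad, qmul x y ∈ elems)
    (hword : ∀ k < elems.length, 0 < k → ∃ i j, parent[k]? = some (i, j) ∧ i < k ∧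
      ∃ x y, elems[i]? = some x ∧ (gens.map quad)[j]? = some y ∧ elems[k]? = some (qmul x y))
    (hcol0 : ((0, 0) : ZMod p × ZMod p) ∉ elems.map fun x => (x.1, x.2.2.1))
    (hcol : (elems.map fun x => (x.1, x.2.2.1)).Nodup) (hcount : elems.length + 1 = p * p) :
    Nat.card (Subgroup.closure {g | g ∈ gens}) = elems.length ∧
      ∀ v w : Fin 2 → ZMod p, v ≠ 0 → w ≠ 0 → ∃! h : Subgroup.closure {g | g ∈ gens},
        Matrix.mulVec ((h : GL (Fin 2) (ZMod p)) : Matrix (Fin 2) (Fin 2) (ZMod p)) v = w := by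
  set S := Subgroup.closure {g | g ∈ gens} with hS
  have hq1 : quad (1 : GL (Fin 2) (ZMod p)) = (1, 0, 0, 1) := by simp [quad]
  have hone' : (1, 0, 0, 1) ∈ elems := List.mem_of_getElem? hone
  have hle : ∀ g ∈ S, quad g ∈ elems := by
    intro g hg
    rw [← Subgroup.mem_toSubmonoid, hS, Subgroup.closure_toSubmonoid_of_finite] at hg
    induction hg using Submonoid.closure_induction_right with
    | one => rw [hq1]; exact hone'
    | mul_right x _ y hy ih => rw [quad_mul]; exact hmul _ ih _ (List.mem_map.2 ⟨y, hy, rfl⟩)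
  have hge : ∀ k < elems.length, ∃ g ∈ S, elems[k]? = some (quad g) := by
    intro k
    induction k using Nat.strong_induction_on with
    | _ k ih =>
      intro hk
      rcases Nat.eq_zero_or_pos k with rfl | hpos
      · exact ⟨1, one_mem S, by rw [hone, hq1]⟩
      obtain ⟨i, j, -, hik, x, y, hx, hy, hxy⟩ := hword k hk hpos
      obtain ⟨g, hg, hgx⟩ := ih i hik (hik.trans hk)
      rw [hgx, Option.some.injEq] at hx
      rw [List.getElem?_map, Option.map_eq_some_iff] at hy
      obtain ⟨h, hh, rfl⟩ := hy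
      exact ⟨g * h, mul_mem hg (Subgroup.subset_closure (List.mem_of_getElem? hh)),
        by rw [hxy, quad_mul, hx]⟩
  have hbij : Function.Bijective (fun g : S => (⟨quad (g : GL (Fin 2) (ZMod p)), hle g g.2⟩ : {x // x ∈ elems})) := by
    refine ⟨fun g h e => Subtype.ext (quad_injective (congrArg Subtype.val e)), fun x => ?_⟩
    obtain ⟨k, hk, hkx⟩ := List.getElem_of_mem x.2
    obtain ⟨g, hg, hgk⟩ := hge k hk
    rw [List.getElem?_eq_getElem hk, Option.some.injEq, hkx] at hgk
    exact ⟨⟨g, hg⟩, Subtype.ext hgk.symm⟩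
  refine ⟨?_, fun v w hv hw => ?_⟩
  · rw [Nat.card_eq_of_bijective _ hbij, Nat.card_eq_fintype_card, Fintype.card_congr
      (Equiv.subtypeEquivRight (p := fun x => x ∈ elems) (q := fun x => x ∈ elems.toFinset) fun x => List.mem_toFinset.symm),
      Fintype.card_coe, List.toFinset_card_of_nodup hnd]
  · -- the first columns run through all nonzero vectors
    have hall : ∀ u : Fin 2 → ZMod p, u ≠ 0 → ∃ g : S,
        Matrix.mulVec ((g : GL (Fin 2) (ZMod p)) : Matrix (Fin 2) (Fin 2) (ZMod p)) ![1, 0] = u := by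
      intro u hu
      have hfull : (elems.map fun x => (x.1, x.2.2.1)).toFinset = Finset.univ.erase (0, 0) := by
        refine Finset.eq_of_subset_of_card_le (fun z hz => ?_) ?_
        · rw [List.mem_toFinset] at hz
          exact Finset.mem_erase.2 ⟨fun e => hcol0 (e ▸ hz), Finset.mem_univ _⟩
        · rw [List.toFinset_card_of_nodup hcol, List.length_map, Finset.card_erase_of_mem (Finset.mem_univ _),
            Finset.card_univ, Fintype.card_prod, ZMod.card]
          omega
      have hu' : (u 0, u 1) ≠ ((0, 0) : ZMod p × ZMod p) := fun h => by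
        rw [Prod.ext_iff] at h
        exact hu (funext fun i => by fin_cases i <;> [exact h.1; exact h.2])
      have hmem : (u 0, u 1) ∈ (elems.map fun x => (x.1, x.2.2.1)).toFinset := by
        rw [hfull]; exact Finset.mem_erase.2 ⟨hu', Finset.mem_univ _⟩
      rw [List.mem_toFinset, List.mem_map] at hmem
      obtain ⟨x, hx, hxu⟩ := hmem
      obtain ⟨g, hg⟩ := hbij.2 ⟨x, hx⟩
      have hg' : quad (g : GL (Fin 2) (ZMod p)) = x := congrArg Subtype.val hg
      refine ⟨g, funext fun i => ?_⟩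
      rw [← hg', Prod.ext_iff] at hxu
      fin_cases i
      · simpa [quad, Matrix.mulVec, dotProduct, Fin.sum_univ_two] using hxu.1
      · simpa [quad, Matrix.mulVec, dotProduct, Fin.sum_univ_two] using hxu.2
    have hinj : ∀ g g' : S, Matrix.mulVec ((g : GL (Fin 2) (ZMod p)) : Matrix (Fin 2) (Fin 2) (ZMod p)) ![1, 0] =
        Matrix.mulVec ((g' : GL (Fin 2) (ZMod p)) : Matrix (Fin 2) (Fin 2) (ZMod p)) ![1, 0] → g = g' := by
      intro g g' h
      have h0 := congrFun h 0
      have h1 := congrFun h 1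
      simp [Matrix.mulVec, dotProduct, Fin.sum_univ_two] at h0 h1
      refine hbij.1 (Subtype.ext (List.inj_on_of_nodup_map hcol (hle g g.2) (hle g' g'.2) ?_))
      exact Prod.ext h0 h1
    obtain ⟨gv, hgv⟩ := hall v hv
    obtain ⟨gw, hgw⟩ := hall w hw
    refine ⟨gw * gv⁻¹, ?_, fun h hh => ?_⟩
    · show Matrix.mulVec _ v = w
      nth_rewrite 1 [← hgv]
      rw [Matrix.mulVec_mulVec, ← Units.val_mul, ← Subgroup.coe_mul, inv_mul_cancel_right, hgw]
    · rw [eq_mul_inv_iff_mul_eq]
      refine hinj _ _ ?_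
      rw [hgw, Subgroup.coe_mul, Units.val_mul, ← Matrix.mulVec_mulVec, hgv, hh]

end Cfsg.Agent.Perm
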