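import Mathlib

/-! Criteria for multiple transitivity by means of pointwise stabilisers. -/

namespace Cfsg.Agent.Perm

open MulAction

variable {G : Type*} [Group G] {α : Type*} [MulAction G α]

/-- The pointwise stabiliser of `s` is transitive on the complement of `s`. -/
def FixTrans (G : Type*) [Group G] {α : Type*} [MulAction G α] (s : Finset α) : Prop :=
  ∀ a b : α, a ∉ s → b ∉ s → ∃ g : G, (∀ x ∈ s, g • x = x) ∧ g • a = b

theorem isMultiplyPretransitive_of_fixTrans {k : ℕ} (h : ∀ s : Finset α, s.card < k → FixTrans G s) :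
    IsMultiplyPretransitive G α k := by
  classical
  rw [isMultiplyPretransitive_iff]
  intro x y
  have key : ∀ j : ℕ, j ≤ k → ∃ g : G, ∀ i : Fin k, (i : ℕ) < j → g • x i = y i := by
    intro j
    induction j with
    | zero => exact fun _ => ⟨1, fun i hi => absurd hi (Nat.not_lt_zero _)⟩
    | succ j ih =>
      intro hj
      obtain ⟨g, hg⟩ := ih (Nat.le_of_succ_le hj)
      let i0 : Fin k := ⟨j, hj⟩
      let s : Finset α := (Finset.univ.filter fun i : Fin k => (i : ℕ) < j).image y
      have hs : s.card < k := by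
        refine lt_of_le_of_lt Finset.card_image_le ?_
        have : (Finset.univ.filter fun i : Fin k => (i : ℕ) < j) ⊂ Finset.univ := by
          rw [Finset.ssubset_iff_of_subset (Finset.filter_subset _ _)]
          exact ⟨i0, Finset.mem_univ _, by simp [i0]⟩
        simpa using Finset.card_lt_card this
      have ha : g • x i0 ∉ s := by
        simp only [s, Finset.mem_image, Finset.mem_filter, Finset.mem_univ, true_and, not_exists, not_and]
        intro i hi e
        rw [← hg i hi] at e
        have := x.injective (MulAction.injective g e)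
        rw [this] at hi
        exact lt_irrefl _ hi
      have hb : y i0 ∉ s := by
        simp only [s, Finset.mem_image, Finset.mem_filter, Finset.mem_univ, true_and, not_exists, not_and]
        intro i hi e
        rw [y.injective e] at hi
        exact lt_irrefl _ hi
      obtain ⟨f, hf, hfa⟩ := h s hs _ _ ha hb
      refine ⟨f * g, fun i hi => ?_⟩
      rw [mul_smul]
      rcases Nat.lt_succ_iff_lt_or_eq.1 hi with h1 | h1
      · rw [hg i h1]
        exact hf _ (Finset.mem_image.2 ⟨i, by simp [h1], rfl⟩)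
      · have : i = i0 := Fin.ext h1
        rw [this, hfa]
  obtain ⟨g, hg⟩ := key k le_rfl
  exact ⟨g, Function.Embedding.ext fun i => hg i i.2⟩

theorem FixTrans.of_insert [Fintype α] [DecidableEq α] {t : Finset α}
    (hcard : t.card + 3 ≤ Fintype.card α) (h : ∀ c ∉ t, FixTrans G (insert c t)) : FixTrans G t := by
  intro a b ha hb
  obtain ⟨c, hc⟩ : ∃ c, c ∉ insert a (insert b t) := by
    by_contra hno
    push Not at hno
    have h1 : (Finset.univ : Finset α) ⊆ insert a (insert b t) := fun c _ => hno c
    have h2 := (Finset.card_le_card h1).trans (Finset.card_insert_le _ _)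
    have h3 := Finset.card_insert_le b t
    rw [Finset.card_univ] at h2
    omega
  simp only [Finset.mem_insert, not_or] at hc
  obtain ⟨g, hg, hga⟩ := h c hc.2.2 a b
    (by simp [ha, Ne.symm hc.1]) (by simp [hb, Ne.symm hc.2.1])
  exact ⟨g, fun x hx => hg x (Finset.mem_insert_of_mem hx), hga⟩

theorem FixTrans.downward [Fintype α] [DecidableEq α] {j : ℕ} (hj : j + 2 ≤ Fintype.card α)
    (h : ∀ t : Finset α, t.card = j → FixTrans G t) : ∀ t : Finset α, t.card ≤ j → FixTrans G t := by
  have key : ∀ d : ℕ, ∀ t : Finset α, t.card + d = j → FixTrans G t := by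
    intro d
    induction d with
    | zero => exact fun t ht => h t (by omega)
    | succ d ih =>
      intro t ht
      refine FixTrans.of_insert (by omega) fun c hc => ih _ ?_
      rw [Finset.card_insert_of_notMem hc]; omega
  exact fun t ht => key (j - t.card) t (by omega)

theorem fixTrans_of_isMultiplyPretransitive [Fintype α] {k : ℕ} (hG : IsMultiplyPretransitive G α k)
    {t : Finset α} (ht : t.card + 1 ≤ k) (hk : k ≤ Fintype.card α) : FixTrans G t := by
  classical
  intro a b ha hb
  have hG' : IsMultiplyPretransitive G α (t.card + 1) :=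
    isMultiplyPretransitive_of_le ht (by simpa using hk)
  rw [isMultiplyPretransitive_iff] at hG'
  let e : Fin t.card ↪ α := t.equivFin.symm.toEmbedding.trans (Function.Embedding.subtype _)
  have he : ∀ i, e i ∈ t := fun i => (t.equivFin.symm i).2
  have mk : ∀ z : α, z ∉ t → ∃ x : Fin (t.card + 1) ↪ α,
      x (Fin.last t.card) = z ∧ ∀ i : Fin t.card, x i.castSucc = e i := by
    intro z hz
    refine ⟨⟨Fin.snoc (fun i => e i) z, ?_⟩, Fin.snoc_last (α := fun _ => α) _ _, fun i => Fin.snoc_castSucc (α := fun _ => α) _ _ i⟩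
    intro i j hij
    induction i using Fin.lastCases with
    | last =>
      induction j using Fin.lastCases with
      | last => rfl
      | cast j =>
        simp only [Fin.snoc_last, Fin.snoc_castSucc] at hij
        exact absurd (hij ▸ he j) hz
    | cast i =>
      induction j using Fin.lastCases with
      | last =>
        simp only [Fin.snoc_last, Fin.snoc_castSucc] at hij
        exact absurd (hij ▸ he i) hz
      | cast j =>
        simp only [Fin.snoc_castSucc] at hij
        rw [e.injective hij]
  obtain ⟨x, hxl, hxi⟩ := mk a ha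
  obtain ⟨y, hyl, hyi⟩ := mk b hb
  obtain ⟨g, hg⟩ := hG' x y
  refine ⟨g, fun z hz => ?_, ?_⟩
  · have := DFunLike.congr_fun hg (t.equivFin ⟨z, hz⟩).castSucc
    simp only [Function.Embedding.smul_apply, hxi, hyi] at this
    simpa [e] using this
  · have := DFunLike.congr_fun hg (Fin.last t.card)
    simpa [Function.Embedding.smul_apply, hxl, hyl] using this

/-- If `G` is `m`-transitive, transitivity of stabilisers can be moved between `m`-sets. -/
theorem FixTrans.of_conj {s t : Finset α} (g : G) (hst : ∀ x, x ∈ t ↔ g • x ∈ s)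
    (h : FixTrans G s) : FixTrans G t := by
  intro a b ha hb
  obtain ⟨f, hf, hfa⟩ := h (g • a) (g • b) (fun e => ha ((hst a).2 e)) (fun e => hb ((hst b).2 e))
  refine ⟨g⁻¹ * f * g, fun x hx => ?_, ?_⟩
  · rw [mul_smul, mul_smul, hf _ ((hst x).1 hx), inv_smul_smul]
  · rw [mul_smul, mul_smul, hfa, inv_smul_smul]

open Classical in
/-- Two-orbit counting argument: `m ∣ |orbit|` for all orbits avoiding `a` of a subgroup fixing `a`. -/
theorem transitive_of_counting [Fintype α] (S : Set α) (m : ℕ) (hm : m ≠ 1) (H : Subgroup G)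
    (hS : ∀ h : G, h ∈ H → ∀ x ∈ S, h • x ∈ S)
    (P : α → Subgroup G) (hP : ∀ a ∈ S, P a ≤ H ∧ ∀ h ∈ P a, h • a = a)
    (hdiv : ∀ a ∈ S, ∀ x ∈ S, x ≠ a → m ∣ Nat.card (MulAction.orbit (P a) x))
    {a b : α} (ha : a ∈ S) (hb : b ∈ S) : ∃ h ∈ H, h • a = b := by
  let O : α → Finset α := fun a => Finset.univ.filter fun x => ∃ h ∈ H, h • a = x
  have memO : ∀ a x, x ∈ O a ↔ ∃ h ∈ H, h • a = x := fun a x => by simp [O]
  have hOS : ∀ a ∈ S, ∀ x ∈ O a, x ∈ S := by
    intro a ha x hx
    obtain ⟨h, hh, rfl⟩ := (memO a x).1 hx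
    exact hS h hh a ha
  -- every union of `P c`-orbits avoiding `c` has cardinality divisible by `m`
  have key : ∀ c ∈ S, ∀ U : Finset α, (∀ x ∈ U, x ∈ S ∧ x ≠ c) →
      (∀ g ∈ P c, ∀ x ∈ U, g • x ∈ U) → m ∣ U.card := by
    intro c hc U hU hinv
    rw [Finset.card_eq_sum_card_image (fun x => (Quotient.mk (MulAction.orbitRel (P c) α) x)) U]
    refine Finset.dvd_sum fun q hq => ?_
    obtain ⟨x, hx, rfl⟩ := Finset.mem_image.1 hq
    have he : (U.filter fun y => Quotient.mk (MulAction.orbitRel (P c) α) y = Quotient.mk _ x) =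
        (MulAction.orbit (P c) x).toFinset := by
      ext y
      rw [Finset.mem_filter, Set.mem_toFinset, Quotient.eq, MulAction.orbitRel_apply]
      refine ⟨fun h => h.2, fun h => ⟨?_, h⟩⟩
      obtain ⟨g, rfl⟩ := h
      exact hinv g g.2 x hx
    rw [he, Set.toFinset_card, ← Nat.card_eq_fintype_card]
    exact hdiv c hc x (hU x hx).1 (hU x hx).2
  by_contra hno
  have hmem : ∀ c d, ∀ g ∈ H, d ∈ O c → g • d ∈ O c := by
    intro c d g hg hd
    obtain ⟨h, hh, rfl⟩ := (memO c d).1 hd
    exact (memO c _).2 ⟨g * h, mul_mem hg hh, mul_smul g h c⟩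
  have haO : a ∈ O a := (memO a a).2 ⟨1, one_mem H, one_smul G a⟩
  have hbO : b ∉ O a := fun h => hno ((memO a b).1 h)
  have h1 : m ∣ (O a).card := by
    refine key b hb (O a) (fun x hx => ⟨hOS a ha x hx, fun e => hbO (e ▸ hx)⟩) ?_
    exact fun g hg x hx => hmem a x g ((hP b hb).1 hg) hx
  have h2 : m ∣ ((O a).erase a).card := by
    refine key a ha _ (fun x hx => ⟨hOS a ha x (Finset.mem_of_mem_erase hx), Finset.ne_of_mem_erase hx⟩) ?_
    intro g hg x hx
    refine Finset.mem_erase.2 ⟨fun e => Finset.ne_of_mem_erase hx ?_, hmem a x g ((hP a ha).1 hg) (Finset.mem_of_mem_erase hx)⟩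
    rw [← (hP a ha).2 g hg] at e
    exact MulAction.injective g e
  rw [← Finset.card_erase_add_one haO] at h1
  exact hm (Nat.dvd_one.1 ((Nat.dvd_add_right h2).1 h1))

end Cfsg.Agent.Perm
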