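import Cfsg.Agent.Lib.Solv.ThompsonComplement
import Cfsg.Agent.Lib.Solv.FpfNilpotent
import Cfsg.Agent.Lib.Solv.Coprime
import Cfsg.Agent.Lib.Solv.NormalPComplement
import Cfsg.Agent.Lib.Solv.Misc

/-!
A group with a nilpotent maximal subgroup whose Sylow `2`-subgroup is abelian is solvable
(Thompson).
-/

set_option autoImplicit false
set_option linter.style.haveILetI false

namespace Cfsg.Agent.Perm

open Subgroup
open scoped Pointwise

universe u

theorem normalizer_le_map_char {G : Type*} [Group G] (X : Subgroup G) (R : Subgroup X) [R.Characteristic] :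
    normalizer (X : Set G) ≤ normalizer ((R.map X.subtype : Subgroup G) : Set G) := by
  intro g hg
  haveI : (X.subgroupOf (normalizer (X : Set G))).Normal := normal_subgroupOf_of_le_normalizer le_rfl
  have key : ∀ a : G, a ∈ normalizer (X : Set G) → ∀ x ∈ R.map X.subtype, a * x * a⁻¹ ∈ R.map X.subtype := by
    rintro a ha _ ⟨x, hx, rfl⟩
    let φ : MulAut X :=
      { toFun := fun z => ⟨a * z * a⁻¹, (mem_normalizer_iff.mp ha z).mp z.2⟩
        invFun := fun z => ⟨a⁻¹ * z * a, (mem_normalizer_iff''.mp ha z).mp z.2⟩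
        left_inv := fun z => Subtype.ext (by simp [mul_assoc])
        right_inv := fun z => Subtype.ext (by simp [mul_assoc])
        map_mul' := fun z w => Subtype.ext (by simp [mul_assoc]) }
    have h1 := characteristic_iff_comap_eq.mp ‹R.Characteristic› φ
    refine ⟨φ x, ?_, rfl⟩
    rw [← h1] at hx
    exact hx
  rw [mem_normalizer_iff]
  intro x
  refine ⟨key g hg x, fun h => ?_⟩
  have := key g⁻¹ ((normalizer (X : Set G)).inv_mem hg) _ h
  simpa [mul_assoc] using this

theorem hasNormalPComplement_of_isNilpotent {G : Type*} [Group G] [Finite G] (p : ℕ) [hp : Fact p.Prime]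
    (hG : Group.IsNilpotent G) : HasNormalPComplement p G := by
  obtain ⟨R⟩ : Nonempty (Sylow p G) := inferInstance
  haveI := ((Group.isNilpotent_of_finite_tfae (G := G)).out 0 3 rfl rfl).mp hG p hp R
  obtain ⟨N, hN⟩ := exists_left_complement'_of_coprime R.card_coprime_index
  refine ⟨R, N, ⟨fun a ha b => ?_⟩, hN⟩
  obtain ⟨⟨⟨c, hc⟩, ⟨d, hd⟩⟩, rfl⟩ := hN.2 b
  show c * d * a * (c * d)⁻¹ ∈ N
  have hcop : (orderOf a).Coprime (orderOf d) := by
    obtain ⟨i, hi⟩ := IsPGroup.iff_orderOf.mp R.isPGroup' ⟨d, hd⟩
    rw [orderOf_mk] at hi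
    rw [hi]
    refine Nat.Coprime.pow_right _ (Nat.Coprime.symm ((hp.out.coprime_iff_not_dvd).mpr fun hd' => R.not_dvd_index ?_))
    exact hd'.trans (hN.index_eq_card ▸ orderOf_dvd_natCard N ha)
  have hcd : Commute d a := (Solv.commute_of_coprime_orderOf_of_isNilpotent hG hcop).symm
  rw [show c * d * a * (c * d)⁻¹ = c * (d * a * d⁻¹) * c⁻¹ by group, hcd.mul_inv_cancel]
  exact N.mul_mem (N.mul_mem hc ha) (N.inv_mem hc)

theorem isSolvable_of_nilpotent_coatom_aux : ∀ (n : ℕ) (G : Type u) [Group G] [Finite G],
    Nat.card G ≤ n → ∀ M : Subgroup G, IsCoatom M → Group.IsNilpotent M →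
      (∀ P : Sylow 2 M, IsMulCommutative P) → Group.IsSolvable G := by
  intro n
  induction n with
  | zero => intro G _ _ hn; exact absurd Nat.card_pos (not_lt.mpr hn)
  | succ n ih =>
  intro G _ _ hn M hM hnil h2
  haveI := hnil
  haveI : Fact (Nat.Prime 2) := ⟨Nat.prime_two⟩
  by_cases hX : ∃ X : Subgroup G, X.Normal ∧ X ≠ ⊥ ∧ X ≤ M
  · obtain ⟨X, hXn, hX0, hXM⟩ := hX
    haveI := hXn
    set π := QuotientGroup.mk' X
    have hπ : Function.Surjective π := QuotientGroup.mk'_surjective X
    have hcm : (M.map π).comap π = M := by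
      rw [comap_map_eq, QuotientGroup.ker_mk', sup_of_le_left hXM]
    have hco : IsCoatom (M.map π) := by
      refine ⟨fun h => hM.1 (by rw [← hcm, h, comap_top]), fun B hB => ?_⟩
      have h1 : M < B.comap π := hcm ▸ (comap_lt_comap_of_surjective hπ).mpr hB
      have h3 := congrArg (Subgroup.map π) (hM.2 _ h1)
      rwa [map_comap_eq_self_of_surjective hπ, map_top_of_surjective _ hπ] at h3
    have hnil' : Group.IsNilpotent (M.map π) :=
      Group.nilpotent_of_surjective (π.subgroupMap M) (π.subgroupMap_surjective M)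
    have h2' : ∀ P : Sylow 2 (M.map π), IsMulCommutative P := fun P => by
      obtain ⟨R, rfl⟩ := Sylow.mapSurjective_surjective (π.subgroupMap_surjective M) 2 P
      haveI := h2 R
      exact map_isMulCommutative _ _
    have hlt : Nat.card (G ⧸ X) < Nat.card G := by
      rw [X.card_eq_card_quotient_mul_card_subgroup]
      exact lt_mul_of_one_lt_right Nat.card_pos (X.one_lt_card_iff_ne_bot.mpr hX0)
    haveI : Group.IsSolvable (G ⧸ X) := ih _ (by omega) _ hco hnil' h2'
    haveI : Group.IsSolvable X := Solv.isSolvable_of_le hXM inferInstance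
    exact Group.isSolvable_of_ker_le_range X.subtype π (by rw [QuotientGroup.ker_mk', range_subtype])
  push Not at hX
  have hnorm : ∀ Y : Subgroup G, Y ≠ ⊥ → Y ≤ M → M ≤ normalizer (Y : Set G) → normalizer (Y : Set G) = M :=
    fun Y h0 hle hN => by
      rcases hN.lt_or_eq with hlt | he
      · exact absurd hle (hX Y (normalizer_eq_top_iff.mp (hM.2 _ hlt)) h0)
      · exact he.symm
  have key : ∀ p : ℕ, p.Prime → p ∣ Nat.card M →
      (Nat.card M).factorization p = (Nat.card G).factorization p ∧ HasNormalPComplement p G := by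
    intro p hpp hd
    haveI := Fact.mk hpp
    obtain ⟨R⟩ : Nonempty (Sylow p M) := inferInstance
    haveI hRn := ((Group.isNilpotent_of_finite_tfae (G := M)).out 0 3 rfl rfl).mp hnil p inferInstance R
    haveI := R.characteristic_of_normal hRn
    set Mp := (R : Subgroup M).map M.subtype with hMp
    have hR0 : (R : Subgroup M) ≠ ⊥ := R.ne_bot_of_dvd_card hd
    have hMp0 : Mp ≠ ⊥ := by rwa [Ne, hMp, map_eq_bot_iff_of_injective _ M.subtype_injective]
    have hMN : M ≤ normalizer (Mp : Set G) := le_normalizer.trans (normalizer_le_map_char M R)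
    have hNMp := hnorm Mp hMp0 (map_subtype_le _) hMN
    have hcard : Nat.card Mp = p ^ (Nat.card M).factorization p := by
      rw [hMp, card_map_of_injective M.subtype_injective]; exact R.card_eq_multiplicity
    have hfac : (Nat.card M).factorization p = (Nat.card G).factorization p := by
      refine le_antisymm ((Nat.factorization_le_iff_dvd Nat.card_pos.ne' Nat.card_pos.ne').mpr
        M.card_subgroup_dvd_card p) ?_
      by_contra hlt
      push Not at hlt
      obtain ⟨K, hK, hle⟩ := Sylow.exists_subgroup_card_pow_succ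
        ((Nat.pow_dvd_pow p hlt).trans (Nat.ordProj_dvd (Nat.card G) p)) hcard
      have hKn : (Mp.subgroupOf K).Normal := by
        refine normal_of_index_eq_minFac_card ?_
        rw [hK, Nat.pow_minFac (Nat.succ_ne_zero _), hpp.minFac_eq]
        have e := (Mp.subgroupOf K).card_mul_index
        rw [Nat.card_congr (subgroupOfEquivOfLe hle).toEquiv, hcard, hK, pow_succ] at e
        exact Nat.eq_of_mul_eq_mul_left (pow_pos hpp.pos _) e
      have hKM : K ≤ M := hNMp ▸ (normal_subgroupOf_iff_le_normalizer hle).mp hKn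
      have := (card_dvd_of_le hKM)
      rw [hK] at this
      exact Nat.pow_succ_factorization_not_dvd Nat.card_pos.ne' hpp this
    refine ⟨hfac, ?_⟩
    let P : Sylow p G := Sylow.ofCard Mp (by rw [hcard, hfac])
    have hP : (P : Subgroup G) = Mp := rfl
    rcases eq_or_ne p 2 with rfl | hp2
    · refine Solv.hasNormalPComplement_of_burnside P ?_
      rw [hP, hNMp]
      intro x hx
      refine mem_centralizer_iff.mpr fun a ha => ?_
      obtain ⟨b, hb, rfl⟩ := ha
      -- every element of M commutes with the abelian Sylow 2-subgroup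
      obtain ⟨N, hNn, hNc⟩ : ∃ N : Subgroup M, N.Normal ∧ N.IsComplement' (R : Subgroup M) := by
        obtain ⟨R', N, hNn, hNc⟩ := hasNormalPComplement_of_isNilpotent 2 hnil
        haveI : Subsingleton (Sylow 2 M) := @Unique.instSubsingleton _ (R.unique_of_normal hRn)
        rw [Subsingleton.elim R' R] at hNc
        exact ⟨N, hNn, hNc⟩
      obtain ⟨⟨⟨c, hc⟩, ⟨d, hd'⟩⟩, he⟩ := hNc.2 ⟨x, hx⟩
      have hcb : Commute b c := by
        have h := commute_of_normal_of_disjoint _ _ hRn hNn hNc.symm.disjoint b c hb hc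
        exact h
      have hbd : Commute b d := congrArg Subtype.val ((h2 R).is_comm.comm ⟨b, hb⟩ ⟨d, hd'⟩)
      have := hcb.mul_right hbd
      simp only at he
      rw [he] at this
      exact congrArg Subtype.val this.eq
    · set J := thompsonSubgroup p R with hJ
      haveI : J.Characteristic := Solv.thompson_characteristic
      haveI : Nontrivial (R : Subgroup M) := (nontrivial_iff_ne_bot _).mpr hR0
      obtain ⟨e, hev⟩ : ∃ e : (R : Subgroup M) ≃* Mp, ∀ z, ((e z : Mp) : G) = ((z : M) : G) :=
        ⟨(R : Subgroup M).equivMapOfInjective M.subtype M.subtype_injective, fun _ => rfl⟩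
      have hnilM : HasNormalPComplement p M := hasNormalPComplement_of_isNilpotent p hnil
      have hsubset : ∀ Y : Subgroup Mp, Y.Characteristic → Y ≠ ⊥ →
          HasNormalPComplement p (normalizer ((Y.map Mp.subtype : Subgroup G) : Set G)) := by
        intro Y hY h0
        rw [hnorm _ (by rwa [Ne, map_eq_bot_iff_of_injective _ Mp.subtype_injective])
          ((map_subtype_le _).trans (map_subtype_le _)) (hMN.trans (normalizer_le_map_char Mp Y))]
        exact hnilM
      haveI : Nontrivial Mp := (nontrivial_iff_ne_bot Mp).mpr hMp0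
      have hMpp : IsPGroup p Mp := R.isPGroup'.map _
      refine Solv.thompson_complement hp2 P
        (hsubset (thompsonSubgroup p Mp) Solv.thompson_characteristic (Solv.thompson_ne_bot ?_)) ?_
      · rw [hcard]
        exact dvd_pow_self p (hpp.factorization_pos_of_dvd Nat.card_pos.ne' hd).ne'
      · have hz : (P : Subgroup G) ⊓ centralizer ((P : Subgroup G) : Set G) = (center Mp).map Mp.subtype := by
          rw [hP]
          ext z
          constructor
          · rintro ⟨h1, h3⟩
            exact ⟨⟨z, h1⟩, mem_center_iff.mpr fun g => Subtype.ext (mem_centralizer_iff.mp h3 g g.2), rfl⟩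
          · rintro ⟨w, hw, rfl⟩
            exact ⟨w.2, mem_centralizer_iff.mpr fun g hg => congrArg Subtype.val (mem_center_iff.mp hw ⟨g, hg⟩)⟩
        rw [hz]
        exact Solv.hasNormalPComplement_of_le (centralizer_le_normalizer _)
          (hsubset _ inferInstance (hMpp.bot_lt_center).ne')
  set s := (Nat.card M).primeFactors
  let K : Subgroup G := ⨅ p : s, pPrimeCore (p : ℕ) G
  haveI hKn : K.Normal := Subgroup.normal_iInf_normal fun p => by
    haveI := Fact.mk (Nat.prime_of_mem_primeFactors p.2)
    haveI := Solv.pPrimeCore_characteristic (p : ℕ) G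
    infer_instance
  have hcop : (Nat.card M).Coprime (Nat.card K) := Nat.coprime_of_dvd fun p hpp hd hdK => by
    haveI := Fact.mk hpp
    have hps : p ∈ s := Nat.mem_primeFactors.mpr ⟨hpp, hd, Nat.card_pos.ne'⟩
    have h3 : p ∣ Nat.card (pPrimeCore p G) :=
      hdK.trans (card_dvd_of_le (iInf_le (fun q : s => pPrimeCore (q : ℕ) G) ⟨p, hps⟩))
    exact hpp.one_lt.ne' (Nat.Coprime.eq_one_of_dvd (Solv.card_pPrimeCore_coprime p G).symm h3)
  have hKM : ¬ K ≤ M := fun hle => by
    have hK0 : K = ⊥ := card_eq_one.mp (Nat.eq_one_of_dvd_coprimes hcop (card_dvd_of_le hle) dvd_rfl)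
    refine hM.1 (eq_top_of_le_card M ?_)
    calc Nat.card G = K.index := by rw [hK0, index_bot]
      _ ≤ ∏ p : s, (pPrimeCore (p : ℕ) G).index := index_iInf_le _
      _ = ∏ p : s, (p : ℕ) ^ (Nat.card M).factorization p := Finset.prod_congr rfl fun p _ => by
          obtain ⟨hpp, hd, -⟩ := Nat.mem_primeFactors.mp p.2
          haveI := Fact.mk hpp
          obtain ⟨hf, hc⟩ := key p hpp hd
          obtain ⟨R⟩ : Nonempty (Sylow (p : ℕ) G) := inferInstance
          rw [(Solv.isComplement'_pPrimeCore hc R).symm.index_eq_card, hf]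
          exact R.card_eq_multiplicity
      _ = Nat.card M := by
          rw [Finset.prod_coe_sort s (fun p => p ^ (Nat.card M).factorization p),
            ← Nat.prod_factorization_eq_prod_primeFactors (fun p e => p ^ e)]
          exact Nat.prod_factorization_pow_eq_self Nat.card_pos.ne'
  obtain ⟨q, hq, hqd⟩ := Nat.exists_prime_and_dvd (show Nat.card K ≠ 1 from fun h => hKM (by
    rw [card_eq_one.mp h]; exact bot_le))
  haveI := Fact.mk hq
  obtain ⟨Q, hQ⟩ := Solv.exists_invariant_sylow M K (by rw [normalizer_eq_top]; exact le_top) hcop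
    (Or.inl inferInstance) q
  set Q' := (Q : Subgroup K).map K.subtype with hQ'
  have hQM : ¬ Q' ≤ M := fun hle => by
    have h1 : Nat.card Q' = 1 := Nat.eq_one_of_dvd_coprimes hcop (card_dvd_of_le hle) (card_dvd_of_le (map_subtype_le _))
    rw [hQ', card_map_of_injective K.subtype_injective, card_eq_one] at h1
    exact Q.ne_bot_of_dvd_card hqd h1
  have htop : M ⊔ Q' = ⊤ := hM.2 _ (lt_of_le_of_ne le_sup_left fun h => hQM (h ▸ le_sup_right))
  haveI : Q'.Normal := normalizer_eq_top_iff.mp (top_le_iff.mp (htop ▸ sup_le hQ le_normalizer))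
  haveI : Group.IsSolvable Q' := by
    haveI := (Q.isPGroup'.map K.subtype).isNilpotent
    infer_instance
  haveI : Group.IsSolvable (G ⧸ Q') := by
    refine Group.isSolvable_of_surjective (f := (QuotientGroup.mk' Q').comp M.subtype) ?_
    rw [← MonoidHom.range_eq_top, MonoidHom.range_eq_map, ← map_map, ← MonoidHom.range_eq_map, range_subtype]
    have := map_top_of_surjective _ (QuotientGroup.mk'_surjective Q')
    rwa [← htop, Subgroup.map_sup, (map_eq_bot_iff Q').mpr (QuotientGroup.ker_mk' Q').ge, sup_bot_eq] at this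
  exact Group.isSolvable_of_ker_le_range Q'.subtype (QuotientGroup.mk' Q') (by rw [QuotientGroup.ker_mk', range_subtype])

/-- Thompson: a nilpotent maximal subgroup with abelian Sylow `2`-subgroup forces solvability. -/
theorem isSolvable_of_nilpotent_coatom {G : Type u} [Group G] [Finite G] (M : Subgroup G)
    (hM : IsCoatom M) (hnil : Group.IsNilpotent M) (h2 : ∀ P : Sylow 2 M, IsMulCommutative P) :
    Group.IsSolvable G :=
  isSolvable_of_nilpotent_coatom_aux _ G le_rfl M hM hnil h2

end Cfsg.Agent.Perm
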