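import Mathlib
import Cfsg.Agent.Lib.Struct.Frobenius

/-! The regular normal subgroup of a finite sharply two-transitive permutation group. -/

namespace Cfsg.Agent.Perm

open MulAction
open scoped Pointwise

variable {α : Type*} [Finite α] (G : Subgroup (Equiv.Perm α))

theorem exists_regular_normal [IsMultiplyPretransitive G α 2]
    (hsharp : ∀ x : Fin 2 ↪ α, stabilizer G x = ⊥) (h2 : 2 ≤ Nat.card α) :
    ∃ N : Subgroup G, N.Normal ∧ (∀ g : G, g ∈ N ↔ g = 1 ∨ ∀ a : α, g • a ≠ a) ∧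
      (∀ a b : α, ∃! n : N, (n : G) • a = b) ∧
      (∀ x ∈ N, ∀ y ∈ N, x ≠ 1 → y ≠ 1 → ∀ a : α, ∃ h ∈ stabilizer G a, h * x * h⁻¹ = y) ∧
      IsMulCommutative N ∧ ∃ p : ℕ, p.Prime ∧ (∀ x ∈ N, x ^ p = 1) ∧ IsPGroup p N ∧
        ∀ a : α, N.index = Nat.card (stabilizer G a) := by
  have hne : Nontrivial α := Finite.one_lt_card_iff_nontrivial.1 h2
  have htr : IsPretransitive G α := isPretransitive_of_is_two_pretransitive
  have h2t : ∀ {a b c d : α}, a ≠ b → c ≠ d → ∃ g : G, g • a = c ∧ g • b = d :=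
    is_two_pretransitive_iff.1 inferInstance
  have hfix : ∀ (g : G) (a b : α), a ≠ b → g • a = a → g • b = b → g = 1 := by
    intro g a b hab ha hb
    let x : Fin 2 ↪ α := ⟨![a, b], by
      intro i j h; fin_cases i <;> fin_cases j <;> simp_all⟩
    have : g ∈ stabilizer G x := by
      rw [mem_stabilizer_iff]
      ext i; fin_cases i <;> simpa [x]
    rwa [hsharp, Subgroup.mem_bot] at this
  obtain ⟨a0⟩ := (inferInstance : Nonempty α)
  obtain ⟨N, hNn, hmem, htrN⟩ : ∃ N : Subgroup G, N.Normal ∧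
      (∀ g : G, g ∈ N ↔ g = 1 ∨ ∀ a : α, g • a ≠ a) ∧ ∀ b : α, ∃ n ∈ N, n • a0 = b := by
    by_cases hH : stabilizer G a0 = ⊥
    · refine ⟨⊤, inferInstance, fun g => iff_of_true trivial ?_, fun b =>
        (exists_smul_eq G a0 b).imp fun g hg => ⟨trivial, hg⟩⟩
      by_cases hg : g = 1
      · exact Or.inl hg
      refine Or.inr fun a ha => hg ?_
      obtain ⟨f, rfl⟩ := exists_smul_eq G a0 a
      have : f⁻¹ * g * f ∈ stabilizer G a0 := by
        rw [mem_stabilizer_iff, mul_smul, mul_smul, ha, inv_smul_smul]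
      rw [hH, Subgroup.mem_bot] at this
      have h3 := congrArg (fun z => f * z * f⁻¹) this
      simpa [mul_assoc] using h3
    · have htop : stabilizer G a0 ≠ ⊤ := by
        intro e
        obtain ⟨b, hb⟩ := exists_ne a0
        obtain ⟨g, hg⟩ := exists_smul_eq G a0 b
        have : g ∈ stabilizer G a0 := e ▸ Subgroup.mem_top g
        exact hb (hg ▸ this)
      have hFC : Cfsg.IsFrobeniusComplement (stabilizer G a0) := by
        refine ⟨hH, htop, fun g hg => ?_⟩
        rw [Subgroup.eq_bot_iff_forall]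
        intro x hx
        obtain ⟨hx1, hx2⟩ := Subgroup.mem_inf.1 hx
        rw [Struct.Frobenius.mem_conj_smul, mem_stabilizer_iff, mul_smul, mul_smul] at hx2
        exact hfix x a0 (g • a0) (Ne.symm hg) hx1 (inv_smul_eq_iff.1 hx2)
      obtain ⟨N, hN, hNn, hcompl⟩ := Struct.Frobenius.exists_kernel hFC
      refine ⟨N, hNn, fun g => ?_, fun b => ?_⟩
      · rw [← SetLike.mem_coe, hN]
        refine or_congr Iff.rfl ⟨fun h a ha => ?_, fun h f hf => ?_⟩
        · obtain ⟨f, rfl⟩ := exists_smul_eq G a0 a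
          refine h f (Struct.Frobenius.mem_conj_smul.2 ?_)
          rw [mem_stabilizer_iff, mul_smul, mul_smul, ha, inv_smul_smul]
        · rw [Struct.Frobenius.mem_conj_smul, mem_stabilizer_iff, mul_smul, mul_smul] at hf
          exact h (f • a0) (inv_smul_eq_iff.1 hf)
      · obtain ⟨g, rfl⟩ := exists_smul_eq G a0 b
        obtain ⟨⟨n, h⟩, hnh⟩ := hcompl.2 g
        refine ⟨n, n.2, ?_⟩
        simp only at hnh
        rw [← hnh, mul_smul, mem_stabilizer_iff.1 h.2]
  have huniq : ∀ a b : α, ∃! n : N, (n : G) • a = b := by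
    intro a b
    obtain ⟨n, hn, hna⟩ := htrN a
    obtain ⟨m, hm, hmb⟩ := htrN b
    refine ⟨⟨m * n⁻¹, mul_mem hm (inv_mem hn)⟩, ?_, fun z hz => ?_⟩
    · show (m * n⁻¹) • a = b
      rw [mul_smul, ← hna, inv_smul_smul, hmb]
    · refine Subtype.ext ?_
      have h3 : (m * n⁻¹)⁻¹ * z ∈ N := mul_mem (inv_mem (mul_mem hm (inv_mem hn))) z.2
      rcases (hmem _).1 h3 with h4 | h4
      · exact (inv_mul_eq_one.1 h4).symm
      · refine absurd ?_ (h4 a)
        rw [mul_smul, hz, inv_smul_eq_iff, mul_smul, ← hna, inv_smul_smul, hmb]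
  have hconj : ∀ x ∈ N, ∀ y ∈ N, x ≠ 1 → y ≠ 1 → ∀ a : α, ∃ h ∈ stabilizer G a, h * x * h⁻¹ = y := by
    intro x hx y hy hx1 hy1 a
    obtain ⟨h, ha, hxa⟩ := h2t (a := a) (b := x • a) (c := a) (d := y • a)
      (Ne.symm (((hmem x).1 hx).resolve_left hx1 a)) (Ne.symm (((hmem y).1 hy).resolve_left hy1 a))
    refine ⟨h, ha, ?_⟩
    have hh : h⁻¹ • a = a := inv_smul_eq_iff.2 ha.symm
    obtain ⟨z, -, hz⟩ := huniq a (y • a)
    have e1 := hz ⟨h * x * h⁻¹, hNn.conj_mem x hx h⟩ (by
      show (h * x * h⁻¹) • a = y • a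
      rw [mul_smul, mul_smul, hh, hxa])
    have e2 := hz ⟨y, hy⟩ rfl
    exact congrArg Subtype.val (e1.trans e2.symm)
  have hcardN : Nat.card N = Nat.card α :=
    Nat.card_congr (Equiv.ofBijective (fun n : N => (n : G) • a0)
      ⟨fun m n e => (huniq a0 _).unique e rfl, fun b => (huniq a0 b).exists⟩)
  obtain ⟨p, hp, hdvd⟩ := Nat.exists_prime_and_dvd (n := Nat.card N) (by omega)
  have hpf : Fact p.Prime := ⟨hp⟩
  obtain ⟨e, he⟩ := exists_prime_orderOf_dvd_card' (G := N) p hdvd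
  have he1 : (e : G) ≠ 1 := fun h => by
    rw [show e = 1 from Subtype.ext h, orderOf_one] at he
    exact hp.one_lt.ne he
  have hep : (e : G) ^ p = 1 := by
    rw [← he, ← Subgroup.coe_pow, pow_orderOf_eq_one, Subgroup.coe_one]
  have hexp : ∀ x ∈ N, x ^ p = 1 := by
    intro x hx
    by_cases hx1 : x = 1
    · rw [hx1, one_pow]
    · obtain ⟨h, -, rfl⟩ := hconj e e.2 x hx he1 hx1 a0
      rw [conj_pow, hep, mul_one, mul_inv_cancel]
  have hpN : IsPGroup p N := fun x => ⟨1, Subtype.ext (by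
    rw [pow_one, Subgroup.coe_pow, Subgroup.coe_one]; exact hexp _ x.2)⟩
  have hntN : Nontrivial N := ⟨e, 1, fun h => he1 (congrArg Subtype.val h)⟩
  have := hpN.center_nontrivial
  obtain ⟨⟨z, hz⟩, hz1⟩ := exists_ne (1 : Subgroup.center N)
  have hz1' : (z : G) ≠ 1 := fun h => hz1 (Subtype.ext (Subtype.ext h))
  have hcomm : IsMulCommutative N := by
    refine ⟨⟨fun x y => Subtype.ext ?_⟩⟩
    show (x : G) * y = y * x
    by_cases hy1 : (y : G) = 1
    · rw [hy1, mul_one, one_mul]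
    obtain ⟨h, -, hy⟩ := hconj z z.2 y y.2 hz1' hy1 a0
    have h3 : (z : G) * (h⁻¹ * x * h) = (h⁻¹ * x * h) * z := by
      have := Subgroup.mem_center_iff.1 hz ⟨h⁻¹ * x * h, by simpa using hNn.conj_mem x x.2 h⁻¹⟩
      exact (congrArg Subtype.val this).symm
    rw [← hy]
    calc (x : G) * (h * z * h⁻¹) = h * ((h⁻¹ * x * h) * z) * h⁻¹ := by group
      _ = h * (z * (h⁻¹ * x * h)) * h⁻¹ := by rw [h3]
      _ = h * z * h⁻¹ * x := by group
  refine ⟨N, hNn, hmem, huniq, hconj, hcomm, p, hp, hexp, hpN, fun a => ?_⟩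
  have h1 : Nat.card α * Nat.card (stabilizer G a) = Nat.card G := by
    rw [← index_stabilizer_of_transitive G a, Subgroup.index_mul_card]
  have h2' := Subgroup.card_mul_index N
  rw [hcardN, ← h1] at h2'
  exact Nat.eq_of_mul_eq_mul_left (by omega) h2'

theorem card_stabilizer_sharply_two [IsMultiplyPretransitive G α 2]
    (hsharp : ∀ x : Fin 2 ↪ α, stabilizer G x = ⊥) {a b : α} (hab : b ≠ a) :
    Nat.card (stabilizer G a) + 1 = Nat.card α := by
  classical
  have := Fintype.ofFinite α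
  have e : stabilizer G a ≃ {c : α // c ≠ a} := by
    refine Equiv.ofBijective (fun h => ⟨(h : G) • b, fun e => hab ?_⟩) ⟨?_, ?_⟩
    · have h3 : (h : G) • b = (h : G) • a := by rw [e, mem_stabilizer_iff.1 h.2]
      exact MulAction.injective (h : G) h3
    · intro h k e
      have e' : (h : G) • b = (k : G) • b := congrArg Subtype.val e
      let x : Fin 2 ↪ α := ⟨![a, b], by
        intro i j hij; fin_cases i <;> fin_cases j <;> first | rfl | exact absurd hij.symm hab | exact absurd hij hab | (simp at hij; exact absurd hij (Ne.symm hab)) | (simp at hij; exact absurd hij hab)⟩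
      have : (k : G)⁻¹ * h ∈ stabilizer G x := by
        rw [mem_stabilizer_iff]
        ext i; fin_cases i
        · show ((k : G)⁻¹ * h) • a = a
          rw [mul_smul, mem_stabilizer_iff.1 h.2, inv_smul_eq_iff, mem_stabilizer_iff.1 k.2]
        · show ((k : G)⁻¹ * h) • b = b
          rw [mul_smul, e', inv_smul_smul]
      rw [hsharp, Subgroup.mem_bot, inv_mul_eq_one] at this
      exact Subtype.ext this.symm
    · rintro ⟨c, hc⟩
      have h2t : ∀ {a b c d : α}, a ≠ b → c ≠ d → ∃ g : G, g • a = c ∧ g • b = d :=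
    is_two_pretransitive_iff.1 inferInstance
      obtain ⟨g, hga, hgb⟩ := h2t
        (a := a) (b := b) (c := a) (d := c) (Ne.symm hab) (Ne.symm hc)
      exact ⟨⟨g, hga⟩, Subtype.ext hgb⟩
  rw [Nat.card_congr e, Nat.card_eq_fintype_card, Nat.card_eq_fintype_card, Fintype.card_subtype_compl,
    Fintype.card_subtype_eq]
  have : 0 < Fintype.card α := Fintype.card_pos_iff.2 ⟨a⟩
  omega

end Cfsg.Agent.Perm
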