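import Mathlib
import Cfsg.Agent.Lib.Perm.Multi
import Cfsg.Agent.Lib.Perm.SharplyTwo

/-! Regular normal subgroups of multiply primitive groups, and normal subgroups of their stabilisers. -/

namespace Cfsg.Agent.Perm

open MulAction
open scoped Pointwise

variable {G X : Type*} [Group G] [MulAction G X] [Finite X]

theorem card_le_three_or_exp_two (N : Subgroup G) [hN : N.Normal]
    (hreg : ∀ x y : X, ∃! n : N, (n : G) • x = y) (a : X)
    (hprim : IsPreprimitive (stabilizer G a) (SubMulAction.ofStabilizer G a)) :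
    Nat.card X ≤ 3 ∨ ∀ n ∈ N, n ^ 2 = 1 := by
  classical
  by_contra hno
  push Not at hno
  obtain ⟨hcard, n, hn, hn2⟩ := hno
  have hu : ∀ m m' : G, m ∈ N → m' ∈ N → m • a = m' • a → m = m' := fun m m' hm hm' e =>
    congrArg Subtype.val ((hreg a (m' • a)).unique (y₁ := ⟨m, hm⟩) (y₂ := ⟨m', hm'⟩) e rfl)
  have hnn : n ≠ n⁻¹ := fun e => hn2 (by rw [sq]; nth_rewrite 2 [e]; exact mul_inv_cancel n)
  have hne : ∀ m ∈ N, m • a = a → m = 1 := fun m hm e => hu m 1 hm (one_mem N) (by rw [one_smul]; exact e)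
  have h1 : n • a ≠ a := fun e => hn2 (by rw [hne n hn e, one_pow])
  have h2 : n⁻¹ • a ≠ a := fun e => hn2 (by rw [inv_eq_one.1 (hne _ (inv_mem hn) e), one_pow])
  have hconj : ∀ g ∈ stabilizer G a, ∀ m : G, g • m • a = (g * m * g⁻¹) • a := by
    intro g hg m
    rw [mul_smul, mul_smul, inv_smul_eq_iff.2 (mem_stabilizer_iff.1 hg).symm]
  let B : Set (SubMulAction.ofStabilizer G a) := {x | (x : X) = n • a ∨ (x : X) = n⁻¹ • a}
  have hblock : IsBlock (stabilizer G a) B := by
    rw [isBlock_iff_smul_eq_of_mem]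
    rintro ⟨g, hg⟩ x hx hgx
    have key : g * n * g⁻¹ = n ∨ g * n * g⁻¹ = n⁻¹ := by
      have hN' : g * n * g⁻¹ ∈ N := hN.conj_mem n hn g
      have hN'' : g * n⁻¹ * g⁻¹ ∈ N := hN.conj_mem _ (inv_mem hn) g
      have hinv : g * n⁻¹ * g⁻¹ = (g * n * g⁻¹)⁻¹ := by group
      have hgx' : g • (x : X) = n • a ∨ g • (x : X) = n⁻¹ • a := hgx
      rcases hx with hx | hx <;> rw [hx, hconj g hg] at hgx' <;> rcases hgx' with e | e
      · exact Or.inl (hu _ _ hN' hn e)
      · exact Or.inr (hu _ _ hN' (inv_mem hn) e)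
      · exact Or.inr (inv_injective (by rw [inv_inv, ← hinv]; exact hu _ _ hN'' hn e))
      · exact Or.inl (inv_injective (hinv ▸ hu _ _ hN'' (inv_mem hn) e))
    refine Set.eq_of_subset_of_ncard_le ?_ (le_of_eq (Set.ncard_smul_set _ B).symm) (Set.toFinite _)
    rintro _ ⟨y, hy, rfl⟩
    show g • (y : X) = n • a ∨ g • (y : X) = n⁻¹ • a
    have hinv : g * n⁻¹ * g⁻¹ = (g * n * g⁻¹)⁻¹ := by group
    rcases hy with hy | hy <;> rw [hy, hconj g hg] <;> rcases key with k | k
    · exact Or.inl (by rw [k])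
    · exact Or.inr (by rw [k])
    · exact Or.inr (by rw [hinv, k])
    · exact Or.inl (by rw [hinv, k, inv_inv])
  rcases hprim.isTrivialBlock_of_isBlock hblock with h | h
  · have := h (show (⟨n • a, h1⟩ : SubMulAction.ofStabilizer G a) ∈ B from Or.inl rfl)
      (show (⟨n⁻¹ • a, h2⟩ : SubMulAction.ofStabilizer G a) ∈ B from Or.inr rfl)
    exact hnn (hu _ _ hn (inv_mem hn) (congrArg Subtype.val this))
  · have hsub : (Set.univ : Set X) ⊆ {a, n • a, n⁻¹ • a} := by
      intro x _
      by_cases hxa : x = a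
      · exact Or.inl hxa
      · have : (⟨x, hxa⟩ : SubMulAction.ofStabilizer G a) ∈ B := by rw [h]; trivial
        exact Or.inr this
    have h3 := Set.ncard_le_ncard hsub (Set.toFinite _)
    rw [Set.ncard_univ] at h3
    have h4 := Set.ncard_insert_le a ({n • a, n⁻¹ • a} : Set X)
    have h5 := Set.ncard_insert_le (n • a) ({n⁻¹ • a} : Set X)
    rw [Set.ncard_singleton] at h5
    omega

theorem card_le_four (N : Subgroup G) [hN : N.Normal]
    (hreg : ∀ x y : X, ∃! n : N, (n : G) • x = y) (hexp : ∀ n ∈ N, n ^ 2 = 1) {a b : X} (hab : a ≠ b)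
    (hprim : IsPreprimitive (fixingSubgroup G ({a, b} : Set X)) (SubMulAction.ofFixingSubgroup G ({a, b} : Set X))) :
    Nat.card X ≤ 4 := by
  classical
  obtain ⟨⟨t, ht⟩, hta : t • a = b, -⟩ := hreg a b
  have htt : ∀ x : X, t • t • x = x := fun x => by rw [← mul_smul, ← sq, hexp t ht, one_smul]
  by_contra hcard
  push Not at hcard
  obtain ⟨c, hc⟩ : ∃ c, c ∉ ({a, b} : Set X) := by
    by_contra hno
    push Not at hno
    have h3 := Set.ncard_le_ncard (fun x (_ : x ∈ Set.univ) => hno x) (Set.toFinite _)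
    rw [Set.ncard_univ, Set.ncard_pair hab] at h3
    omega
  have htc : t • c ∉ ({a, b} : Set X) := by
    rintro (e | e)
    · apply hc; right
      show c = b
      rw [← hta, ← htt c, e]
    · apply hc; left
      show c = a
      rw [← htt c, e, ← hta, htt]
  let B : Set (SubMulAction.ofFixingSubgroup G ({a, b} : Set X)) := {x | (x : X) = c ∨ (x : X) = t • c}
  have hblock : IsBlock (fixingSubgroup G ({a, b} : Set X)) B := by
    rw [isBlock_iff_smul_eq_of_mem]
    rintro ⟨g, hg⟩ x hx hgx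
    have hga : g • a = a := (mem_fixingSubgroup_iff G).1 hg a (Or.inl rfl)
    have hgb : g • b = b := (mem_fixingSubgroup_iff G).1 hg b (Or.inr rfl)
    have hgt : g * t * g⁻¹ = t := congrArg Subtype.val ((hreg a b).unique (y₁ := ⟨g * t * g⁻¹, hN.conj_mem t ht g⟩)
      (y₂ := ⟨t, ht⟩) (by show (g * t * g⁻¹) • a = b; rw [mul_smul, mul_smul, inv_smul_eq_iff.2 hga.symm, hta, hgb]) hta)
    have hcomm : ∀ y : X, g • t • y = t • g • y := fun y => by
      rw [← mul_smul, ← mul_smul, mul_inv_eq_iff_eq_mul.1 hgt]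
    have key : g • c = c ∨ g • c = t • c := by
      have hgx' : g • (x : X) = c ∨ g • (x : X) = t • c := hgx
      rcases hx with hx | hx <;> rw [hx] at hgx'
      · exact hgx'
      · rw [hcomm] at hgx'
        rcases hgx' with e | e
        · right; rw [← htt (g • c), e]
        · left; exact MulAction.injective t e
    refine Set.eq_of_subset_of_ncard_le ?_ (le_of_eq (Set.ncard_smul_set _ B).symm) (Set.toFinite _)
    rintro _ ⟨y, hy, rfl⟩
    show g • (y : X) = c ∨ g • (y : X) = t • c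
    rcases hy with hy | hy <;> rw [hy] <;> rcases key with k | k
    · exact Or.inl k
    · exact Or.inr k
    · exact Or.inr (by rw [hcomm, k])
    · exact Or.inl (by rw [hcomm, k, htt])
  rcases hprim.isTrivialBlock_of_isBlock hblock with h | h
  · have := h (show (⟨c, hc⟩ : SubMulAction.ofFixingSubgroup G ({a, b} : Set X)) ∈ B from Or.inl rfl)
      (show (⟨t • c, htc⟩ : SubMulAction.ofFixingSubgroup G ({a, b} : Set X)) ∈ B from Or.inr rfl)
    have e : c = t • c := congrArg Subtype.val this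
    have h1 : t = 1 := congrArg Subtype.val ((hreg c c).unique (y₁ := ⟨t, ht⟩) (y₂ := 1) e.symm (one_smul G c))
    exact hab (by rw [← hta, h1, one_smul])
  · have hsub : (Set.univ : Set X) ⊆ {a, b, c, t • c} := by
      intro x _
      by_cases hx : x ∈ ({a, b} : Set X)
      · rcases hx with hx | hx
        · exact Or.inl hx
        · exact Or.inr (Or.inl hx)
      · have : (⟨x, hx⟩ : SubMulAction.ofFixingSubgroup G ({a, b} : Set X)) ∈ B := by rw [h]; trivial
        exact Or.inr (Or.inr this)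
    have h3 := Set.ncard_le_ncard hsub (Set.toFinite _)
    rw [Set.ncard_univ] at h3
    have h4 := Set.ncard_insert_le a ({b, c, t • c} : Set X)
    have h5 := Set.ncard_insert_le b ({c, t • c} : Set X)
    have h6 := Set.ncard_insert_le c ({t • c} : Set X)
    rw [Set.ncard_singleton] at h6
    omega

/-- A sharply two-transitive group with point stabilisers of exponent two has degree at most three. -/
theorem card_le_three_of_sharp (M : Subgroup G) (a : X)
    (h2 : ∀ x y z w : X, x ≠ y → z ≠ w → ∃ m ∈ M, m • x = z ∧ m • y = w)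
    (hsharp : ∀ m ∈ M, ∀ x y : X, x ≠ y → m • x = x → m • y = y → ∀ z : X, m • z = z)
    (hinv : ∀ m ∈ M, m • a = a → ∀ z : X, m • m • z = z) : Nat.card X ≤ 3 := by
  classical
  by_contra hcard
  push Not at hcard
  let H : Subgroup (Equiv.Perm X) := ((MulAction.toPermHom G X).comp M.subtype).range
  have hH : IsMultiplyPretransitive H X 2 := by
    rw [is_two_pretransitive_iff]
    intro x y z w hxy hzw
    obtain ⟨m, hm, h1, h3⟩ := h2 x y z w hxy hzw
    exact ⟨⟨_, ⟨m, hm⟩, rfl⟩, h1, h3⟩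
  have hsh : ∀ v : Fin 2 ↪ X, stabilizer H v = ⊥ := by
    intro v
    rw [Subgroup.eq_bot_iff_forall]
    rintro ⟨_, ⟨m, hm⟩, rfl⟩ hfix
    have hf : ∀ i, m • v i = v i := fun i => DFunLike.congr_fun hfix i
    exact Subtype.ext (Equiv.ext fun z => hsharp m hm (v 0) (v 1)
      (fun e => absurd (v.injective e) (by decide)) (hf 0) (hf 1) z)
  obtain ⟨K, hKn, hKmem, hKu, -, hKc, -⟩ := exists_regular_normal H hsh (by omega)
  obtain ⟨b, hb⟩ : ∃ b, b ≠ a := by
    have : Nontrivial X := Finite.one_lt_card_iff_nontrivial.1 (by omega)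
    exact exists_ne a
  have hcs := card_stabilizer_sharply_two H hsh hb
  have hsq : ∀ h ∈ stabilizer H a, ∀ z : X, h • h • z = z := by
    rintro ⟨_, ⟨m, hm⟩, rfl⟩ hh z
    exact hinv m hm hh z
  have hinvK : ∀ h ∈ stabilizer H a, h ≠ 1 → ∀ k ∈ K, h * k * h⁻¹ = k⁻¹ := by
    intro h hh h1 k hk
    have hhh : h * h = 1 := Subtype.ext (Equiv.ext fun z => hsq h hh z)
    have hhi : h⁻¹ = h := inv_eq_of_mul_eq_one_right hhh
    have hk' : h * k * h⁻¹ ∈ K := hKn.conj_mem k hk h
    have hy : k * (h * k * h⁻¹) ∈ K := mul_mem hk hk'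
    have hc : (h * k * h⁻¹) * k = k * (h * k * h⁻¹) :=
      congrArg Subtype.val (hKc.is_comm.comm ⟨_, hk'⟩ ⟨k, hk⟩)
    have hfix : h * (k * (h * k * h⁻¹)) = (k * (h * k * h⁻¹)) * h := by
      rw [← hc]
      calc h * ((h * k * h⁻¹) * k) = (h * h) * k * h⁻¹ * k := by group
        _ = k * h * k := by rw [hhh, one_mul, hhi]
        _ = (h * k * h⁻¹) * k * h := by
          rw [hc]; group
    -- a nontrivial element of `K` commuting with `h` moves the fixed point of `h` to another one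
    rcases (hKmem _).1 hy with h4 | h4
    · exact (inv_eq_of_mul_eq_one_right h4).symm
    · exfalso
      refine h1 (Subtype.ext (Equiv.ext fun z => ?_))
      obtain ⟨⟨m, hm⟩, hmh⟩ := h.2
      have hmz : ∀ z, m • z = h • z := fun z => by
        show _ = (h : Equiv.Perm X) z
        rw [← hmh]; rfl
      show h • z = z
      rw [← hmz]
      refine hsharp m hm a ((k * (h * k * h⁻¹)) • a) (Ne.symm (h4 a)) ?_ ?_ z
      · rw [hmz]; exact hh
      · rw [hmz, ← mul_smul, hfix, mul_smul, mem_stabilizer_iff.1 hh]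
  have hsmall : ∀ h ∈ stabilizer H a, ∀ f ∈ stabilizer H a, h ≠ 1 → f ≠ 1 → h = f := by
    intro h hh f hf h1 f1
    have hc : ∀ k ∈ K, f⁻¹ * h * k = k * (f⁻¹ * h) := by
      intro k hk
      have e : h * k * h⁻¹ = f * k * f⁻¹ := by rw [hinvK h hh h1 k hk, hinvK f hf f1 k hk]
      calc f⁻¹ * h * k = f⁻¹ * (h * k * h⁻¹) * h := by group
        _ = f⁻¹ * (f * k * f⁻¹) * h := by rw [e]
        _ = k * (f⁻¹ * h) := by group
    have : f⁻¹ * h = 1 := by
      refine Subtype.ext (Equiv.ext fun z => ?_)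
      obtain ⟨⟨k, hk⟩, hkz : k • a = z, -⟩ := hKu a z
      show (f⁻¹ * h) • z = z
      rw [← hkz, ← mul_smul, hc k hk, mul_smul, mul_smul, mem_stabilizer_iff.1 hh,
        inv_smul_eq_iff.2 (mem_stabilizer_iff.1 hf).symm]
    exact (inv_mul_eq_one.1 this).symm
  have hle : Nat.card (stabilizer H a) ≤ 2 := by
    by_contra hgt
    push Not at hgt
    have : Fintype (stabilizer H a) := Fintype.ofFinite _
    rw [Nat.card_eq_fintype_card, Fintype.two_lt_card_iff] at hgt
    obtain ⟨x, y, z, hxy, hxz, hyz⟩ := hgt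
    have key : ∀ x y : stabilizer H a, x ≠ 1 → y ≠ 1 → x = y := fun x y hx hy =>
      Subtype.ext (hsmall x x.2 y y.2 (fun e => hx (Subtype.ext e)) (fun e => hy (Subtype.ext e)))
    by_cases hx : x = 1
    · exact hyz (key y z (fun e => hxy (hx.trans e.symm)) (fun e => hxz (hx.trans e.symm)))
    by_cases hy : y = 1
    · exact hxz (key x z hx (fun e => hyz (hy.trans e.symm)))
    exact hxy (key x y hx hy)
  omega

omit [Finite X] in
/-- Transitivity of `N ∩ Fix(s)` from primitivity of `Fix(s)`. -/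
theorem exists_fix_smul_eq (N : Subgroup G) [N.Normal] (s : Finset X)
    (hprim : IsPreprimitive (fixingSubgroup G (s : Set X)) (SubMulAction.ofFixingSubgroup G (s : Set X)))
    (hmove : ∃ n ∈ N, (∀ x ∈ s, n • x = x) ∧ ∃ z, z ∉ s ∧ n • z ≠ z) {a b : X} (ha : a ∉ s) (hb : b ∉ s) :
    ∃ n ∈ N, (∀ x ∈ s, n • x = x) ∧ n • a = b := by
  obtain ⟨n, hn, hfix, z, hz, hnz⟩ := hmove
  have htr : IsPretransitive (N.subgroupOf (fixingSubgroup G (s : Set X)))
      (SubMulAction.ofFixingSubgroup G (s : Set X)) := by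
    refine IsQuasiPreprimitive.isPretransitive_of_normal fun e => ?_
    have h1 : (⟨z, show z ∉ (s : Set X) from hz⟩ : SubMulAction.ofFixingSubgroup G (s : Set X)) ∈
        fixedPoints (N.subgroupOf (fixingSubgroup G (s : Set X))) (SubMulAction.ofFixingSubgroup G (s : Set X)) := by
      rw [e]; trivial
    exact hnz (congrArg Subtype.val (h1 ⟨⟨n, (mem_fixingSubgroup_iff G).2 hfix⟩, hn⟩))
  obtain ⟨m, hm⟩ := htr.exists_smul_eq ⟨a, show a ∉ (s : Set X) from ha⟩ ⟨b, show b ∉ (s : Set X) from hb⟩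
  exact ⟨m.1.1, m.2, fun x hx => (mem_fixingSubgroup_iff G).1 m.1.2 x hx, congrArg Subtype.val hm⟩

end Cfsg.Agent.Perm
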