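import Mathlib
import Cfsg.Agent.Lib.Perm.RegularNormal

/-! Intersections of a normal subgroup with pointwise stabilisers. -/

namespace Cfsg.Agent.Perm

open MulAction
open scoped Pointwise

variable {G X : Type*} [Group G] [MulAction G X] [Fintype X]

/-- `N ∩ Fix(s)` moves a point outside `s`. -/
def NMoves (N : Subgroup G) (s : Finset X) : Prop :=
  ∃ n ∈ N, (∀ x ∈ s, n • x = x) ∧ ∃ z, z ∉ s ∧ n • z ≠ z

/-- `N ∩ Fix(s)` is transitive outside `s`. -/
def NTrans (N : Subgroup G) (s : Finset X) : Prop :=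
  ∀ a b : X, a ∉ s → b ∉ s → ∃ n ∈ N, (∀ x ∈ s, n • x = x) ∧ n • a = b

theorem NTrans.fixTrans {N : Subgroup G} {s : Finset X} (h : NTrans N s) : FixTrans N s := by
  intro a b ha hb
  obtain ⟨n, hn, hf, hab⟩ := h a b ha hb
  exact ⟨⟨n, hn⟩, hf, hab⟩

omit [Fintype X] in
theorem coe_fixing_mem {s : Finset X} {g : G} :
    g ∈ fixingSubgroup G (s : Set X) ↔ ∀ x ∈ s, g • x = x :=
  mem_fixingSubgroup_iff G

theorem card_ofFixing [DecidableEq X] (s : Finset X) :
    Nat.card (SubMulAction.ofFixingSubgroup G (s : Set X)) + s.card = Fintype.card X := by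
  have e : SubMulAction.ofFixingSubgroup G (s : Set X) ≃ {x // x ∈ sᶜ} :=
    Equiv.subtypeEquivRight fun x => by
      rw [Finset.mem_compl, SubMulAction.mem_ofFixingSubgroup_iff, Finset.mem_coe]
  rw [Nat.card_congr e, Nat.card_eq_fintype_card, Fintype.card_coe, Finset.card_compl]
  have := s.card_le_univ
  omega

variable [FaithfulSMul G X]

theorem not_nMoves {N : Subgroup G} {s : Finset X} (h : ¬ NMoves N s) {n : G} (hn : n ∈ N)
    (hf : ∀ x ∈ s, n • x = x) : n = 1 := by
  refine FaithfulSMul.eq_of_smul_eq_smul (α := X) fun z => ?_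
  rw [one_smul]
  by_contra hz
  exact h ⟨n, hn, hf, z, fun hzs => hz (hf z hzs), hz⟩

theorem eq_one_of_fix_regular [DecidableEq X] {N : Subgroup G} {t : Finset X} {c : X} (hc : c ∉ t)
    (hT : NTrans N t) (hbot : ¬ NMoves N (insert c t)) {n : G} (hn : n ∈ N) (hf : ∀ x ∈ t, n • x = x)
    {x : X} (hx : x ∉ t) (hnx : n • x = x) : n = 1 := by
  obtain ⟨f, hfN, hff, hfc⟩ := hT c x hc hx
  have h1 : f⁻¹ * n * f = 1 := by
    refine not_nMoves hbot (mul_mem (mul_mem (inv_mem hfN) hn) hfN) fun y hy => ?_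
    rw [mul_smul, mul_smul, inv_smul_eq_iff]
    rcases Finset.mem_insert.1 hy with rfl | hy
    · rw [hfc, hnx]
    · rw [hff y hy, hf y hy]
  have := congrArg (fun z => f * z * f⁻¹) h1
  simpa [mul_assoc] using this

theorem regular_of_bot [DecidableEq X] {N : Subgroup G} {t : Finset X} {c : X} (hc : c ∉ t)
    (hT : NTrans N t) (hbot : ¬ NMoves N (insert c t))
    (x y : SubMulAction.ofFixingSubgroup G (t : Set X)) :
    ∃! n : N.subgroupOf (fixingSubgroup G (t : Set X)), (n : fixingSubgroup G (t : Set X)) • x = y := by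
  obtain ⟨n, hn, hf, hxy⟩ := hT x y x.2 y.2
  refine ⟨⟨⟨n, coe_fixing_mem.2 hf⟩, hn⟩, Subtype.ext hxy, fun m hm => ?_⟩
  have hm' : ((m : fixingSubgroup G (t : Set X)) : G) • (x : X) = y := congrArg Subtype.val hm
  have h1 : n⁻¹ * ((m : fixingSubgroup G (t : Set X)) : G) = 1 := by
    refine eq_one_of_fix_regular hc hT hbot (mul_mem (inv_mem hn) m.2) (fun z hz => ?_) x.2 ?_
    · rw [mul_smul, coe_fixing_mem.1 m.1.2 z hz, inv_smul_eq_iff, hf z hz]
    · rw [mul_smul, hm', inv_smul_eq_iff, hxy]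
  exact Subtype.ext (Subtype.ext (inv_mul_eq_one.1 h1).symm)

theorem card_le_of_sharp [DecidableEq X] {N : Subgroup G} {u : Finset X} {d c : X} (hd : d ∉ u)
    (hc : c ∉ insert d u) (hTu : NTrans N u) (hT : NTrans N (insert d u))
    (hbot : ¬ NMoves N (insert c (insert d u)))
    (hexp : ∀ n ∈ N, (∀ x ∈ insert d u, n • x = x) → n ^ 2 = 1) :
    Fintype.card X ≤ 3 + u.card := by
  have h3 : Nat.card (SubMulAction.ofFixingSubgroup G (u : Set X)) ≤ 3 := by
    refine card_le_three_of_sharp (N.subgroupOf (fixingSubgroup G (u : Set X))) ⟨d, hd⟩ ?_ ?_ ?_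
    · intro x y z w hxy hzw
      obtain ⟨n1, hn1, hf1, h1⟩ := hTu x d x.2 hd
      obtain ⟨n2, hn2, hf2, h2⟩ := hTu z d z.2 hd
      have hy : n1 • (y : X) ∉ insert d u := by
        rw [Finset.mem_insert]
        rintro (e | e)
        · exact hxy (Subtype.ext (MulAction.injective n1 (h1.trans e.symm)))
        · exact y.2 (MulAction.injective n1 (hf1 _ e) ▸ e)
      have hw : n2 • (w : X) ∉ insert d u := by
        rw [Finset.mem_insert]
        rintro (e | e)
        · exact hzw (Subtype.ext (MulAction.injective n2 (h2.trans e.symm)))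
        · exact w.2 (MulAction.injective n2 (hf2 _ e) ▸ e)
      obtain ⟨m, hm, hfm, hmy⟩ := hT _ _ hy hw
      have hmem : n2⁻¹ * m * n1 ∈ fixingSubgroup G (u : Set X) := coe_fixing_mem.2 fun v hv => by
        rw [mul_smul, mul_smul, hf1 v hv, hfm v (Finset.mem_insert_of_mem hv), inv_smul_eq_iff, hf2 v hv]
      refine ⟨⟨_, hmem⟩, mul_mem (mul_mem (inv_mem hn2) hm) hn1, Subtype.ext ?_, Subtype.ext ?_⟩
      · show (n2⁻¹ * m * n1) • (x : X) = z
        rw [mul_smul, mul_smul, h1, hfm d (Finset.mem_insert_self d u), inv_smul_eq_iff, h2]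
      · show (n2⁻¹ * m * n1) • (y : X) = w
        rw [mul_smul, mul_smul, hmy, inv_smul_smul]
    · rintro ⟨m, hm⟩ hmN x y hxy hmx hmy z
      have hm' := coe_fixing_mem.1 hm
      obtain ⟨n1, hn1, hf1, h1⟩ := hTu x d x.2 hd
      have hmx' : m • (x : X) = x := congrArg Subtype.val hmx
      have hmy' : m • (y : X) = y := congrArg Subtype.val hmy
      have h2 : n1 * m * n1⁻¹ = 1 := by
        refine eq_one_of_fix_regular hc hT hbot (mul_mem (mul_mem hn1 hmN) (inv_mem hn1)) (fun v hv => ?_)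
          (x := n1 • (y : X)) ?_ ?_
        · rw [mul_smul, mul_smul]
          rcases Finset.mem_insert.1 hv with rfl | hv
          · rw [← h1, inv_smul_smul, hmx']
          · rw [inv_smul_eq_iff.2 (hf1 v hv).symm, hm' v hv, hf1 v hv]
        · rw [Finset.mem_insert]
          rintro (e | e)
          · exact hxy (Subtype.ext (MulAction.injective n1 (h1.trans e.symm)))
          · exact y.2 (MulAction.injective n1 (hf1 _ e) ▸ e)
        · rw [mul_smul, mul_smul, inv_smul_smul, hmy']
      have h3 : m = 1 := by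
        have := congrArg (fun g => n1⁻¹ * g * n1) h2
        simpa [mul_assoc] using this
      refine Subtype.ext ?_
      show m • (z : X) = z
      rw [h3, one_smul]
    · rintro ⟨m, hm⟩ hmN hmd z
      have hmd' : m • d = d := congrArg Subtype.val hmd
      refine Subtype.ext ?_
      show m • m • (z : X) = z
      rw [← mul_smul, ← sq, hexp m hmN, one_smul]
      intro v hv
      rcases Finset.mem_insert.1 hv with rfl | hv
      · exact hmd'
      · exact coe_fixing_mem.1 hm v hv
  have := card_ofFixing (G := G) u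
  omega

end Cfsg.Agent.Perm
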