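import Mathlib

/-! Functions on the integers mod `p` over a field of characteristic `p`, and Müller's argument. -/

namespace Cfsg.Agent.Perm

open Polynomial

variable {p : ℕ} [Fact p.Prime] {K : Type*} [Field K] [CharP K p]

/-- A polynomial as a function on `ZMod p`. -/
noncomputable def polyFun : K[X] →ₗ[K] (ZMod p → K) where
  toFun P j := P.eval (ZMod.castHom (dvd_refl p) K j)
  map_add' P Q := funext fun _ => eval_add
  map_smul' c P := funext fun _ => by simp

theorem polyFun_apply (P : K[X]) (j : ZMod p) : polyFun P j = P.eval (ZMod.castHom (dvd_refl p) K j) := rfl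

/-- Functions given by polynomials of degree less than `r`. -/
noncomputable def polyBelow (r : ℕ) : Submodule K (ZMod p → K) := (degreeLT K r).map polyFun

theorem mem_polyBelow {r : ℕ} {f : ZMod p → K} :
    f ∈ polyBelow r ↔ ∃ P : K[X], P.degree < r ∧ polyFun P = f := by
  simp [polyBelow, Submodule.mem_map, mem_degreeLT]

theorem polyFun_injOn {P : K[X]} (hP : P.degree < p) (h : (polyFun P : ZMod p → K) = 0) : P = 0 := by
  classical
  apply eq_zero_of_degree_lt_of_eval_finset_eq_zero
    (Finset.univ.image (ZMod.castHom (dvd_refl p) K))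
  · rw [Finset.card_image_of_injective _ (RingHom.injective _), Finset.card_univ, ZMod.card]
    exact hP
  · intro x hx
    obtain ⟨j, -, rfl⟩ := Finset.mem_image.1 hx
    exact congrFun h j

theorem finrank_polyBelow {r : ℕ} (hr : r ≤ p) : Module.finrank K (polyBelow (p := p) (K := K) r) = r := by
  have hinj : Function.Injective ((polyFun (p := p) (K := K)).comp (degreeLT K r).subtype) := by
    rw [← LinearMap.ker_eq_bot, LinearMap.ker_eq_bot']
    intro P hP
    exact Subtype.ext (polyFun_injOn (lt_of_lt_of_le (mem_degreeLT.1 P.2) (by exact_mod_cast hr)) hP)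
  have hrange : polyBelow (p := p) (K := K) r = LinearMap.range ((polyFun (p := p) (K := K)).comp (degreeLT K r).subtype) := by
    rw [LinearMap.range_comp, Submodule.range_subtype]; rfl
  rw [hrange, LinearMap.finrank_range_of_inj hinj, (degreeLTEquiv K r).finrank_eq, Module.finrank_pi,
    Fintype.card_fin]

theorem polyBelow_top : polyBelow (p := p) (K := K) p = ⊤ :=
  Submodule.eq_top_of_finrank_eq (by rw [finrank_polyBelow le_rfl, Module.finrank_pi, ZMod.card])

/-- Every function is given by a polynomial of degree less than `p`. -/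
theorem exists_poly (f : ZMod p → K) : ∃ P : K[X], P.degree < p ∧ polyFun P = f :=
  mem_polyBelow.1 (polyBelow_top (p := p) (K := K) ▸ Submodule.mem_top)

/-- The difference operator. -/
def diff : (ZMod p → K) →ₗ[K] (ZMod p → K) where
  toFun f j := f (j + 1) - f j
  map_add' f g := funext fun j => by simp only [Pi.add_apply]; ring
  map_smul' c f := funext fun j => by simp only [Pi.smul_apply, RingHom.id_apply, smul_eq_mul]; ring

theorem diff_polyFun (P : K[X]) : diff (polyFun (p := p) P) = polyFun (taylor 1 P - P) := by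
  funext j
  simp [diff, polyFun_apply, taylor_apply, eval_comp]

theorem polyBelow_le_ker (r : ℕ) : polyBelow (p := p) (K := K) r ≤ LinearMap.ker (diff (p := p) (K := K) ^ r) := by
  induction r with
  | zero =>
    intro f hf
    obtain ⟨P, hP, rfl⟩ := mem_polyBelow.1 hf
    rw [Nat.cast_zero, Nat.WithBot.lt_zero_iff, degree_eq_bot] at hP
    simp [hP]
  | succ r ih =>
    intro f hf
    obtain ⟨P, hP, rfl⟩ := mem_polyBelow.1 hf
    rw [LinearMap.mem_ker, pow_succ, Module.End.mul_apply, diff_polyFun]
    refine ih (mem_polyBelow.2 ⟨_, ?_, rfl⟩)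
    by_cases h0 : P = 0
    · simp [h0]
    have hlt : (taylor 1 P - P).degree < P.degree := by
      exact degree_sub_lt_right (degree_taylor P 1) h0 (by simp)
    have hnd : P.natDegree ≤ r := by
      rw [degree_eq_natDegree h0] at hP
      have : P.natDegree < r + 1 := by exact_mod_cast hP
      omega
    refine lt_of_lt_of_le hlt ?_
    rw [degree_eq_natDegree h0]
    exact_mod_cast hnd

theorem finrank_ker_diff_pow (r : ℕ) : Module.finrank K (LinearMap.ker (diff (p := p) (K := K) ^ r)) ≤ r := by
  induction r with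
  | zero =>
    rw [pow_zero, Module.End.one_eq_id, LinearMap.ker_id, finrank_bot]
  | succ r ih =>
    let A := LinearMap.ker (diff (p := p) (K := K) ^ (r + 1))
    let φ : A →ₗ[K] LinearMap.ker (diff (p := p) (K := K) ^ r) :=
      LinearMap.codRestrict _ ((diff (p := p) (K := K)).comp A.subtype) (fun x => by
        rw [LinearMap.mem_ker]
        have := LinearMap.mem_ker.1 x.2
        rwa [pow_succ, Module.End.mul_apply] at this)
    have hker : Module.finrank K (LinearMap.ker φ) ≤ 1 := by
      let c : LinearMap.ker φ →ₗ[K] K :=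
        (LinearMap.proj (0 : ZMod p)).comp (A.subtype.comp (LinearMap.ker φ).subtype)
      have hc : Function.Injective c := by
        rintro ⟨⟨f, hf⟩, hφ⟩ ⟨⟨f', hf'⟩, hφ'⟩ h0
        have h0' : f 0 = f' 0 := h0
        have h1 : ∀ j, f (j + 1) = f j := fun j =>
          sub_eq_zero.1 (congrFun (congrArg Subtype.val (LinearMap.mem_ker.1 hφ)) j)
        have h1' : ∀ j, f' (j + 1) = f' j := fun j =>
          sub_eq_zero.1 (congrFun (congrArg Subtype.val (LinearMap.mem_ker.1 hφ')) j)
        refine Subtype.ext (Subtype.ext (funext fun j => ?_))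
        show f j = f' j
        rw [← ZMod.natCast_zmod_val j]
        induction j.val with
        | zero => simpa using h0'
        | succ n ihn => rw [Nat.cast_succ, h1, h1', ihn]
      have := LinearMap.finrank_le_finrank_of_injective hc
      rwa [Module.finrank_self] at this
    have h1 := LinearMap.finrank_range_add_finrank_ker φ
    have h2 : Module.finrank K (LinearMap.range φ) ≤ Module.finrank K (LinearMap.ker (diff (p := p) (K := K) ^ r)) :=
      Submodule.finrank_le _
    show Module.finrank K A ≤ r + 1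
    omega

theorem ker_diff_pow {r : ℕ} (hr : r ≤ p) :
    LinearMap.ker (diff (p := p) (K := K) ^ r) = polyBelow r :=
  (Submodule.eq_of_le_of_finrank_le (polyBelow_le_ker r)
    (by rw [finrank_polyBelow hr]; exact finrank_ker_diff_pow r)).symm

/-- A translation invariant subspace consists of the polynomial functions below its dimension. -/
theorem eq_polyBelow (W : Submodule K (ZMod p → K)) (hW : ∀ f ∈ W, (fun j => f (j + 1)) ∈ W) :
    Module.finrank K W ≤ p ∧ W = polyBelow (Module.finrank K W) := by
  have hle : Module.finrank K W ≤ p := by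
    have := Submodule.finrank_le W
    rwa [Module.finrank_pi, ZMod.card] at this
  refine ⟨hle, ?_⟩
  have hD : ∀ f ∈ W, diff f ∈ W := fun f hf => by
    have : diff f = (fun j => f (j + 1)) - f := rfl
    rw [this]; exact sub_mem (hW f hf) hf
  let d : Module.End K W := (diff (p := p) (K := K)).restrict hD
  have hpow : ∀ (n : ℕ) (f : W), ((d ^ n) f : ZMod p → K) = (diff ^ n) (f : ZMod p → K) := by
    intro n
    induction n with
    | zero => intro f; simp
    | succ n ih => intro f; rw [pow_succ, pow_succ, Module.End.mul_apply, Module.End.mul_apply, ih]; rfl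
  have hdp : d ^ p = 0 := by
    refine LinearMap.ext fun f => Subtype.ext ?_
    rw [hpow]
    have : (f : ZMod p → K) ∈ LinearMap.ker (diff (p := p) (K := K) ^ p) := by
      rw [ker_diff_pow le_rfl, polyBelow_top]; trivial
    simpa using this
  refine Submodule.eq_of_le_of_finrank_le ?_ (by rw [finrank_polyBelow hle])
  intro f hf
  rw [← ker_diff_pow hle, LinearMap.mem_ker, ← hpow _ ⟨f, hf⟩]
  have h1 : (⟨f, hf⟩ : W) ∈ LinearMap.ker (d ^ Module.finrank K W) := by
    rw [← Module.End.ker_pow_eq_ker_pow_finrank_of_le hle, hdp, LinearMap.ker_zero]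
    trivial
  rw [LinearMap.mem_ker.1 h1]
  rfl

theorem polyBelow_shift {r : ℕ} (hr : r ≤ p) {f : ZMod p → K} (hf : f ∈ polyBelow r) :
    (fun j => f (j + 1)) ∈ polyBelow r := by
  obtain ⟨P, hP, rfl⟩ := mem_polyBelow.1 hf
  refine mem_polyBelow.2 ⟨taylor 1 P, by rwa [degree_taylor], funext fun j => ?_⟩
  simp [polyFun_apply, taylor_apply, eval_comp]

theorem sum_polyFun_of_degree_lt {P : K[X]} (hP : P.degree < (p - 1 : ℕ)) :
    ∑ j : ZMod p, polyFun P j = 0 := by
  simp only [polyFun_apply, eval_eq_sum_range]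
  rw [Finset.sum_comm]
  refine Finset.sum_eq_zero fun i hi => ?_
  by_cases h0 : P = 0
  · simp [h0]
  rw [degree_eq_natDegree h0] at hP
  have hnd : P.natDegree < p - 1 := by exact_mod_cast hP
  rw [Finset.mem_range] at hi
  rw [← Finset.mul_sum]
  simp only [← map_pow]
  rw [← map_sum, FiniteField.sum_pow_lt_card_sub_one (K := ZMod p) i (by rw [ZMod.card]; omega), map_zero, mul_zero]

theorem sum_polyFun_of_degree_eq {P : K[X]} (hP : P.natDegree = p - 1) :
    ∑ j : ZMod p, polyFun P j = -P.leadingCoeff := by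
  have h2 := (Fact.out : p.Prime).two_le
  simp only [polyFun_apply, eval_eq_sum_range]
  rw [Finset.sum_comm, hP, Finset.sum_range_succ]
  have h1 : ∑ i ∈ Finset.range (p - 1), ∑ j : ZMod p, P.coeff i * (ZMod.castHom (dvd_refl p) K j) ^ i = 0 := by
    refine Finset.sum_eq_zero fun i hi => ?_
    rw [← Finset.mul_sum]
    simp only [← map_pow]
    rw [← map_sum, FiniteField.sum_pow_lt_card_sub_one (K := ZMod p) i (by rw [ZMod.card]; exact Finset.mem_range.1 hi),
      map_zero, mul_zero]
  have h3 : ∑ j : ZMod p, j ^ (p - 1) = -1 := by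
    rw [Finset.sum_eq_add_sum_sdiff_singleton_of_mem (Finset.mem_univ (0 : ZMod p)), zero_pow (by omega), zero_add,
      Finset.sum_congr rfl (g := fun _ => (1 : ZMod p)) (fun j hj => ZMod.pow_card_sub_one_eq_one (by simpa using hj)),
      Finset.sum_const, Finset.card_sdiff_of_subset (by simp), Finset.card_univ, ZMod.card, Finset.card_singleton,
      nsmul_one, Nat.cast_sub (by omega), ZMod.natCast_self, Nat.cast_one, zero_sub]
  rw [h1, zero_add, ← Finset.mul_sum]
  simp only [← map_pow]
  rw [← map_sum, h3, map_neg, map_one, mul_neg, mul_one, leadingCoeff, hP]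

/-- The sum-zero functions. -/
theorem mem_polyBelow_pred {f : ZMod p → K} : f ∈ polyBelow (p - 1) ↔ ∑ j, f j = 0 := by
  constructor
  · intro hf
    obtain ⟨P, hP, rfl⟩ := mem_polyBelow.1 hf
    exact sum_polyFun_of_degree_lt hP
  · intro hs
    obtain ⟨P, hP, rfl⟩ := exists_poly f
    by_cases h0 : P = 0
    · simp [h0]
    have h2 := (Fact.out : p.Prime).two_le
    rw [degree_eq_natDegree h0] at hP
    have hnd : P.natDegree < p := by exact_mod_cast hP
    rcases Nat.lt_or_ge P.natDegree (p - 1) with h | h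
    · exact mem_polyBelow.2 ⟨P, by rw [degree_eq_natDegree h0]; exact_mod_cast h, rfl⟩
    · rw [sum_polyFun_of_degree_eq (by omega), neg_eq_zero, leadingCoeff_eq_zero] at hs
      exact absurd hs h0

/-- The complementary space is invariant as well. -/
theorem polyBelow_compl {r : ℕ} (hr : r ≤ p) (σ : Equiv.Perm (ZMod p))
    (hσ : ∀ f ∈ polyBelow (K := K) r, (fun j => f (σ.symm j)) ∈ polyBelow r)
    {f : ZMod p → K} (hf : f ∈ polyBelow (p - r)) : (fun j => f (σ j)) ∈ polyBelow (p - r) := by
  obtain ⟨Q, hQ, hQf⟩ := exists_poly (fun j => f (σ j))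
  by_cases h0 : Q = 0
  · rw [← hQf, h0]; simp
  by_contra hmem
  have hd : p - r ≤ Q.natDegree := by
    by_contra h
    exact hmem (mem_polyBelow.2 ⟨Q, by rw [degree_eq_natDegree h0]; exact_mod_cast (by omega : Q.natDegree < p - r), hQf⟩)
  rw [degree_eq_natDegree h0] at hQ
  have hQp : Q.natDegree < p := by exact_mod_cast hQ
  set k := p - 1 - Q.natDegree with hk
  have hsum : ∑ j : ZMod p, polyFun (X ^ k * Q) j = -Q.leadingCoeff := by
    rw [sum_polyFun_of_degree_eq (by rw [natDegree_mul (pow_ne_zero _ X_ne_zero) h0, natDegree_X_pow]; omega)]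
    simp
  have hk' : polyFun (X ^ k) ∈ polyBelow (p := p) (K := K) r :=
    mem_polyBelow.2 ⟨_, by rw [degree_X_pow]; exact_mod_cast (by omega : k < r), rfl⟩
  obtain ⟨A, hA, hAf⟩ := mem_polyBelow.1 (hσ _ hk')
  obtain ⟨B, hB, hBf⟩ := mem_polyBelow.1 hf
  have hzero : ∑ j : ZMod p, polyFun (A * B) j = 0 := by
    refine sum_polyFun_of_degree_lt ?_
    by_cases hA0 : A = 0
    · rw [hA0, zero_mul, degree_zero]; exact WithBot.bot_lt_coe _
    by_cases hB0 : B = 0
    · rw [hB0, mul_zero, degree_zero]; exact WithBot.bot_lt_coe _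
    rw [degree_eq_natDegree hA0] at hA
    rw [degree_eq_natDegree hB0] at hB
    rw [degree_eq_natDegree (mul_ne_zero hA0 hB0), natDegree_mul hA0 hB0]
    have ha : A.natDegree < r := by exact_mod_cast hA
    have hb : B.natDegree < p - r := by exact_mod_cast hB
    exact_mod_cast (by omega : A.natDegree + B.natDegree < p - 1)
  have heq : ∑ j : ZMod p, polyFun (A * B) j = ∑ j : ZMod p, polyFun (X ^ k * Q) j := by
    rw [← Equiv.sum_comp σ]
    refine Finset.sum_congr rfl fun j _ => ?_
    simp only [polyFun_apply, eval_mul]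
    rw [← polyFun_apply A, ← polyFun_apply B, ← polyFun_apply (X ^ k) , ← polyFun_apply Q, hAf, hBf, hQf]
    simp [σ.symm_apply_apply]
  rw [heq, hsum, neg_eq_zero, leadingCoeff_eq_zero] at hzero
  exact h0 hzero

/-- Powers of the permutation stay in a small invariant space, so it is affine. -/
theorem affine_of_small {r : ℕ} (hr2 : 2 ≤ r) (hrp : 2 * r ≤ p + 1) (σ : Equiv.Perm (ZMod p))
    (hσ : ∀ f ∈ polyBelow (K := K) r, (fun j => f (σ j)) ∈ polyBelow r) :
    ∀ j, σ j = (σ 1 - σ 0) * j + σ 0 := by
  have h2 := (Fact.out : p.Prime).two_le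
  obtain ⟨P, hP, hPf⟩ := mem_polyBelow.1 (hσ (polyFun X) (mem_polyBelow.2 ⟨X, by rw [degree_X]; exact_mod_cast (by omega : 1 < r), rfl⟩))
  have hval : ∀ j, P.eval (ZMod.castHom (dvd_refl p) K j) = ZMod.castHom (dvd_refl p) K (σ j) := fun j => by
    have := congrFun hPf j
    simpa [polyFun_apply] using this
  have hdeg : P.natDegree ≤ 1 := by
    by_contra hd
    push Not at hd
    have hP0 : P ≠ 0 := fun e => by simp [e] at hd
    rw [degree_eq_natDegree hP0] at hP
    have hdr : P.natDegree < r := by exact_mod_cast hP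
    -- the first power of degree at least `r`
    have hex : ∃ i, r ≤ i * P.natDegree := ⟨r, Nat.le_mul_of_pos_right r (by omega)⟩
    let i := Nat.find hex
    have hi : r ≤ i * P.natDegree := Nat.find_spec hex
    have hi1 : 1 ≤ i := by
      by_contra h
      rw [show i = 0 by omega] at hi
      omega
    have hib : (i - 1) * P.natDegree < r := Nat.lt_of_not_le (Nat.find_min hex (show i - 1 < i by omega))
    have himul : i * P.natDegree = (i - 1) * P.natDegree + P.natDegree := by
      conv_lhs => rw [show i = (i - 1) + 1 by omega]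
      rw [Nat.succ_mul]
    have hi2 : (i - 1) * 2 ≤ (i - 1) * P.natDegree := Nat.mul_le_mul_left _ hd
    obtain ⟨Q, hQ, hQf⟩ := mem_polyBelow.1 (hσ (polyFun (X ^ i)) (mem_polyBelow.2 ⟨_, by rw [degree_X_pow]; exact_mod_cast (by omega : i < r), rfl⟩))
    have heq : P ^ i = Q := by
      refine sub_eq_zero.1 (polyFun_injOn (p := p) ?_ ?_)
      · refine lt_of_le_of_lt (degree_sub_le _ _) (max_lt ?_ (lt_of_lt_of_le hQ (by exact_mod_cast (by omega : r ≤ p))))
        rw [degree_eq_natDegree (pow_ne_zero _ hP0), natDegree_pow]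
        exact_mod_cast (by omega : i * P.natDegree < p)
      · funext j
        rw [map_sub, Pi.sub_apply, hQf]
        simp only [polyFun_apply, eval_pow, eval_X, hval, sub_self, Pi.zero_apply]
    rw [← heq, degree_eq_natDegree (pow_ne_zero _ hP0), natDegree_pow] at hQ
    have : i * P.natDegree < r := by exact_mod_cast hQ
    omega
  intro j
  obtain ⟨a, b, hab⟩ : ∃ a b, P = C a * X + C b := ⟨_, _, eq_X_add_C_of_natDegree_le_one hdeg⟩
  have h0 := hval 0
  have h1 := hval 1
  have hj := hval j
  simp only [hab, eval_add, eval_mul, eval_C, eval_X, map_zero, map_one, mul_zero, zero_add, mul_one] at h0 h1 hj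
  apply (ZMod.castHom (dvd_refl p) K).injective
  rw [map_add, map_mul, map_sub, ← hj, ← h1, ← h0]
  ring

/-- Müller: a permutation preserving a proper translation-invariant space is affine. -/
theorem affine_of_invariant {r : ℕ} (hr2 : 2 ≤ r) (hrp : r + 2 ≤ p) (σ : Equiv.Perm (ZMod p))
    (hσ : ∀ f ∈ polyBelow (K := K) r, (fun j => f (σ j)) ∈ polyBelow r)
    (hσ' : ∀ f ∈ polyBelow (K := K) r, (fun j => f (σ.symm j)) ∈ polyBelow r) :
    ∀ j, σ j = (σ 1 - σ 0) * j + σ 0 := by
  rcases le_total (2 * r) (p + 1) with h | h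
  · exact affine_of_small hr2 h σ hσ
  · exact affine_of_small (K := K) (r := p - r) (by omega) (by omega) σ fun f hf =>
      polyBelow_compl (by omega) σ hσ' hf

/-- A group of affine permutations of `ZMod p` is solvable. -/
theorem isSolvable_of_affine {G : Type*} [Group G] (φ : G →* Equiv.Perm (ZMod p)) (hφ : Function.Injective φ)
    (haff : ∀ g j, φ g j = (φ g 1 - φ g 0) * j + φ g 0) : Group.IsSolvable G := by
  let s : G → ZMod p := fun g => φ g 1 - φ g 0
  have hcomp : ∀ g h, s (g * h) = s g * s h ∧ φ (g * h) 0 = s g * φ h 0 + φ g 0 := by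
    intro g h
    have e : ∀ j, φ (g * h) j = φ g (φ h j) := fun j => by rw [map_mul]; rfl
    refine ⟨?_, ?_⟩
    · show φ (g * h) 1 - φ (g * h) 0 = _
      rw [e, e, haff g (φ h 1), haff g (φ h 0)]
      show _ = s g * (φ h 1 - φ h 0)
      ring
    · rw [e, haff g (φ h 0)]
  let m : G →* ZMod p :=
    { toFun := s
      map_one' := by show φ 1 1 - φ 1 0 = 1; simp
      map_mul' := fun g h => (hcomp g h).1 }
  let ψ : G →* (ZMod p)ˣ := m.toHomUnits
  have hab : ∀ x y : ψ.ker, x * y = y * x := by
    intro x y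
    have hs : ∀ z : ψ.ker, s z = 1 := fun z => congrArg Units.val (MonoidHom.mem_ker.1 z.2)
    refine Subtype.ext (hφ (Equiv.ext fun j => ?_))
    show φ ((x : G) * y) j = φ ((y : G) * x) j
    rw [haff _ j, haff ((y : G) * x) j]
    show s _ * j + _ = s _ * j + _
    rw [(hcomp _ _).1, (hcomp _ _).2, (hcomp _ _).1, (hcomp _ _).2, hs, hs]
    ring
  have : Group.IsSolvable ψ.ker := Group.isSolvable_of_comm hab
  exact Group.isSolvable_of_ker_le_range ψ.ker.subtype ψ (by rw [Subgroup.range_subtype])

/-- A transitive permutation group of prime degree contains a full cycle: coordinates. -/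
theorem exists_coord {α : Type*} [Fintype α] [DecidableEq α] (hα : Fintype.card α = p)
    (G : Subgroup (Equiv.Perm α)) [MulAction.IsPretransitive G α] :
    ∃ (e : ZMod p ≃ α) (g : G), ∀ j, (g : Equiv.Perm α) (e j) = e (j + 1) := by
  have hp := (Fact.out : p.Prime)
  obtain ⟨a⟩ : Nonempty α := Fintype.card_pos_iff.1 (by rw [hα]; exact hp.pos)
  have hd : p ∣ Nat.card G := by
    rw [← hα, ← Nat.card_eq_fintype_card, ← MulAction.index_stabilizer_of_transitive G a]
    exact Subgroup.index_dvd_card _
  obtain ⟨⟨g, hg⟩, hgo⟩ := exists_prime_orderOf_dvd_card' (G := G) p hd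
  rw [Subgroup.orderOf_mk] at hgo
  have hcyc : g.IsCycle ∧ g.support = Finset.univ := by
    have hc : g.IsCycle := Equiv.Perm.isCycle_of_prime_order' (by rw [hgo]; exact hp)
      (by have := hp.pos; rw [hgo, hα]; omega)
    exact ⟨hc, Finset.eq_univ_of_card _ (by rw [← hc.orderOf, hgo, hα])⟩
  have hmem : ∀ x : α, g x ≠ x := fun x => Equiv.Perm.mem_support.1 (hcyc.2 ▸ Finset.mem_univ x)
  let e : ZMod p → α := fun j => (g ^ j.val) a
  have hstep : ∀ j, g (e j) = e (j + 1) := by
    intro j
    show g ((g ^ j.val) a) = (g ^ (j + 1).val) a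
    rw [← Equiv.Perm.mul_apply, ← pow_succ']
    congr 1
    refine pow_inj_mod.2 ?_
    rw [hgo, ZMod.val_add, ZMod.val_one, Nat.mod_mod]
  have hsurj : Function.Surjective e := by
    intro x
    obtain ⟨i, hi⟩ := hcyc.1.exists_pow_eq (hmem a) (hmem x)
    refine ⟨(i : ZMod p), ?_⟩
    show (g ^ (i : ZMod p).val) a = x
    rw [ZMod.val_natCast, ← hgo, pow_mod_orderOf, hi]
  have hbij : Function.Bijective e :=
    (Fintype.bijective_iff_surjective_and_card e).2 ⟨hsurj, by rw [ZMod.card, hα]⟩
  exact ⟨Equiv.ofBijective e hbij, ⟨g, hg⟩, hstep⟩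

end Cfsg.Agent.Perm
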