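import Cfsg.Agent.Lib.Perm.PrimeDegree
import Cfsg.Agent.S0675

/-! Subgroups of index `p` in transitive groups of prime degree `p`. -/

set_option autoImplicit false

namespace Cfsg.Agent.Perm.IndexP

open scoped commutatorElement

variable {α : Type*} [Fintype α] [DecidableEq α] {p : ℕ} [Fact p.Prime]

theorem card_mod_two {β : Type*} [DecidableEq β] (S : Finset β) (f : β → β) (hS : ∀ x ∈ S, f x ∈ S)
    (hf : ∀ x ∈ S, f (f x) = x) :
    (Odd S.card ↔ Odd (S.filter fun x => f x = x).card) := by
  have h1 : Even (S.filter fun x => ¬ f x = x).card := by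
    set T := S.filter fun x => ¬ f x = x
    have h : ∏ _x ∈ T, (-1 : ℤ) = 1 := by
      refine Finset.prod_involution (fun x _ => f x) (fun _ _ => by norm_num)
        (fun x hx _ => (Finset.mem_filter.mp hx).2) (fun x hx => ?_) (fun x hx => ?_)
      · obtain ⟨h1, h2⟩ := Finset.mem_filter.mp hx
        exact Finset.mem_filter.mpr ⟨hS x h1, fun e => h2 ((hf x h1) ▸ e).symm⟩
      · exact hf x (Finset.mem_filter.mp hx).1
    rw [Finset.prod_const, neg_one_pow_eq_one_iff_even (by norm_num)] at h
    exact h
  rw [← Finset.card_filter_add_card_filter_not (s := S) (fun x => f x = x), Nat.odd_add]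
  simp [h1]

theorem main (hα : Fintype.card α = p) (G : Subgroup (Equiv.Perm α)) [MulAction.IsPretransitive G α]
    (P : Sylow p G) (heven : Even (Nat.card (Subgroup.normalizer ((P : Subgroup G) : Set G))))
    (H : Subgroup G) (hH : H.index = p) : ∃ a : α, H = MulAction.stabilizer G a := by
  classical
  have hp := (Fact.out : p.Prime)
  obtain ⟨e, g, hg⟩ := exists_coord hα G
  haveI : NeZero p := ⟨hp.ne_zero⟩
  have hst : ∀ a : α, (MulAction.stabilizer G a).index = p := fun a => by
    rw [MulAction.index_stabilizer_of_transitive, Nat.card_eq_fintype_card, hα]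
  have hcardeq : ∀ a : α, Nat.card (MulAction.stabilizer G a) = Nat.card H := fun a =>
    Nat.eq_of_mul_eq_mul_right hp.pos (by
      nth_rewrite 1 [← hst a]; rw [Subgroup.card_mul_index, ← hH, Subgroup.card_mul_index])
  -- it suffices to find a fixed point
  suffices ∃ a : α, ∀ h ∈ H, (h : Equiv.Perm α) a = a by
    obtain ⟨a, ha⟩ := this
    exact ⟨a, Subgroup.eq_of_le_of_card_ge (fun h hh => ha h hh) (hcardeq a).le⟩
  have hGfac : Nat.card G ∣ p.factorial := by
    have := Subgroup.card_subgroup_dvd_card G
    rwa [Nat.card_eq_fintype_card (α := Equiv.Perm α), Fintype.card_perm, hα] at this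
  have hm : ¬ p ∣ Nat.card H := by
    intro hd
    obtain ⟨p', rfl⟩ : ∃ p', p = p' + 1 := ⟨p - 1, by have := hp.pos; omega⟩
    rw [← H.card_mul_index, hH, Nat.factorial_succ, mul_comm] at hGfac
    have := Nat.dvd_of_mul_dvd_mul_left hp.pos hGfac
    have h2 := (hp.dvd_factorial).mp (hd.trans this)
    omega
  have hgo : orderOf g = p := by
    refine orderOf_eq_prime (Subtype.ext (Equiv.ext fun x => ?_)) ?_
    · obtain ⟨j, rfl⟩ := e.surjective x
      have : ∀ k : ℕ, ((g : Equiv.Perm α) ^ k) (e j) = e (j + k) := by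
        intro k
        induction k with
        | zero => simp
        | succ k ih => rw [pow_succ', Equiv.Perm.mul_apply, ih, hg]; push_cast; rw [add_assoc]
      simp [this]
    · intro h
      have := hg 0
      rw [h] at this
      simp only [OneMemClass.coe_one, Equiv.Perm.one_apply, zero_add] at this
      exact zero_ne_one (e.injective this)
  have hgk : ∀ (k : ℕ) (j : ZMod p), ((g ^ k : G) : Equiv.Perm α) (e j) = e (j + k) := by
    intro k
    induction k with
    | zero => simp
    | succ k ih =>
      intro j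
      rw [pow_succ', Subgroup.coe_mul, Equiv.Perm.mul_apply, ih, hg]; push_cast; rw [add_assoc]
  -- every element is a power of `g` times an element of `H`
  have hprod : ∀ k : G, ∃ i : ℕ, ∃ h ∈ H, k = g ^ i * h := by
    intro k
    have hinj : Function.Injective fun i : Fin p => (QuotientGroup.mk (g ^ (i : ℕ)) : G ⧸ H) := by
      intro i i' hii
      have h1 := QuotientGroup.eq.mp hii
      by_contra hne
      have h2 : orderOf ((g ^ (i : ℕ))⁻¹ * g ^ (i' : ℕ)) = p := by
        have hmem : (g ^ (i : ℕ))⁻¹ * g ^ (i' : ℕ) ∈ Subgroup.zpowers g :=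
          mul_mem (inv_mem (pow_mem (Subgroup.mem_zpowers g) _)) (pow_mem (Subgroup.mem_zpowers g) _)
        have hd := Subgroup.orderOf_dvd_natCard _ hmem
        rw [Nat.card_zpowers, hgo] at hd
        rcases (Nat.dvd_prime hp).mp hd with h | h
        · exfalso
          rw [orderOf_eq_one_iff, inv_mul_eq_one] at h
          exact hne (Fin.ext (pow_injOn_Iio_orderOf (x := g)
            (by simp [hgo]) (by simp [hgo]) h))
        · exact h
      exact hm (h2 ▸ Subgroup.orderOf_dvd_natCard H h1)
    have hbij : Function.Bijective fun i : Fin p => (QuotientGroup.mk (g ^ (i : ℕ)) : G ⧸ H) :=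
      hinj.bijective_of_nat_card_le (by
        rw [show Nat.card (G ⧸ H) = H.index from rfl, hH, Nat.card_eq_fintype_card, Fintype.card_fin])
    obtain ⟨i, hi⟩ := hbij.2 (QuotientGroup.mk k)
    exact ⟨i, _, QuotientGroup.eq.mp hi, (mul_inv_cancel_left _ _).symm⟩
  rcases Cfsg.Agent.S0675.result (hα ▸ hp) G with hsol | h2
  · -- affine case
    obtain ⟨N, hN, hNa, hN1⟩ : ∃ N : Subgroup G, N.Normal ∧ (∀ x ∈ N, ∀ y ∈ N, x * y = y * x) ∧ N ≠ ⊥ := by
      obtain ⟨n, hn⟩ := (Group.isSolvable_def G).mp hsol
      have hex : ∃ k, derivedSeries G k = ⊥ := ⟨n, hn⟩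
      have h0 : Nat.find hex ≠ 0 := fun h0 => by
        have h3 := Nat.find_spec hex
        rw [h0, derivedSeries_zero] at h3
        have h4 : g ∈ (⊥ : Subgroup G) := h3 ▸ Subgroup.mem_top g
        rw [Subgroup.mem_bot] at h4
        rw [h4, orderOf_one] at hgo
        exact hp.one_lt.ne hgo
      refine ⟨derivedSeries G (Nat.find hex - 1), inferInstance, fun x hx y hy => ?_,
        Nat.find_min hex (by omega)⟩
      have h3 := Nat.find_spec hex
      rw [show Nat.find hex = Nat.find hex - 1 + 1 by omega, derivedSeries_succ] at h3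
      have h4 := Subgroup.commutator_mem_commutator hx hy
      rw [h3, Subgroup.mem_bot] at h4
      exact commutatorElement_eq_one_iff_mul_comm.mp h4
    obtain ⟨n0, hn0, hn1⟩ := (Subgroup.bot_or_exists_ne_one N).resolve_left hN1
    haveI hprim : MulAction.IsPreprimitive G α :=
      MulAction.IsPreprimitive.of_prime_card (by rw [Nat.card_eq_fintype_card, hα]; exact hp)
    obtain ⟨x, hx⟩ : ∃ x, (n0 : Equiv.Perm α) x ≠ x := by
      by_contra hh
      push Not at hh
      exact hn1 (Subtype.ext (Equiv.ext hh))
    haveI := hN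
    haveI : MulAction.IsPretransitive N α :=
      MulAction.IsPreprimitive.isQuasiPreprimitive.isPretransitive_of_normal (fun h0 => hx (by
        have h4 := h0.ge (Set.mem_univ x)
        exact h4 ⟨n0, hn0⟩))
    have hNst : ∀ a : α, ∀ k ∈ N, (k : Equiv.Perm α) a = a → k = 1 := by
      intro a k hk hka
      refine Subtype.ext (Equiv.ext fun y => ?_)
      obtain ⟨⟨l, hl⟩, rfl⟩ := MulAction.exists_smul_eq N a y
      show (k : Equiv.Perm α) ((l : Equiv.Perm α) a) = (l : Equiv.Perm α) a
      rw [← Equiv.Perm.mul_apply, ← Subgroup.coe_mul, hNa k hk l hl, Subgroup.coe_mul,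
        Equiv.Perm.mul_apply, hka]
    have hNcard : Nat.card N = p := by
      rw [← hα, ← Nat.card_eq_fintype_card]
      refine Nat.card_eq_of_bijective (fun k : N => ((k : G) : Equiv.Perm α) (e 0)) ⟨fun k l hkl => ?_, fun y => ?_⟩
      · have := hNst (e 0) ((l : G)⁻¹ * k) (mul_mem (inv_mem l.2) k.2) (by
          rw [Subgroup.coe_mul, Subgroup.coe_inv, Equiv.Perm.mul_apply, Equiv.Perm.inv_eq_iff_eq]
          exact hkl)
        exact Subtype.ext (inv_mul_eq_one.mp this).symm
      · exact MulAction.exists_smul_eq N (e 0) y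
    have hgN : g ∈ N := by
      by_contra hgN
      have hinf : N ⊓ Subgroup.zpowers g = ⊥ := by
        rcases (Nat.dvd_prime hp).mp (hNcard ▸ Subgroup.card_dvd_of_le (inf_le_left : N ⊓ Subgroup.zpowers g ≤ N)) with h | h
        · exact Subgroup.card_eq_one.mp h
        · exfalso
          have h5 := Subgroup.eq_of_le_of_card_ge (inf_le_right : N ⊓ Subgroup.zpowers g ≤ Subgroup.zpowers g)
            (by rw [Nat.card_zpowers, hgo, h])
          exact hgN (h5.ge (Subgroup.mem_zpowers g)).1
      have h6 : Nat.card N * Nat.card (Subgroup.zpowers g) ∣ Nat.card G := by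
        have h8 : Nat.card ↥(N ⊔ Subgroup.zpowers g) = Nat.card N * Nat.card (Subgroup.zpowers g) := by
          rw [← Subgroup.card_mul_index (N.subgroupOf (N ⊔ Subgroup.zpowers g)),
            Nat.card_congr (Subgroup.subgroupOfEquivOfLe le_sup_left).toEquiv]
          congr 1
          show N.relIndex (N ⊔ Subgroup.zpowers g) = _
          rw [sup_comm, Subgroup.relIndex_sup_right, ← Subgroup.inf_relIndex_right, hinf,
            Subgroup.relIndex_bot_left]
        exact h8 ▸ Subgroup.card_subgroup_dvd_card _
      rw [hNcard, Nat.card_zpowers, hgo, ← H.card_mul_index, hH] at h6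
      exact hm (Nat.dvd_of_mul_dvd_mul_right hp.pos h6)
    have hNg : ∀ k ∈ N, ∃ i : ℕ, g ^ i = k := by
      intro k hk
      have h5 := Subgroup.eq_of_le_of_card_ge (Subgroup.zpowers_le.mpr hgN)
        (by rw [Nat.card_zpowers, hgo, hNcard])
      exact ((isOfFinOrder_of_finite g).mem_powers_iff_mem_zpowers).mpr (h5.ge hk) |>
        (Submonoid.mem_powers_iff _ _).mp
    have haff : ∀ k : G, ∃ r s : ZMod p, ∀ j, (k : Equiv.Perm α) (e j) = e (r * j + s) := by
      intro k
      obtain ⟨i, hi⟩ := hNg _ (hN.conj_mem g hgN k)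
      refine ⟨(i : ZMod p), e.symm ((k : Equiv.Perm α) (e 0)), fun j => ?_⟩
      have hkey : ∀ t : ℕ, (k : Equiv.Perm α) (e (t : ZMod p)) =
          e ((i : ZMod p) * t + e.symm ((k : Equiv.Perm α) (e 0))) := by
        intro t
        induction t with
        | zero => simp
        | succ t ih =>
          have h7 : k * g = g ^ i * k := by rw [hi]; group
          have := congrArg (fun z : G => (z : Equiv.Perm α) (e (t : ZMod p))) h7
          simp only [Subgroup.coe_mul, Equiv.Perm.mul_apply, hg, ih, hgk] at this
          push_cast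
          rw [this]; congr 1; ring
      have := hkey j.val
      rwa [ZMod.natCast_zmod_val] at this
    have hHab : ∀ x ∈ H, ∀ y ∈ H, x * y = y * x := by
      intro x hx y hy
      rw [← commutatorElement_eq_one_iff_mul_comm]
      obtain ⟨r, s, hr⟩ := haff x
      obtain ⟨r', s', hr'⟩ := haff y
      set w := ⁅x, y⁆ with hw
      have hwH : w ∈ H := by rw [hw, commutatorElement_def]; exact mul_mem (mul_mem (mul_mem hx hy) (inv_mem hx)) (inv_mem hy)
      -- `w` is a translation
      obtain ⟨u, v, huv⟩ := haff w
      have h9 : ∀ j, ((w * (y * x) : G) : Equiv.Perm α) (e j) = ((x * y : G) : Equiv.Perm α) (e j) := fun j => by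
        rw [hw, commutatorElement_def]; congr 2; group
      simp only [Subgroup.coe_mul, Equiv.Perm.mul_apply, hr, hr', huv, e.injective.eq_iff] at h9
      have e0 := h9 0
      have e1 := h9 1
      have h10 : (u - 1) * (r * r') = 0 := by linear_combination e1 - e0
      have hr0 : r ≠ 0 := fun h0 => by
        have := (x : Equiv.Perm α).injective ((hr 0).trans (by rw [h0, zero_mul, ← zero_mul (1 : ZMod p), ← h0]; exact (hr 1).symm))
        exact zero_ne_one (e.injective this)
      have hr0' : r' ≠ 0 := fun h0 => by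
        have := (y : Equiv.Perm α).injective ((hr' 0).trans (by rw [h0, zero_mul, ← zero_mul (1 : ZMod p), ← h0]; exact (hr' 1).symm))
        exact zero_ne_one (e.injective this)
      have hu : u = 1 := by
        rcases mul_eq_zero.mp h10 with h | h
        · exact sub_eq_zero.mp h
        · exact absurd h (mul_ne_zero hr0 hr0')
      have hwN : w = g ^ v.val := Subtype.ext (Equiv.ext fun z => by
        obtain ⟨j, rfl⟩ := e.surjective z
        rw [huv, hgk, hu, one_mul, ZMod.natCast_zmod_val])
      by_contra hne
      apply hm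
      have : orderOf w = p := by
        have hd : orderOf w ∣ p := by
          rw [hwN]; exact (orderOf_pow_dvd _).trans hgo.dvd
        exact ((Nat.dvd_prime hp).mp hd).resolve_left (fun h => hne (orderOf_eq_one_iff.mp h))
      exact this ▸ Subgroup.orderOf_dvd_natCard H hwH
    by_cases hH1 : ∃ h ∈ H, h ≠ 1
    · obtain ⟨h, hhH, hh1⟩ := hH1
      obtain ⟨r, s, hr⟩ := haff h
      have hr1 : r ≠ 1 := fun hr1 => hm (by
        have hwN : h = g ^ s.val := Subtype.ext (Equiv.ext fun z => by
          obtain ⟨j, rfl⟩ := e.surjective z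
          rw [hr, hgk, hr1, one_mul, ZMod.natCast_zmod_val])
        have hd : orderOf h ∣ p := by rw [hwN]; exact (orderOf_pow_dvd _).trans hgo.dvd
        rw [← ((Nat.dvd_prime hp).mp hd).resolve_left (fun h' => hh1 (orderOf_eq_one_iff.mp h'))]
        exact Subgroup.orderOf_dvd_natCard H hhH)
      have h1r : (1 : ZMod p) - r ≠ 0 := sub_ne_zero.mpr hr1.symm
      refine ⟨e (s / (1 - r)), fun k hk => ?_⟩
      obtain ⟨j, hj⟩ := e.surjective ((k : Equiv.Perm α) (e (s / (1 - r))))
      have hfix : (h : Equiv.Perm α) (e (s / (1 - r))) = e (s / (1 - r)) := by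
        rw [hr]; congr 1; field_simp; ring
      have h11 : (h : Equiv.Perm α) (e j) = e j := by
        rw [hj, ← Equiv.Perm.mul_apply, ← Subgroup.coe_mul, hHab h hhH k hk, Subgroup.coe_mul,
          Equiv.Perm.mul_apply, hfix]
      rw [hr, e.injective.eq_iff] at h11
      rw [← hj]; congr 1
      field_simp
      linear_combination -h11
    · push Not at hH1
      exact ⟨e 0, fun k hk => by rw [hH1 k hk]; simp⟩
  · -- doubly transitive case
    by_contra hnofix
    push Not at hnofix
    by_cases hp2 : p = 2
    · obtain ⟨h, hh, hne⟩ := hnofix (e 0)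
      refine hm ?_
      have h2c : Nat.card G ∣ 2 := by simpa [hp2] using hGfac
      rw [← H.card_mul_index, hH, hp2] at h2c
      have h1 : Nat.card H = 1 := by
        have := Nat.le_of_dvd (by norm_num) h2c
        have := Nat.card_pos (α := H)
        omega
      rw [Subgroup.card_eq_one] at h1
      rw [h1, Subgroup.mem_bot] at hh
      exact absurd (by rw [hh]; rfl) hne
    -- the reflection
    obtain ⟨τ, hτ, b, hb⟩ : ∃ τ : G, τ * τ = 1 ∧ ∃ b : ZMod p, ∀ j, (τ : Equiv.Perm α) (e j) = e (b - j) := by
      have hZ : IsPGroup p (Subgroup.zpowers g) := IsPGroup.of_card (n := 1) (by rw [Nat.card_zpowers, hgo, pow_one])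
      obtain ⟨Q, hQ⟩ := hZ.exists_le_sylow
      have hQcard : Nat.card Q = p := by
        obtain ⟨k, hk⟩ := Q.2.exists_card_eq
        have h1 : p ^ k ∣ Nat.card H * p := by
          rw [← hk, show Nat.card H * p = Nat.card G by rw [← hH, Subgroup.card_mul_index]]; exact Subgroup.card_subgroup_dvd_card _
        rcases k with _ | _ | k
        · exfalso
          rw [pow_zero] at hk
          have := (Subgroup.card_eq_one.mp hk) ▸ hQ (Subgroup.mem_zpowers g)
          rw [Subgroup.mem_bot] at this
          rw [this, orderOf_one] at hgo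
          exact hp.one_lt.ne hgo
        · simpa using hk
        · exfalso
          rw [pow_succ] at h1
          exact hm ((dvd_pow_self p (Nat.succ_ne_zero k)).trans (Nat.dvd_of_mul_dvd_mul_right hp.pos h1))
      have hQz : (Q : Subgroup G) = Subgroup.zpowers g :=
        (Subgroup.eq_of_le_of_card_ge hQ (by rw [Nat.card_zpowers, hgo]; exact hQcard.le)).symm
      have hev : Even (Nat.card (Subgroup.normalizer ((Q : Subgroup G) : Set G))) := by
        have h1 := P.card_eq_index_normalizer
        have h2 := Q.card_eq_index_normalizer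
        have h3 := Subgroup.card_mul_index (Subgroup.normalizer ((P : Subgroup G) : Set G))
        have h4 := Subgroup.card_mul_index (Subgroup.normalizer ((Q : Subgroup G) : Set G))
        rw [show (Subgroup.normalizer ((P : Subgroup G) : Set G)).index = Nat.card (Sylow p G) from h1.symm] at h3
        rw [show (Subgroup.normalizer ((Q : Subgroup G) : Set G)).index = Nat.card (Sylow p G) from h2.symm] at h4
        have h5 : Nat.card (Subgroup.normalizer ((P : Subgroup G) : Set G)) =
            Nat.card (Subgroup.normalizer ((Q : Subgroup G) : Set G)) :=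
          Nat.eq_of_mul_eq_mul_right Nat.card_pos (h3.trans h4.symm)
        exact h5 ▸ heven
      haveI : Fact (Nat.Prime 2) := ⟨Nat.prime_two⟩
      obtain ⟨⟨τ, hτN⟩, hτo⟩ := exists_prime_orderOf_dvd_card' (G := Subgroup.normalizer ((Q : Subgroup G) : Set G)) 2 hev.two_dvd
      rw [Subgroup.orderOf_mk] at hτo
      have hττ : τ * τ = 1 := by rw [← pow_two, ← hτo, pow_orderOf_eq_one]
      have hconj : τ * g * τ⁻¹ ∈ Subgroup.zpowers g := by
        rw [← hQz]
        exact (Subgroup.mem_normalizer_iff.mp hτN g).mp (hQz ▸ Subgroup.mem_zpowers g)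
      obtain ⟨i, hi⟩ := (Submonoid.mem_powers_iff _ _).mp
        ((isOfFinOrder_of_finite g).mem_powers_iff_mem_zpowers.mpr hconj)
      refine ⟨τ, hττ, e.symm ((τ : Equiv.Perm α) (e 0)), ?_⟩
      set b := e.symm ((τ : Equiv.Perm α) (e 0)) with hb
      have hb0 : (τ : Equiv.Perm α) (e 0) = e b := by rw [hb, Equiv.apply_symm_apply]
      have hkey : ∀ t : ℕ, (τ : Equiv.Perm α) (e (t : ZMod p)) = e ((i : ZMod p) * t + b) := by
        intro t
        induction t with
        | zero => simp [hb0]
        | succ t ih =>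
          have h7 : τ * g = g ^ i * τ := by rw [hi]; group
          have := congrArg (fun z : G => (z : Equiv.Perm α) (e (t : ZMod p))) h7
          simp only [Subgroup.coe_mul, Equiv.Perm.mul_apply, hg, ih, hgk] at this
          push_cast
          rw [this]; congr 1; ring
      have hall : ∀ j, (τ : Equiv.Perm α) (e j) = e ((i : ZMod p) * j + b) := fun j => by
        have := hkey j.val
        rwa [ZMod.natCast_zmod_val] at this
      have h2e : ∀ j, (i : ZMod p) * ((i : ZMod p) * j + b) + b = j := fun j => by
        apply e.injective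
        rw [← hall, ← hall, ← Equiv.Perm.mul_apply, ← Subgroup.coe_mul, hττ]
        rfl
      have hi2 : ((i : ZMod p) - 1) * ((i : ZMod p) + 1) = 0 := by
        linear_combination h2e 1 - h2e 0
      rcases mul_eq_zero.mp hi2 with hi1 | hi1
      · exfalso
        have hi1' : (i : ZMod p) = 1 := sub_eq_zero.mp hi1
        have h20 : (2 : ZMod p) * b = 0 := by
          have := h2e 0
          rw [hi1'] at this
          linear_combination this
        have h2ne : (2 : ZMod p) ≠ 0 := by
          intro h
          have : ((2 : ℕ) : ZMod p) = 0 := by exact_mod_cast h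
          rw [ZMod.natCast_eq_zero_iff] at this
          · exact hp2 ((Nat.prime_dvd_prime_iff_eq hp Nat.prime_two).mp this)
        have hb1 : b = 0 := (mul_eq_zero.mp h20).resolve_left h2ne
        have : τ = 1 := Subtype.ext (Equiv.ext fun z => by
          obtain ⟨j, rfl⟩ := e.surjective z
          rw [hall, hi1', hb1]; simp)
        rw [this, orderOf_one] at hτo
        omega
      · intro j
        rw [hall, eq_neg_of_add_eq_zero_left hi1]
        congr 1; ring
    set D : Finset (ZMod p) := Finset.univ.filter fun j => ∃ h ∈ H, (h : Equiv.Perm α) (e 0) = e j with hD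
    have hD0 : (0 : ZMod p) ∈ D := Finset.mem_filter.mpr ⟨Finset.mem_univ _, 1, one_mem H, rfl⟩
    have hDfix : ∀ h ∈ H, ∀ j, j ∈ D → e.symm ((h : Equiv.Perm α) (e j)) ∈ D := by
      intro h hh j hj
      obtain ⟨k, hk, hkj⟩ := (Finset.mem_filter.mp hj).2
      refine Finset.mem_filter.mpr ⟨Finset.mem_univ _, h * k, mul_mem hh hk, ?_⟩
      rw [Subgroup.coe_mul, Equiv.Perm.mul_apply, hkj, Equiv.apply_symm_apply]
    -- every group element moves `D` to a translate
    have htrans : ∀ k : G, ∃ i : ZMod p, ∀ j, e.symm ((k : Equiv.Perm α) (e j)) - i ∈ D ↔ j ∈ D := by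
      intro k
      obtain ⟨i, h, hh, rfl⟩ := hprod k
      refine ⟨(i : ZMod p), fun j => ?_⟩
      rw [Subgroup.coe_mul, Equiv.Perm.mul_apply, ← e.apply_symm_apply ((h : Equiv.Perm α) (e j)), hgk,
        e.symm_apply_apply, add_sub_cancel_right]
      refine ⟨fun hj => ?_, hDfix h hh j⟩
      have := hDfix h⁻¹ (inv_mem hh) _ hj
      simpa using this
    have hDne : ∀ i : ZMod p, (∀ j, j + i ∈ D ↔ j ∈ D) → i = 0 := by
      intro i hi
      by_contra hi0
      have hall : ∀ t : ℕ, (t : ZMod p) * i ∈ D := by
        intro t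
        induction t with
        | zero => simpa using hD0
        | succ t ih => push_cast; rw [add_mul, one_mul]; exact (hi _).mpr ih
      have huniv : ∀ j, j ∈ D := fun j => by
        have := hall (j / i).val
        rwa [ZMod.natCast_zmod_val, div_mul_cancel₀ _ hi0] at this
      have hsurj : Function.Surjective fun h : H => e.symm (((h : G) : Equiv.Perm α) (e 0)) := fun j => by
        obtain ⟨h, hh, hhj⟩ := (Finset.mem_filter.mp (huniv j)).2
        exact ⟨⟨h, hh⟩, by simp [hhj]⟩
      apply hm
      -- the stabiliser in `H` has index `p`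
      have htr : MulAction.orbit H (e 0) = Set.univ := by
        ext z
        simp only [Set.mem_univ, iff_true]
        obtain ⟨h, hh⟩ := hsurj (e.symm z)
        exact ⟨h, e.symm.injective hh⟩
      have := MulAction.index_stabilizer H (e 0)
      rw [htr, Set.ncard_univ, Nat.card_eq_fintype_card, hα] at this
      exact this ▸ Subgroup.index_dvd_card _
    obtain ⟨c, hc⟩ : ∃ c : ZMod p, ∀ j, c - j ∈ D ↔ j ∈ D := by
      obtain ⟨i, hi⟩ := htrans τ
      refine ⟨b - i, fun j => ?_⟩
      rw [← hi j, hb, e.symm_apply_apply, sub_right_comm]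
    -- the pair counts are constant
    let N : ZMod p → ZMod p → Finset (ZMod p) := fun x y => Finset.univ.filter fun i => x - i ∈ D ∧ y - i ∈ D
    have hNle : ∀ x y x' y', x ≠ y → x' ≠ y' → (N x y).card ≤ (N x' y').card := by
      intro x y x' y' hxy hxy'
      obtain ⟨k, hk1, hk2⟩ := MulAction.is_two_pretransitive_iff.mp h2
        (show e x ≠ e y from fun h => hxy (e.injective h)) (show e x' ≠ e y' from fun h => hxy' (e.injective h))
      choose m hm' using fun i : ZMod p => htrans (k * g ^ i.val)
      have hmk : ∀ i j, e.symm ((k : Equiv.Perm α) (e (j + i))) - m i ∈ D ↔ j ∈ D := fun i j => by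
        rw [← hm' i j, Subgroup.coe_mul, Equiv.Perm.mul_apply, hgk, ZMod.natCast_zmod_val]
      refine Finset.card_le_card_of_injOn m ?_ ?_
      · intro i hi
        simp only [N, Finset.coe_filter, Finset.mem_univ, true_and, Set.mem_setOf_eq] at hi ⊢
        constructor
        · have := (hmk i (x - i)).mpr hi.1
          rwa [sub_add_cancel, show (k : Equiv.Perm α) (e x) = e x' from hk1, e.symm_apply_apply] at this
        · have := (hmk i (y - i)).mpr hi.2
          rwa [sub_add_cancel, show (k : Equiv.Perm α) (e y) = e y' from hk2, e.symm_apply_apply] at this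
      · intro i _ i' _ hii
        have hd : ∀ j, j + (i - i') ∈ D ↔ j ∈ D := fun j => by
          rw [← hmk i' (j + (i - i')), ← hmk i j, hii]
          rw [show j + (i - i') + i' = j + i by ring]
        exact sub_eq_zero.mp (hDne _ hd)
    have h2ne : (2 : ZMod p) ≠ 0 := by
      intro h
      have : ((2 : ℕ) : ZMod p) = 0 := by exact_mod_cast h
      rw [ZMod.natCast_eq_zero_iff] at this
      · exact hp2 ((Nat.prime_dvd_prime_iff_eq hp Nat.prime_two).mp this)
    have hparity : ∀ δ : ZMod p, δ ≠ 0 → (Odd (N 0 δ).card ↔ (c - δ) / 2 ∈ D) := by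
      intro δ hδ
      have h1 := card_mod_two (N 0 δ) (fun i => δ - c - i) (fun i hi => by
          simp only [N, Finset.mem_filter, Finset.mem_univ, true_and] at hi ⊢
          constructor
          · rw [show (0 : ZMod p) - (δ - c - i) = c - (δ - i) by ring, hc]; exact hi.2
          · rw [show δ - (δ - c - i) = c - (0 - i) by ring, hc]; exact hi.1)
        (fun i _ => by ring)
      rw [h1]
      have h3 : ∀ i : ZMod p, δ - c - i = i ↔ i = (δ - c) / 2 := fun i => by
        rw [eq_div_iff h2ne]
        constructor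
        · intro h; linear_combination -h
        · intro h; linear_combination -h
      have h4 : (N 0 δ).filter (fun i => δ - c - i = i) =
          if (c - δ) / 2 ∈ D then {(δ - c) / 2} else ∅ := by
        ext i
        simp only [Finset.mem_filter, h3, N, Finset.mem_univ, true_and]
        have h5 : (0 : ZMod p) - (δ - c) / 2 = (c - δ) / 2 := by ring
        have h6 : δ - (δ - c) / 2 = c - (c - δ) / 2 := by field_simp; ring
        split_ifs with h7
        · rw [Finset.mem_singleton]
          refine ⟨fun h => h.2, fun h => ⟨?_, h⟩⟩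
          rw [h, h5, h6]; exact ⟨h7, (hc _).mpr h7⟩
        · simp only [Finset.notMem_empty, iff_false]
          rintro ⟨⟨h8, -⟩, rfl⟩
          exact h7 (h5 ▸ h8)
      rw [h4]
      split_ifs with h7 <;> simp [h7]
    have hconst : ∀ j j' : ZMod p, 2 * j ≠ c → 2 * j' ≠ c → (j ∈ D → j' ∈ D) := by
      intro j j' hj hj' hjD
      have hδ : c - 2 * j ≠ 0 := sub_ne_zero.mpr (Ne.symm hj)
      have hδ' : c - 2 * j' ≠ 0 := sub_ne_zero.mpr (Ne.symm hj')
      have e1 : (c - (c - 2 * j)) / 2 = j := by field_simp; ring
      have e2 : (c - (c - 2 * j')) / 2 = j' := by field_simp; ring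
      have h1 := hparity _ hδ
      have h2' := hparity _ hδ'
      rw [e1] at h1
      rw [e2] at h2'
      rw [← h2', le_antisymm (hNle _ _ _ _ hδ'.symm hδ.symm) (hNle _ _ _ _ hδ.symm hδ'.symm), h1]
      exact hjD
    -- conclude
    have hclosed : ∀ z : ZMod p, (∀ j, j ∈ D ↔ j = z) ∨ (∀ j, j ∈ D ↔ j ≠ z) → False := by
      intro z hz
      obtain ⟨h, hh, hne⟩ := hnofix (e z)
      refine hne (e.symm.injective ?_)
      rw [e.symm_apply_apply]
      have hh' := hDfix h hh
      have hh'' := hDfix h⁻¹ (inv_mem hh)
      rcases hz with hz | hz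
      · exact (hz _).mp (hh' z ((hz z).mpr rfl))
      · by_contra hne'
        have := hh'' _ ((hz _).mpr hne')
        simp only [Equiv.apply_symm_apply, Subgroup.coe_inv, Equiv.Perm.inv_def,
          Equiv.symm_apply_apply] at this
        exact (hz z).mp this rfl
    have hhalf : ∀ j : ZMod p, 2 * j = c ↔ j = c / 2 := fun j => by
      rw [eq_div_iff h2ne, mul_comm]
    by_cases hex : ∃ j ∈ D, 2 * j ≠ c
    · obtain ⟨j, hj, hjc⟩ := hex
      refine hclosed (c / 2) (Or.inr fun j' => ⟨fun hj' hjc' => ?_, fun hj' => hconst j j' hjc (fun h => hj' ((hhalf j').mp h)) hj⟩)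
      have hall : ∀ z, z ∈ D := fun z => by
        by_cases hz : 2 * z = c
        · rw [(hhalf z).mp hz, ← hjc']; exact hj'
        · exact hconst j z hjc hz hj
      exact one_ne_zero (hDne 1 fun z => iff_of_true (hall _) (hall _))
    · push Not at hex
      refine hclosed (c / 2) (Or.inl fun j => ⟨fun hj => (hhalf j).mp (hex j hj), fun hj => ?_⟩)
      rw [hj, ← (hhalf 0).mp (hex 0 hD0)]; exact hD0

end Cfsg.Agent.Perm.IndexP
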