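import Mathlib.LinearAlgebra.Matrix.GeneralLinearGroup.Card
import Mathlib.LinearAlgebra.Matrix.Charpoly.Basic
import Mathlib.LinearAlgebra.Matrix.Charpoly.Coeff
import Mathlib.NumberTheory.Multiplicity
import Mathlib.RingTheory.RootsOfUnity.PrimitiveRoots
import Mathlib.GroupTheory.Sylow
import Mathlib.NumberTheory.Padics.PadicVal.Basic
import Mathlib.FieldTheory.Finite.Basic
import Mathlib.LinearAlgebra.Eigenspace.Basic
import Mathlib.LinearAlgebra.Matrix.ToLin
import Mathlib.LinearAlgebra.Matrix.NonsingularInverse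

/-!
A monomial Sylow subgroup of `GL_p(q)` which is redundant.
-/

set_option autoImplicit false

namespace Cfsg.Agent.Perm.RedundantSylowGL

open Matrix

variable {F : Type*} [Field F] [Fintype F] {p : ℕ} [hp : Fact p.Prime]

/-- The monomial matrix with entries `d` on the `k`-th diagonal. -/
def mon (d : Fin p → rootsOfUnity p F) (k : Fin p) : Matrix (Fin p) (Fin p) F :=
  Matrix.of fun i j => if j = i + k then ((d i : Fˣ) : F) else 0

omit [Fintype F] in
theorem mon_mul (d e : Fin p → rootsOfUnity p F) (k l : Fin p) :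
    mon d k * mon e l = mon (fun i => d i * e (i + k)) (k + l) := by
  ext i j
  rw [mul_apply, Finset.sum_eq_single (i + k)]
  · simp only [mon, of_apply, if_true, ← add_assoc]
    split_ifs <;> simp
  · intro b _ hb
    simp [mon, hb]
  · simp

omit [Fintype F] in
theorem mon_one : mon (1 : Fin p → rootsOfUnity p F) 0 = 1 := by
  ext i j
  simp [mon, one_apply, eq_comm]

/-- The monomial matrix as a unit. -/
def monU (d : Fin p → rootsOfUnity p F) (k : Fin p) : GL (Fin p) F where
  val := mon d k
  inv := mon (fun i => (d (i - k))⁻¹) (-k)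
  val_inv := by
    rw [mon_mul, add_neg_cancel, ← mon_one]
    congr 1
    funext i
    simp
  inv_val := by
    rw [mon_mul, neg_add_cancel, ← mon_one]
    congr 1
    funext i
    simp [← sub_eq_add_neg]

variable (F p) in
/-- The monomial subgroup. -/
def Mon : Subgroup (GL (Fin p) F) where
  carrier := Set.range fun q : (Fin p → rootsOfUnity p F) × Fin p => monU q.1 q.2
  one_mem' := ⟨(1, 0), Units.ext mon_one⟩
  mul_mem' := by
    rintro _ _ ⟨⟨d, k⟩, rfl⟩ ⟨⟨e, l⟩, rfl⟩
    exact ⟨(fun i => d i * e (i + k), k + l), Units.ext (mon_mul d e k l).symm⟩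
  inv_mem' := by
    rintro _ ⟨⟨d, k⟩, rfl⟩
    exact ⟨(fun i => (d (i - k))⁻¹, -k), Units.ext rfl⟩

theorem card_roots (h1 : p ∣ Fintype.card F - 1) : Nat.card (rootsOfUnity p F) = p := by
  classical
  obtain ⟨z, hz⟩ := exists_prime_orderOf_dvd_card' (G := Fˣ) p (by
    rwa [Nat.card_units, Nat.card_eq_fintype_card])
  have hz' : IsPrimitiveRoot (z : F) p := IsPrimitiveRoot.coe_units_iff.2 (hz ▸ IsPrimitiveRoot.orderOf z)
  exact hz'.card_rootsOfUnity

theorem card_Mon (h1 : p ∣ Fintype.card F - 1) : Nat.card (Mon F p) = p ^ (p + 1) := by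
  show Nat.card (Set.range fun q : (Fin p → rootsOfUnity p F) × Fin p => monU q.1 q.2) = _
  rw [Nat.card_range_of_injective, Nat.card_prod, Nat.card_fun, card_roots h1, Nat.card_fin, pow_succ]
  rintro ⟨d, k⟩ ⟨e, l⟩ h
  have h' : mon d k = mon e l := congrArg Units.val h
  have hk : k = l := by
    by_contra hkl
    have := congrFun (congrFun h' 0) (0 + k)
    simp [mon, hkl] at this
  subst hk
  refine Prod.ext (funext fun i => ?_) rfl
  have := congrFun (congrFun h' i) (i + k)
  simp only [mon, of_apply, if_true] at this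
  exact Subtype.ext (Units.ext this)

theorem valuation (hp2 : p ≠ 2) (h1 : p ∣ Fintype.card F - 1) (h2 : ¬ p ^ 2 ∣ Fintype.card F - 1) :
    (Nat.card (GL (Fin p) F)).factorization p = p + 1 := by
  classical
  set q := Fintype.card F with hqdef
  have hq : 1 < q := Fintype.one_lt_card
  have hodd : Odd p := hp.out.odd_of_ne_two hp2
  have hpq : ¬ p ∣ q := by
    intro h
    have := Nat.dvd_sub h h1
    rw [Nat.sub_sub_self hq.le] at this
    exact hp.out.one_lt.ne' (Nat.dvd_one.1 this)
  have hv1 : padicValNat p (q - 1) = 1 := by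
    have a1 : 1 ≤ padicValNat p (q - 1) := one_le_padicValNat_of_dvd (by omega) h1
    by_contra hne
    refine h2 ((padicValNat_dvd_iff_le (by omega)).2 ?_)
    omega
  have hpos : ∀ i : Fin p, q ^ p - q ^ (i : ℕ) ≠ 0 := fun i =>
    Nat.sub_ne_zero_of_lt (Nat.pow_lt_pow_right hq i.2)
  have hterm : ∀ i : Fin p, (q ^ p - q ^ (i : ℕ)).factorization p = 1 + (p - (i : ℕ)).factorization p := by
    intro i
    have hi := i.2
    have e : q ^ p - q ^ (i : ℕ) = q ^ (i : ℕ) * (q ^ (p - (i : ℕ)) - 1) := by
      rw [Nat.mul_sub, ← pow_add, mul_one, Nat.add_sub_cancel' hi.le]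
    have hne : q ^ (p - (i : ℕ)) - 1 ≠ 0 :=
      Nat.sub_ne_zero_of_lt (Nat.one_lt_pow (by omega) hq)
    rw [e, Nat.factorization_mul (pow_ne_zero _ (by omega)) hne, Finsupp.add_apply, Nat.factorization_pow,
      Finsupp.smul_apply, Nat.factorization_eq_zero_of_not_dvd hpq, smul_zero, zero_add,
      Nat.factorization_def _ hp.out, Nat.factorization_def _ hp.out]
    have := padicValNat.pow_sub_pow (p := p) hodd (x := q) (y := 1) hq h1 hpq (n := p - (i : ℕ)) (by omega)
    rw [one_pow] at this
    rw [this, hv1]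
  rw [Nat.card_congr (Equiv.refl _), Matrix.card_GL_field, ← hqdef, Nat.factorization_prod (fun i _ => hpos i),
    Finset.sum_apply', Finset.sum_congr rfl (fun i _ => hterm i), Finset.sum_add_distrib]
  simp only [Finset.sum_const, Finset.card_univ, Fintype.card_fin, smul_eq_mul, mul_one]
  congr 1
  rw [Finset.sum_eq_single (⟨0, hp.out.pos⟩ : Fin p)]
  · simp [hp.out.factorization_self]
  · intro i _ hi
    refine Nat.factorization_eq_zero_of_not_dvd fun hd => ?_
    have h0 : (i : ℕ) ≠ 0 := fun h => hi (Fin.ext h)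
    have := i.2
    have := Nat.le_of_dvd (by omega) hd
    omega
  · simp

omit [Fintype F] in
theorem mem_Mon_row {g : GL (Fin p) F} (hg : g ∈ Mon F p) {i j j' : Fin p} (h : j ≠ j')
    (h1 : g.val i j ≠ 0) : g.val i j' = 0 := by
  obtain ⟨⟨d, k⟩, rfl⟩ := hg
  simp only [monU, mon, of_apply] at h1 ⊢
  split_ifs at h1 ⊢ with a b <;> first | rfl | (exact absurd rfl h1) | simp_all

omit [Fintype F] in
theorem mem_Mon_col {g : GL (Fin p) F} (hg : g ∈ Mon F p) {i i' j : Fin p} (h : i ≠ i')
    (h1 : g.val i j ≠ 0) : g.val i' j = 0 := by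
  obtain ⟨⟨d, k⟩, rfl⟩ := hg
  simp only [monU, mon, of_apply] at h1 ⊢
  split_ifs at h1 ⊢ with a b <;> first | rfl | (exact absurd rfl h1) | simp_all

/-- Eigenvectors for all `p` roots of unity give a base change outside the normaliser. -/
theorem exists_base_change (hp2 : p ≠ 2) (d : Fin p → rootsOfUnity p F) {k : Fin p} (hk : k ≠ 0)
    (f : Fin p → rootsOfUnity p F) (hf : Function.Injective f) {ζ : rootsOfUnity p F} (hζ : ζ ≠ 1)
    (heig : ∀ i, (scalar (Fin p) (((f i : Fˣ) : F)) - mon d k).det = 0) :
    ∃ y : GL (Fin p) F, y * monU f 0 = monU d k * y ∧ ∃ m ∈ Mon F p, y * m * y⁻¹ ∉ Mon F p := by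
  classical
  have hv : ∀ i, ∃ v : Fin p → F, v ≠ 0 ∧ mon d k *ᵥ v = ((f i : Fˣ) : F) • v := fun i => by
    obtain ⟨v, hv, hv'⟩ := exists_mulVec_eq_zero_iff.2 (heig i)
    refine ⟨v, hv, ?_⟩
    rw [sub_mulVec, sub_eq_zero] at hv'
    rw [← hv']
    ext j
    simp [mulVec_diagonal]
  choose v hv hveq using hv
  have hstep : ∀ i j, ((d j : Fˣ) : F) * v i (j + k) = ((f i : Fˣ) : F) * v i j := fun i j => by
    have h := congrFun (hveq i) j
    rw [Pi.smul_apply, smul_eq_mul] at h
    rw [← h, mulVec, dotProduct, Finset.sum_eq_single (j + k)]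
    · simp [mon]
    · intro b _ hb; simp [mon, hb]
    · simp
  have hne : ∀ i j, v i j ≠ 0 := by
    intro i j h0
    refine hv i (funext fun l => ?_)
    have hall : ∀ n : ℕ, v i (j + n • k) = 0 := by
      intro n
      induction n with
      | zero => simpa using h0
      | succ n ih =>
        have h := hstep i (j + n • k)
        rw [ih, mul_zero, mul_eq_zero] at h
        rw [succ_nsmul, ← add_assoc]
        exact h.resolve_left (Units.ne_zero _)
    obtain ⟨n, hn⟩ : l - j ∈ AddSubmonoid.multiples k :=
      mem_multiples_of_prime_card (p := p) (by simp) hk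
    have := hall n
    rwa [show n • k = l - j from hn, add_sub_cancel] at this
  have hli : LinearIndependent F v :=
    Module.End.eigenvectors_linearIndependent' (Matrix.toLin' (mon d k)) (fun i => ((f i : Fˣ) : F))
      (fun a b e => hf (Subtype.ext (Units.ext e))) v
      (fun i => ⟨Module.End.mem_eigenspace_iff.2 (by rw [Matrix.toLin'_apply]; exact hveq i), hv i⟩)
  let M : Matrix (Fin p) (Fin p) F := Matrix.of fun j i => v i j
  have hM : IsUnit M := by
    rw [← Matrix.linearIndependent_cols_iff_isUnit]
    exact hli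
  obtain ⟨y, hy⟩ := hM
  have hyv : ∀ j i, y.val j i = v i j := fun j i => by rw [hy]; rfl
  refine ⟨y, Units.ext ?_, monU (fun i => if i = 0 then ζ else 1) 0, ⟨(_, 0), rfl⟩, fun hm => ?_⟩
  · show y.val * mon f 0 = mon d k * y.val
    ext j i
    rw [mul_apply, mul_apply, Finset.sum_eq_single i, Finset.sum_eq_single (j + k)]
    · simp only [mon, of_apply, add_zero, if_true, hyv]
      rw [mul_comm, hstep]
    · intro b _ hb; simp [mon, hb]
    · simp
    · intro b _ hb; simp [mon, Ne.symm hb]
    · simp
  · set g := y * monU (fun i => if i = 0 then ζ else 1) 0 * y⁻¹ with hg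
    have hgj : ∀ j l, g.val j l = (1 : Matrix (Fin p) (Fin p) F) j l +
        ((((ζ : Fˣ) : F)) - 1) * (v 0 j * (y⁻¹ : GL (Fin p) F).val 0 l) := by
      intro j l
      have hmon : mon (fun i => if i = 0 then ζ else 1 : Fin p → rootsOfUnity p F) 0 =
          1 + Matrix.single (0 : Fin p) (0 : Fin p) ((((ζ : Fˣ) : F)) - 1) := by
        ext a b
        by_cases hab : b = a
        · subst hab
          by_cases hb : b = 0
          · subst hb; simp [mon]
          · simp [mon, hb, Matrix.single, Ne.symm hb]
        · by_cases ha : a = 0 <;> by_cases hb : b = 0 <;>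
            simp_all [mon, Matrix.single, eq_comm]
      show ((y.val * mon (fun i => if i = 0 then ζ else 1) 0 * (y⁻¹ : GL (Fin p) F).val : Matrix (Fin p) (Fin p) F)) j l = _
      rw [hmon, mul_add, add_mul, mul_one, ← Units.val_mul, mul_inv_cancel, Units.val_one, Matrix.add_apply,
        mul_apply, Finset.sum_eq_single (0 : Fin p)]
      · rw [Matrix.mul_single_apply_same, hyv]; ring
      · intro b _ hb; rw [Matrix.mul_single_apply_of_ne _ _ _ _ _ hb, zero_mul]
      · simp
    obtain ⟨l, hl⟩ : ∃ l, (y⁻¹ : GL (Fin p) F).val 0 l ≠ 0 := by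
      by_contra h
      simp only [not_exists, not_not] at h
      have h1 : ((y⁻¹ : GL (Fin p) F).val * y.val) 0 0 = 1 := by
        rw [← Units.val_mul, inv_mul_cancel, Units.val_one, one_apply_eq]
      rw [mul_apply] at h1
      simp [h] at h1
    have hne' : ∀ j, j ≠ l → g.val j l ≠ 0 := fun j hj => by
      rw [hgj, one_apply_ne hj, zero_add]
      exact mul_ne_zero (sub_ne_zero.2 fun e => hζ (Subtype.ext (Units.ext e))) (mul_ne_zero (hne 0 j) hl)
    obtain ⟨j, hj, j', hj', hjj⟩ : ∃ j, j ≠ l ∧ ∃ j', j' ≠ l ∧ j ≠ j' := by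
      have h2 : 1 < (Finset.univ.erase l).card := by
        rw [Finset.card_erase_of_mem (Finset.mem_univ _), Finset.card_univ, Fintype.card_fin]
        have := hp.out.two_le
        omega
      obtain ⟨a, ha, b, hb, hab⟩ := Finset.one_lt_card.1 h2
      exact ⟨a, Finset.ne_of_mem_erase ha, b, Finset.ne_of_mem_erase hb, hab⟩
    exact hne' j' hj' (mem_Mon_col hm hjj (hne' j hj))

theorem redundant (hp2 : p ≠ 2) (h1 : p ∣ Fintype.card F - 1) (h2 : ¬ p ^ 2 ∣ Fintype.card F - 1) :
    ∃ Q : Sylow p (GL (Fin p) F), ∀ x : GL (Fin p) F,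
      (∃ k : ℕ, orderOf x = p ^ k) → ∃ P : Sylow p (GL (Fin p) F), P ≠ Q ∧ x ∈ P := by
  classical
  let Q : Sylow p (GL (Fin p) F) := Sylow.ofCard (Mon F p) (by rw [card_Mon h1, valuation hp2 h1 h2])
  refine ⟨Q, fun x hx => ?_⟩
  obtain ⟨n, hn⟩ := hx
  obtain ⟨P, hP⟩ := (IsPGroup.of_card (G := Subgroup.zpowers x) (p := p) (n := n)
    (by rw [Nat.card_zpowers, hn])).exists_le_sylow
  have hxP : x ∈ P := hP (Subgroup.mem_zpowers x)
  by_cases hPQ : P = Q
  swap
  · exact ⟨P, hPQ, hxP⟩
  subst hPQ
  obtain ⟨⟨d, k⟩, rfl⟩ := hxP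
  dsimp only
  -- it suffices to find an element conjugating some element to `x` outside the normaliser
  suffices hy : ∃ (y : GL (Fin p) F) (z : GL (Fin p) F), z ∈ Mon F p ∧ y * z = monU d k * y ∧
      ∃ m ∈ Mon F p, y * m * y⁻¹ ∉ Mon F p by
    obtain ⟨y, z, hz, hc, m, hm, hym⟩ := hy
    refine ⟨y • Q, fun e => hym ?_, ?_⟩
    · exact (Subgroup.mem_normalizer_iff.1 (Sylow.smul_eq_iff_mem_normalizer.1 e) m).1 hm
    · show monU d k ∈ ((y • Q : Sylow p _) : Subgroup _)
      refine ⟨z, hz, ?_⟩
      show y * z * y⁻¹ = monU d k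
      rw [hc, mul_inv_cancel_right]
  obtain ⟨ζ, hζ⟩ : ∃ ζ : rootsOfUnity p F, ζ ≠ 1 := by
    haveI : Nontrivial (rootsOfUnity p F) := Finite.one_lt_card_iff_nontrivial.1 (by
      rw [card_roots h1]; exact hp.out.one_lt)
    exact exists_ne 1
  haveI : Nontrivial (Fin p) := Fin.nontrivial_iff_two_le.2 hp.out.two_le
  rcases eq_or_ne k 0 with rfl | hk
  · -- a diagonal element not normalising the monomial group
    by_cases hex : ∃ a : Fˣ, a ∉ rootsOfUnity p F
    swap
    · simp only [not_exists, not_not] at hex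
      by_cases hinj : Function.Injective d
      · -- all eigenvalues distinct
        obtain ⟨y, hy, m, hm, hym⟩ := exists_base_change hp2 1 (k := 1) (fun h => hp.out.one_lt.ne' (Fin.one_eq_zero_iff.1 h)) d hinj hζ (fun i => by
          rw [← exists_mulVec_eq_zero_iff]
          refine ⟨fun j => ((d i : Fˣ) : F) ^ (j : ℕ), fun e => ?_, ?_⟩
          · simpa using congrFun e 0
          · ext j
            rw [sub_mulVec, Pi.sub_apply, mulVec, mulVec, dotProduct, dotProduct,
              Finset.sum_eq_single j, Finset.sum_eq_single (j + 1)]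
            · simp only [mon, of_apply, if_true, scalar_apply, diagonal_apply_eq, Pi.one_apply, OneMemClass.coe_one,
                Units.val_one, one_mul, Pi.zero_apply]
              rw [← pow_succ', Fin.val_add, Fin.val_one', Nat.add_mod_mod, sub_eq_zero]
              refine pow_eq_pow_mod (n := p) _ ?_
              rw [← Units.val_pow_eq_pow_val, (mem_rootsOfUnity p _).1 (d i).2, Units.val_one]
            · intro b _ hb; simp [mon, hb]
            · simp
            · intro b _ hb; simp [scalar_apply, Ne.symm hb]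
            · simp)
        refine ⟨y⁻¹, monU 1 1, ⟨(1, 1), rfl⟩, ?_, ?_⟩
        · rw [eq_mul_inv_iff_mul_eq, mul_assoc, ← hy, inv_mul_cancel_left]
        · by_contra h
          simp only [not_exists, not_and, not_not, inv_inv] at h
          have hsub : ((Mon F p).map (MulAut.conj y⁻¹).toMonoidHom) = Mon F p := by
            refine Subgroup.eq_of_le_of_card_ge ?_ (Subgroup.card_map_of_injective (MulEquiv.injective _)).ge
            rintro _ ⟨w, hw, rfl⟩
            show y⁻¹ * w * y⁻¹⁻¹ ∈ Mon F p
            rw [inv_inv]; exact h w hw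
          obtain ⟨w, hw, hwe⟩ := hsub.symm ▸ hm
          apply hym
          rw [← hwe]
          show y * (y⁻¹ * w * y⁻¹⁻¹) * y⁻¹ ∈ Mon F p
          simpa [mul_assoc] using hw
      · -- a transvection
        simp only [Function.Injective, not_forall] at hinj
        obtain ⟨a, b, hab, hne⟩ := hinj
        have e1 : (1 + Matrix.single a b (1 : F)) * (1 - Matrix.single a b 1) = 1 := by
          rw [add_mul, one_mul, mul_sub, mul_one, Matrix.single_mul_single_of_ne _ _ _ _ (Ne.symm hne)]; abel
        have e2 : (1 - Matrix.single a b (1 : F)) * (1 + Matrix.single a b 1) = 1 := by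
          rw [sub_mul, one_mul, mul_add, mul_one, Matrix.single_mul_single_of_ne _ _ _ _ (Ne.symm hne)]; abel
        let y : GL (Fin p) F := ⟨_, _, e1, e2⟩
        refine ⟨y, monU d 0, ⟨(d, 0), rfl⟩, Units.ext ?_, monU (fun i => if i = a then ζ else 1) 0, ⟨(_, 0), rfl⟩, fun hm => ?_⟩
        · show (1 + Matrix.single a b (1 : F)) * mon d 0 = mon d 0 * (1 + Matrix.single a b 1)
          rw [mul_add, add_mul, one_mul, mul_one, add_right_inj]
          ext i j
          rw [mul_apply, mul_apply, Finset.sum_eq_single b, Finset.sum_eq_single a]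
          · by_cases hi : i = a <;> by_cases hj : j = b <;> simp_all [mon, Matrix.single, eq_comm]
          · intro c _ hc; simp [Matrix.single, Ne.symm hc]
          · simp
          · intro c _ hc; simp [Matrix.single, Ne.symm hc]
          · simp
        · have hg : (y * monU (fun i => if i = a then ζ else 1) 0 * y⁻¹).val = mon (fun i => if i = a then ζ else 1) 0 +
              Matrix.single a b (1 - (((ζ : Fˣ) : F))) := by
            have hA : Matrix.single a b (1 : F) * mon (fun i => if i = a then ζ else 1) 0 =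
                Matrix.single a b 1 := by
              ext i j
              rw [mul_apply, Finset.sum_eq_single b]
              · by_cases hi : i = a <;> by_cases hj : j = b <;> simp_all [mon, Matrix.single, eq_comm]
              · intro c _ hc; simp [Matrix.single, Ne.symm hc]
              · simp
            have hB : mon (fun i => if i = a then ζ else 1) 0 * Matrix.single a b (1 : F) =
                Matrix.single a b (((ζ : Fˣ) : F)) := by
              ext i j
              rw [mul_apply, Finset.sum_eq_single a]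
              · by_cases hi : i = a <;> by_cases hj : j = b <;> simp_all [mon, Matrix.single, eq_comm]
              · intro c _ hc; simp [Matrix.single, Ne.symm hc]
              · simp
            show (1 + Matrix.single a b (1 : F)) * mon _ 0 * (1 - Matrix.single a b 1) = _
            rw [add_mul, one_mul, hA, mul_sub, mul_one, add_mul, hB,
              Matrix.single_mul_single_of_ne _ _ _ _ (Ne.symm hne), add_zero,
              show Matrix.single a b (1 - (((ζ : Fˣ) : F))) = Matrix.single a b 1 - Matrix.single a b (((ζ : Fˣ) : F)) from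
                map_sub (Matrix.singleAddMonoidHom a b) _ _]
            abel
          have h1' : (y * monU (fun i => if i = a then ζ else 1) 0 * y⁻¹).val a a ≠ 0 := by
            rw [hg]; simp [mon, Ne.symm hne]
          have h2' := mem_Mon_row hm hne h1'
          rw [hg] at h2'
          simp [mon, Ne.symm hne, sub_eq_zero] at h2'
          exact hζ (Subtype.ext (Units.ext h2'.symm))
    obtain ⟨a, ha⟩ := hex
    let t : Fin p → Fˣ := fun i => if i = 0 then a else 1
    let y : GL (Fin p) F := ⟨Matrix.diagonal fun i => (t i : F), Matrix.diagonal fun i => ((t i)⁻¹ : Fˣ),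
      by simp [diagonal_mul_diagonal], by simp [diagonal_mul_diagonal]⟩
    have hy0 : (y : Matrix (Fin p) (Fin p) F) = Matrix.diagonal fun i => (t i : F) := rfl
    refine ⟨y, monU d 0, ⟨(d, 0), rfl⟩, ?_, monU 1 1, ⟨(1, 1), rfl⟩, ?_⟩
    · refine Units.ext ?_
      show Matrix.diagonal _ * mon d 0 = mon d 0 * Matrix.diagonal _
      ext i j
      rw [diagonal_mul, mul_diagonal]
      by_cases hij : j = i
      · subst hij; ring
      · simp [mon, hij]
    · rintro ⟨⟨e, l⟩, he⟩
      have h3 := congrArg (fun g : GL (Fin p) F => g.val 0 (0 + 1)) he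
      dsimp only at h3
      have h4 : (y * monU 1 1 * y⁻¹ : GL (Fin p) F).val 0 (0 + 1) = (a : F) := by
        show (((Matrix.diagonal fun i => (t i : F)) * mon 1 1 * Matrix.diagonal fun i => (((t i)⁻¹ : Fˣ) : F) : Matrix (Fin p) (Fin p) F)) 0 (0 + 1) = _
        rw [mul_diagonal, diagonal_mul]
        simp [mon, t, hp.out.ne_one]
      rw [h4] at h3
      by_cases hl : l = 1
      · subst hl
        simp only [monU, mon, of_apply, if_true] at h3
        exact ha (Units.ext h3 ▸ (e 0).2)
      · simp [monU, mon, Ne.symm hl] at h3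
        exact a.ne_zero h3.symm
  · -- a polynomial in `x`
    by_cases hμex : ∃ μ : F, μ ≠ 0 ∧ (scalar (Fin p) μ - mon d k).det ≠ 0
    swap
    · simp only [not_exists, not_and, not_not] at hμex
      let e : Fin p ≃ rootsOfUnity p F := Finite.equivFinOfCardEq (card_roots h1) |>.symm
      obtain ⟨y, hy, hm⟩ := exists_base_change hp2 d hk e e.injective hζ (fun i => hμex _ (Units.ne_zero _))
      exact ⟨y, _, ⟨(_, 0), rfl⟩, hy, hm⟩
    obtain ⟨μ, hμ, hdet⟩ := hμex
    let y : GL (Fin p) F := Matrix.GeneralLinearGroup.mkOfDetNeZero _ hdet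
    refine ⟨y, monU d k, ⟨(d, k), rfl⟩, Units.ext ?_, monU (fun i => if i = 0 then ζ else 1) 0, ⟨(_, 0), rfl⟩, ?_⟩
    · show (scalar (Fin p) μ - mon d k) * mon d k = mon d k * (scalar (Fin p) μ - mon d k)
      rw [sub_mul, mul_sub, (scalar_commute μ (fun r => mul_comm μ r) (mon d k)).eq]
    · rintro ⟨⟨e, l⟩, he⟩
      have he' : monU e l * y = y * monU (fun i => if i = 0 then ζ else 1) 0 := by
        simp only at he; rw [he, inv_mul_cancel_right]
      have hm : mon e l * (scalar (Fin p) μ - mon d k) =
          (scalar (Fin p) μ - mon d k) * mon (fun i => if i = 0 then ζ else 1) 0 := congrArg Units.val he'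
      have hR : ∀ (i j : Fin p), (mon e l * (scalar (Fin p) μ - mon d k)) i j =
          ((e i : Fˣ) : F) * (scalar (Fin p) μ - mon d k) (i + l) j := by
        intro i j
        rw [mul_apply, Finset.sum_eq_single (i + l)]
        · simp [mon]
        · intro b _ hb; simp [mon, hb]
        · simp
      have hL : ∀ (i j : Fin p), ((scalar (Fin p) μ - mon d k) * mon (fun i => if i = 0 then ζ else 1) 0) i j =
          (scalar (Fin p) μ - mon d k) i j * (((if j = 0 then ζ else 1 : rootsOfUnity p F) : Fˣ) : F) := by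
        intro i j
        rw [mul_apply, Finset.sum_eq_single j]
        · simp [mon]
        · intro b _ hb; simp [mon, Ne.symm hb]
        · simp
      have hE : ∀ i j : Fin p, ((e i : Fˣ) : F) * (scalar (Fin p) μ - mon d k) (i + l) j =
          (scalar (Fin p) μ - mon d k) i j * (((if j = 0 then ζ else 1 : rootsOfUnity p F) : Fˣ) : F) :=
        fun i j => by rw [← hR, ← hL, hm]
      have hdiag : ∀ i : Fin p, (scalar (Fin p) μ - mon d k) i i = μ := fun i => by simp [mon, hk]
      have hoff : ∀ i : Fin p, (scalar (Fin p) μ - mon d k) i (i + k) = -((d i : Fˣ) : F) := fun i => by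
        simp [mon, hk]
      have hl : l = 0 := by
        by_contra hl
        have a1 := hE 0 0
        rw [hdiag] at a1
        have b1 : l + k = 0 := by
          by_contra h
          have hz : (scalar (Fin p) μ - mon d k) (0 + l) 0 = 0 := by simp [mon, hl, Ne.symm h]
          rw [hz, mul_zero] at a1
          exact mul_ne_zero hμ (Units.ne_zero _) a1.symm
        have a2 := hE 0 (0 + k)
        rw [hoff] at a2
        have b2 : k = l := by
          by_contra h
          have hz : (scalar (Fin p) μ - mon d k) (0 + l) (0 + k) = 0 := by simp [mon, hl, Ne.symm h]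
          rw [hz, mul_zero] at a2
          exact mul_ne_zero (neg_ne_zero.2 (Units.ne_zero _)) (Units.ne_zero _) a2.symm
        subst b2
        have hv := congrArg Fin.val b1
        rw [Fin.val_add, Fin.val_zero] at hv
        have hk0 : (k : ℕ) ≠ 0 := fun h => hk (Fin.ext h)
        have := k.2
        obtain ⟨c, hc⟩ := Nat.dvd_of_mod_eq_zero hv
        obtain ⟨w, hw⟩ := hp.out.odd_of_ne_two hp2
        rcases c with _ | _ | c
        · omega
        · omega
        · rw [Nat.mul_add, Nat.mul_add] at hc; omega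
      subst hl
      have a1 := hE 0 0
      rw [add_zero, hdiag, if_pos rfl, mul_comm] at a1
      have e0 : e 0 = ζ := Subtype.ext (Units.ext (mul_left_cancel₀ hμ a1))
      have a2 := hE 0 (0 + k)
      rw [add_zero, hoff, zero_add, if_neg hk, e0] at a2
      apply hζ
      refine Subtype.ext (Units.ext (mul_right_cancel₀ (neg_ne_zero.2 (d 0 : Fˣ).ne_zero) ?_))
      rw [a2]
      simp

end Cfsg.Agent.Perm.RedundantSylowGL
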