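import Cfsg.Agent.Lib.Perm.FpfExtension

namespace Cfsg.Agent.Perm

open Matrix

variable {F : Type*} [Field F] [CharP F 2]

/-- The inclusion `SL(2,F) → M₂(F)`. -/
def slVal : SpecialLinearGroup (Fin 2) F →* Matrix (Fin 2) (Fin 2) F where
  toFun g := g.1
  map_one' := rfl
  map_mul' _ _ := rfl

theorem sl2_cayley (M : Matrix (Fin 2) (Fin 2) F) : M * M = M.trace • M + M.det • 1 := by
  ext i j
  fin_cases i <;> fin_cases j <;>
    simp [Matrix.mul_apply, Matrix.trace, Matrix.det_fin_two, Fin.sum_univ_two,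
      CharTwo.sub_eq_add] <;> ring_nf <;> simp [CharTwo.two_eq_zero]

theorem sl2_fpf (g : SpecialLinearGroup (Fin 2) F) (hodd : Odd (orderOf g))
    (v : Multiplicative (Fin 2 → F)) (hv : vecAction slVal g v = v) (hne : v ≠ 1) : g = 1 := by
  have h0 := vecAction_fixed_det slVal g v hv hne
  have hd : (g.1 : Matrix (Fin 2) (Fin 2) F).det = 1 := g.2
  have ht : (g.1 : Matrix (Fin 2) (Fin 2) F).trace = 0 := by
    change ((g.1 : Matrix (Fin 2) (Fin 2) F) - 1).det = 0 at h0
    simp [Matrix.det_fin_two] at h0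
    rw [Matrix.det_fin_two] at hd
    simp [Matrix.trace, Fin.sum_univ_two]
    linear_combination (-1 : F) * h0 + hd + (CharTwo.two_eq_zero (R := F))
  have h2 : g ^ 2 = 1 := by
    apply Subtype.ext
    change ((g ^ 2).1 : Matrix (Fin 2) (Fin 2) F) = 1
    rw [pow_two]
    change g.1 * g.1 = 1
    rw [sl2_cayley, ht, hd, zero_smul, zero_add, one_smul]
  rw [← orderOf_eq_one_iff]
  rcases (Nat.dvd_prime Nat.prime_two).1 (orderOf_dvd_of_pow_eq_one h2) with h | h
  · exact h
  · rw [h] at hodd; exact absurd hodd (by decide)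

/-- Unipotent element of order 2. -/
theorem two_dvd_card_sl2 [Finite F] : 2 ∣ Nat.card (SpecialLinearGroup (Fin 2) F) := by
  let u : SpecialLinearGroup (Fin 2) F := ⟨!![1, 1; 0, 1], by simp [Matrix.det_fin_two]⟩
  have h : orderOf u = 2 := by
    apply orderOf_eq_prime
    · apply Subtype.ext
      rw [pow_two]
      show (!![1, 1; 0, 1] : Matrix (Fin 2) (Fin 2) F) * !![1, 1; 0, 1] = 1
      ext i j
      fin_cases i <;> fin_cases j <;>
        simp [Matrix.mul_apply, Fin.sum_univ_two, CharTwo.add_self_eq_zero]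
    · intro h
      have := congrArg (fun g : SpecialLinearGroup (Fin 2) F => g.1 0 1) h
      simp [u] at this
  exact (dvd_of_eq h.symm).trans (orderOf_dvd_natCard u)

theorem center_sl2_char_two : Subgroup.center (SpecialLinearGroup (Fin 2) F) = ⊥ := by
  rw [eq_bot_iff]
  intro g hg
  rw [Matrix.SpecialLinearGroup.mem_center_iff] at hg
  obtain ⟨r, hr, hrg⟩ := hg
  simp only [Fintype.card_fin] at hr
  have h1 : r = 1 := by
    have h2 : (r + 1) * (r + 1) = 0 := by
      linear_combination hr + (r + 1) * (CharTwo.two_eq_zero (R := F))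
    exact CharTwo.add_eq_zero.1 (mul_self_eq_zero.1 h2)
  rw [Subgroup.mem_bot]
  apply Subtype.ext
  rw [← hrg, h1, map_one]
  rfl

/-- `PSL(2,F) ≅ SL(2,F)` in characteristic 2. -/
noncomputable def pslEquiv :
    ProjectiveSpecialLinearGroup (Fin 2) F ≃* SpecialLinearGroup (Fin 2) F :=
  (QuotientGroup.quotientMulEquivOfEq center_sl2_char_two).trans QuotientGroup.quotientBot

end Cfsg.Agent.Perm
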