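import Cfsg.Agent.Lib.Perm.Frobenius
import Mathlib.GroupTheory.SemidirectProduct

/-! Fixed-point-free semidirect products are Frobenius groups. -/

namespace Cfsg.Agent.Perm

open Subgroup

theorem exists_frobenius_of_fpf_action {N H : Type} [Group N] [Finite N] [Nontrivial N] [Group H]
    [Finite H] [Nontrivial H] (φ : H →* MulAut N)
    (hfpf : ∀ (h : H) (n : N), φ h n = n → h = 1 ∨ n = 1) :
    ∃ (L : Type) (_ : Group L) (_ : Finite L) (K : Subgroup L),
      Cfsg.IsFrobeniusComplement K ∧ Nonempty (H ≃* K) := by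
  have : Finite (N ⋊[φ] H) := Finite.of_equiv _ SemidirectProduct.equivProd.symm
  refine ⟨N ⋊[φ] H, inferInstance, this, (SemidirectProduct.inr : H →* N ⋊[φ] H).range, ?_,
    ⟨MonoidHom.ofInjective SemidirectProduct.inr_injective⟩⟩
  haveI : (SemidirectProduct.inl : N →* N ⋊[φ] H).range.Normal := by
    rw [SemidirectProduct.range_inl_eq_ker_rightHom]; infer_instance
  refine (isFrobeniusComplement_of_fpf (SemidirectProduct.inl : N →* N ⋊[φ] H).range _ ?_ ?_ ?_ ?_).1
  · rw [eq_top_iff]
    intro x _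
    rw [← SemidirectProduct.inl_left_mul_inr_right x]
    exact mul_mem_sup ⟨_, rfl⟩ ⟨_, rfl⟩
  · intro h
    obtain ⟨n, hn⟩ := exists_ne (1 : N)
    have : (SemidirectProduct.inl n : N ⋊[φ] H) ∈ (SemidirectProduct.inl : N →* N ⋊[φ] H).range :=
      ⟨n, rfl⟩
    rw [h, mem_bot, ← map_one SemidirectProduct.inl] at this
    exact hn (SemidirectProduct.inl_injective this)
  · intro h
    obtain ⟨n, hn⟩ := exists_ne (1 : H)
    have : (SemidirectProduct.inr n : N ⋊[φ] H) ∈ (SemidirectProduct.inr : H →* N ⋊[φ] H).range :=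
      ⟨n, rfl⟩
    rw [h, mem_bot, ← map_one SemidirectProduct.inr] at this
    exact hn (SemidirectProduct.inr_injective this)
  · rintro _ ⟨h, rfl⟩ _ ⟨n, rfl⟩ hc
    have : φ h n = n := by
      have := congrArg SemidirectProduct.left hc.eq
      simpa using this
    rcases hfpf h n this with e | e
    · exact Or.inl (by rw [e, map_one])
    · exact Or.inr (by rw [e, map_one])

end Cfsg.Agent.Perm
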