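import Cfsg.Agent.Lib.Perm.SharplyMultiple
import Mathlib

/-!
Simplicity of the sharply four-transitive groups of degree eleven and the sharply five-transitive
groups of degree twelve.
-/

set_option autoImplicit false
set_option linter.style.haveILetI false

namespace Cfsg.Agent.SharpMult

open MulAction

theorem Sharp.card {G : Type*} [Group G] {Ω : Type*} [MulAction G Ω] [Fintype Ω] {k : ℕ} (h : Sharp G Ω k)
    (e : Fin k ↪ Ω) : Nat.card G = Nat.descFactorial (Fintype.card Ω) k := by
  classical
  have hb : Function.Bijective fun g : G => g • e := by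
    constructor
    · intro g g' hgg
      have : g'⁻¹ * g ∈ stabilizer G e := by
        rw [mem_stabilizer_iff, mul_smul]
        exact inv_smul_eq_iff.2 hgg
      rw [h.uniq] at this
      exact (inv_mul_eq_one.1 (Subgroup.mem_bot.1 this)).symm
    · exact h.trans.exists_smul_eq e
  rw [Nat.card_eq_of_bijective _ hb, Nat.card_eq_fintype_card, Fintype.card_embedding_eq, Fintype.card_fin]

theorem Sharp.image {G : Type*} [Group G] {Ω : Type*} [MulAction G Ω] {k : ℕ} (h : Sharp G Ω k) :
    Sharp (toPermHom G Ω).range Ω k := by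
  refine ⟨⟨fun x y => ?_⟩, fun x => ?_⟩
  · obtain ⟨g, hg⟩ := h.trans.exists_smul_eq x y
    exact ⟨⟨_, g, rfl⟩, DFunLike.ext _ _ fun i => DFunLike.congr_fun hg i⟩
  · rw [Subgroup.eq_bot_iff_forall]
    rintro ⟨_, g, rfl⟩ hg
    rw [mem_stabilizer_iff] at hg
    apply Subtype.ext
    have : g = 1 := h.eq_one x x.injective fun i => DFunLike.congr_fun hg i
    show toPermHom G Ω g = 1
    rw [this, map_one]

variable {α : Type*} [Fintype α] [DecidableEq α]

/-- The normaliser of a Sylow subgroup in prime degree. -/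
theorem card_normalizer_dvd {p : ℕ} [Fact p.Prime] (hα : Fintype.card α = p) (G : Subgroup (Equiv.Perm α))
    (P : Sylow p G) (hP : Nat.card (P : Subgroup G) = p) :
    Nat.card (Subgroup.normalizer ((P : Subgroup G) : Set G)) ∣ p * (p - 1) := by
  have hp := (Fact.out : p.Prime)
  obtain ⟨a⟩ : Nonempty α := Fintype.card_pos_iff.1 (by rw [hα]; exact hp.pos)
  haveI : IsCyclic (P : Subgroup G) := isCyclic_of_prime_card (p := p) hP
  set N := Subgroup.normalizer ((P : Subgroup G) : Set G) with hNdef
  have hPtr : ∀ c d : α, ∃ u ∈ (P : Subgroup G), (u : Equiv.Perm α) c = d := by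
    obtain ⟨u, hu⟩ := IsCyclic.exists_generator (α := (P : Subgroup G))
    have hord : orderOf ((u : G) : Equiv.Perm α) = p := by
      rw [Subgroup.orderOf_coe, Subgroup.orderOf_coe, orderOf_eq_card_of_forall_mem_zpowers hu, hP]
    have hcyc : ((u : G) : Equiv.Perm α).IsCycle := by
      refine Equiv.Perm.isCycle_of_prime_order (by rw [hord]; exact hp) ?_
      rw [hord]
      exact lt_of_le_of_lt (Finset.card_le_univ _) (by rw [hα]; have := hp.pos; omega)
    have hsup : ((u : G) : Equiv.Perm α).support = Finset.univ :=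
      Finset.eq_univ_of_card _ (by rw [← hcyc.orderOf, hord, hα])
    intro c d
    obtain ⟨i, hi⟩ := hcyc.sameCycle (Equiv.Perm.mem_support.1 (hsup ▸ Finset.mem_univ c))
      (Equiv.Perm.mem_support.1 (hsup ▸ Finset.mem_univ d))
    exact ⟨((u : (P : Subgroup G)) ^ i : (P : Subgroup G)), SetLike.coe_mem _, by simpa using hi⟩
  let ψ : N →* MulAut (P : Subgroup G) := (P : Subgroup G).normalizerMonoidHom
  have hker : ψ.ker.map N.subtype ≤ (P : Subgroup G) := by
    rintro _ ⟨g, hg, rfl⟩
    rw [SetLike.mem_coe, Subgroup.normalizerMonoidHom_ker] at hg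
    have hg' : ∀ u ∈ (P : Subgroup G), u * (g : G) = g * u :=
      Subgroup.mem_centralizer_iff.1 (Subgroup.mem_subgroupOf.1 hg)
    obtain ⟨u, hu, hua⟩ := hPtr a (((g : G) : Equiv.Perm α) a)
    have : (g : G) = u := by
      refine Subtype.ext (Equiv.ext fun y => ?_)
      obtain ⟨v, hv, rfl⟩ := hPtr a y
      have e1 := congrArg (fun z : G => (z : Equiv.Perm α) a) (hg' v hv)
      simp only [Subgroup.coe_mul, Equiv.Perm.mul_apply] at e1
      have hc : v * u = u * v :=
        congrArg Subtype.val (IsCyclic.commGroup.mul_comm (⟨v, hv⟩ : (P : Subgroup G)) ⟨u, hu⟩)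
      have e2 := congrArg (fun z : G => (z : Equiv.Perm α) a) hc
      simp only [Subgroup.coe_mul, Equiv.Perm.mul_apply] at e2
      rw [← e1, ← hua, e2]
    show (g : G) ∈ _
    rw [this]; exact hu
  have hkc : Nat.card ψ.ker ∣ p := by
    have hle := Subgroup.card_dvd_of_le hker
    rwa [hP, ← Nat.card_congr (ψ.ker.equivMapOfInjective N.subtype N.subtype_injective).toEquiv] at hle
  have haut : Nat.card (MulAut (P : Subgroup G)) = p - 1 := by
    rw [IsCyclic.card_mulAut, hP, Nat.totient_prime hp]
  rw [← ψ.ker.card_mul_index, Subgroup.index_ker]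
  exact Nat.mul_dvd_mul hkc (haut ▸ Subgroup.card_subgroup_dvd_card ψ.range)

/-- Sharply four-transitive groups of degree eleven are simple. -/
theorem simple_eleven (hα : Fintype.card α = 11) (G : Subgroup (Equiv.Perm α)) (h : Sharp G α 4) :
    IsSimpleGroup G ∧ Nat.card G = 7920 := by
  classical
  haveI : Fact (Nat.Prime 11) := ⟨by norm_num⟩
  obtain ⟨e⟩ : Nonempty (Fin 4 ↪ α) := Function.Embedding.nonempty_of_card_le (by simp [hα])
  have hG : Nat.card G = 7920 := by rw [h.card e, hα]; rfl
  have hprim : IsPreprimitive G α := by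
    haveI := h.trans
    exact isPreprimitive_of_is_two_pretransitive (isMultiplyPretransitive_of_le' (n := 4) (by norm_num)
      (by rw [← Nat.cast_ofNat, ENat.card_eq_coe_natCard, Nat.card_eq_fintype_card, hα]
          exact_mod_cast (by norm_num : (4 : ℕ) ≤ 11)))
  haveI := hprim
  have hP : ∀ P : Sylow 11 G, Nat.card (P : Subgroup G) = 11 := fun P => by
    rw [P.card_eq_multiplicity, hG]
    have : (7920 : ℕ).factorization 11 = 1 := by
      rw [Nat.factorization_def _ (by norm_num)]
      haveI : Fact (Nat.Prime 11) := ⟨by norm_num⟩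
      rw [show (7920 : ℕ) = 11 * 720 from rfl, padicValNat.mul (by norm_num) (by norm_num), padicValNat_self,
        padicValNat.eq_zero_of_not_dvd (by norm_num)]
    rw [this, pow_one]
  have hNs : ∀ P : Sylow 11 G, Nat.card (Subgroup.normalizer ((P : Subgroup G) : Set G)) = 55 ∧
      Nat.card (Sylow 11 G) = 144 := by
    intro P
    have h1 := card_normalizer_dvd hα G P (hP P)
    have h2 : Nat.card (Sylow 11 G) * Nat.card (Subgroup.normalizer ((P : Subgroup G) : Set G)) = Nat.card G := by
      rw [Sylow.card_eq_index_normalizer P, mul_comm]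
      exact Subgroup.card_mul_index _
    have h3 : 11 ∣ Nat.card (Subgroup.normalizer ((P : Subgroup G) : Set G)) := by
      have := Subgroup.card_dvd_of_le (Subgroup.le_normalizer (H := (P : Subgroup G)))
      rwa [hP P] at this
    have hmod : Nat.card (Sylow 11 G) % 11 = 1 := card_sylow_modEq_one 11 G
    rw [hG] at h2
    generalize Nat.card (Subgroup.normalizer ((P : Subgroup G) : Set G)) = c at *
    generalize Nat.card (Sylow 11 G) = s at *
    obtain ⟨d, rfl⟩ := h3
    have hd : d ∣ 10 := Nat.dvd_of_mul_dvd_mul_left (by norm_num : 0 < 11) (by simpa using h1)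
    have hd10 : d ≤ 10 := Nat.le_of_dvd (by norm_num) hd
    interval_cases d <;> omega
  haveI : Nontrivial G := Finite.one_lt_card_iff_nontrivial.1 (by omega)
  refine ⟨⟨fun K hK => ?_⟩, hG⟩
  by_contra hcon
  push Not at hcon
  obtain ⟨hK0, hKtop⟩ := hcon
  have htrans : ∀ M : Subgroup G, M.Normal → M ≠ ⊥ → 11 ∣ Nat.card M := by
    intro M hM hM0
    haveI : IsPretransitive M α := by
      refine IsQuasiPreprimitive.isPretransitive_of_normal (G := G) fun hfix => hM0 ?_
      rw [Subgroup.eq_bot_iff_forall]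
      intro g hg
      refine Subtype.ext (Equiv.ext fun y => ?_)
      exact (Set.eq_univ_iff_forall.1 hfix y : _) ⟨g, hg⟩
    obtain ⟨a⟩ : Nonempty α := Fintype.card_pos_iff.1 (by omega)
    have := Subgroup.index_dvd_card (stabilizer M a)
    rwa [MulAction.index_stabilizer_of_transitive M a, Nat.card_eq_fintype_card, hα] at this
  have h11K := htrans K hK hK0
  obtain ⟨R⟩ := (inferInstance : Nonempty (Sylow 11 K))
  obtain ⟨Q, hQ⟩ := IsPGroup.exists_le_sylow (R.2.map K.subtype)
  set R' : Subgroup G := (R : Subgroup K).map K.subtype with hR'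
  have hR'c : Nat.card R' = Nat.card (R : Subgroup K) :=
    (Nat.card_congr ((R : Subgroup K).equivMapOfInjective K.subtype K.subtype_injective).toEquiv).symm
  have hRc : Nat.card (R : Subgroup K) = 11 := by
    refine Nat.dvd_antisymm ?_ (by simpa using R.pow_dvd_card_of_pow_dvd_card (n := 1) (by simpa using h11K))
    have hle := Subgroup.card_dvd_of_le hQ
    rwa [hP Q, hR'c] at hle
  have hQK : (Q : Subgroup G) ≤ K := by
    rw [← Subgroup.eq_of_le_of_card_ge hQ (by rw [hP Q, hR'c, hRc])]
    exact Subgroup.map_subtype_le _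
  have hall : ∀ Q' : Sylow 11 G, (Q' : Subgroup G) ≤ K := by
    intro Q'
    obtain ⟨g, rfl⟩ := MulAction.exists_smul_eq G Q Q'
    rw [Sylow.coe_subgroup_smul]
    intro z hz
    rw [Subgroup.mem_pointwise_smul_iff_inv_smul_mem, ← map_inv, MulAut.smul_def, MulAut.conj_apply, inv_inv] at hz
    have := hK.conj_mem _ (hQK hz) g
    simpa [mul_assoc] using this
  have hsK : 144 ≤ Nat.card (Sylow 11 K) := by
    rw [← (hNs Q).2]
    exact Nat.card_le_card_of_injective (fun Q' => Q'.subtype (hall Q')) fun Q' Q'' e => Sylow.subtype_injective e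
  -- the normaliser in `K`
  set NR := Subgroup.normalizer ((R : Subgroup K) : Set K) with hNR
  have hNRle : NR.map K.subtype ≤ Subgroup.normalizer ((Q : Subgroup G) : Set G) := by
    refine (Subgroup.le_normalizer_map K.subtype).trans (le_of_eq ?_)
    rw [← hR', Subgroup.eq_of_le_of_card_ge hQ (by rw [hP Q, hR'c, hRc])]
  have hNRd : Nat.card NR ∣ 55 := by
    have hle := Subgroup.card_dvd_of_le hNRle
    rwa [(hNs Q).1, ← Nat.card_congr (NR.equivMapOfInjective K.subtype K.subtype_injective).toEquiv] at hle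
  have hKeq : Nat.card (Sylow 11 K) * Nat.card NR = Nat.card K := by
    rw [Sylow.card_eq_index_normalizer R, mul_comm]
    exact Subgroup.card_mul_index _
  have hKlt : Nat.card K < 7920 := by
    have hle : Nat.card K ≤ 7920 := hG ▸ Nat.card_le_card_of_injective _ K.subtype_injective
    rcases hle.lt_or_eq with h' | h'
    · exact h'
    · exact absurd (Subgroup.eq_top_of_card_eq K (h'.trans hG.symm)) hKtop
  have hR11 : 11 ∣ Nat.card NR := by
    have := Subgroup.card_dvd_of_le (Subgroup.le_normalizer (H := (R : Subgroup K)))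
    rwa [hRc] at this
  have hNR11 : Nat.card NR = 11 := by
    obtain ⟨d, hd⟩ := hR11
    rw [hd] at hNRd hKeq ⊢
    have : d ∣ 5 := Nat.dvd_of_mul_dvd_mul_left (by norm_num : 0 < 11) (by simpa using hNRd)
    rcases (Nat.dvd_prime (by norm_num : Nat.Prime 5)).1 this with rfl | rfl
    · rfl
    · exfalso; nlinarith
  -- the normal complement
  have hNReq : (R : Subgroup K) = NR :=
    Subgroup.eq_of_le_of_card_ge Subgroup.le_normalizer (by rw [hNR11, hRc])
  haveI : IsCyclic (R : Subgroup K) := isCyclic_of_prime_card (p := 11) hRc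
  have hcent : Subgroup.normalizer ((R : Subgroup K) : Set K) ≤ Subgroup.centralizer ((R : Subgroup K) : Set K) := by
    intro x hx
    rw [← hNR, ← hNReq] at hx
    exact Subgroup.mem_centralizer_iff.2 fun y hy =>
      congrArg Subtype.val (IsCyclic.commGroup.mul_comm (⟨y, hy⟩ : (R : Subgroup K)) ⟨x, hx⟩)
  set M := (MonoidHom.transferSylow R hcent).ker with hM
  have hcompl := MonoidHom.ker_transferSylow_isComplement' R hcent
  have hMidx : M.index = 11 := by rw [Subgroup.IsComplement'.index_eq_card hcompl.symm, hRc]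
  have hMc : Nat.card M * 11 = Nat.card K := by rw [← hMidx]; exact M.card_mul_index
  have hMmem : ∀ z : K, z ∈ M ↔ z ^ Nat.card M = 1 := by
    intro z
    refine ⟨fun hz => congrArg Subtype.val (pow_card_eq_one' (x := (⟨z, hz⟩ : M))), fun hz => ?_⟩
    haveI : M.Normal := MonoidHom.normal_ker _
    rw [← QuotientGroup.eq_one_iff]
    have h1 : (z : K ⧸ M) ^ Nat.card M = 1 := by rw [← QuotientGroup.mk_pow, hz, QuotientGroup.mk_one]
    have h2 : (z : K ⧸ M) ^ 11 = 1 := by rw [← hMidx, Subgroup.index_eq_card]; exact pow_card_eq_one'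
    have hco : Nat.Coprime (Nat.card M) 11 := by
      rw [Nat.coprime_comm, Nat.Prime.coprime_iff_not_dvd (by norm_num)]
      intro hd
      have h121 : 121 ∣ Nat.card G := by
        refine Dvd.dvd.trans ?_ (Subgroup.card_subgroup_dvd_card K)
        rw [← hMc]
        exact Nat.mul_dvd_mul hd dvd_rfl
      rw [hG] at h121
      norm_num at h121
    have := pow_gcd_eq_one.2 ⟨h1, h2⟩
    rwa [Nat.Coprime.gcd_eq_one hco, pow_one] at this
  let M' : Subgroup G := M.map K.subtype
  have hM'n : M'.Normal := by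
    refine ⟨?_⟩
    rintro _ ⟨z, hz, rfl⟩ g
    refine ⟨⟨g * z * g⁻¹, hK.conj_mem _ z.2 g⟩, ?_, rfl⟩
    rw [SetLike.mem_coe, hMmem] at hz ⊢
    apply Subtype.ext
    simp only [SubmonoidClass.coe_pow, conj_pow, OneMemClass.coe_one]
    rw [show ((z : G)) ^ Nat.card M = 1 from congrArg Subtype.val hz, mul_one, mul_inv_cancel]
  have hM'c : Nat.card M' = Nat.card M :=
    (Nat.card_congr (M.equivMapOfInjective K.subtype K.subtype_injective).toEquiv).symm
  have hM'0 : M' ≠ ⊥ := by
    intro h0
    rw [h0, Subgroup.card_bot] at hM'c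
    rw [← hM'c] at hMc
    nlinarith
  have h11M := htrans M' hM'n hM'0
  rw [hM'c] at h11M
  have h121 : 121 ∣ Nat.card G := by
    refine Dvd.dvd.trans ?_ (Subgroup.card_subgroup_dvd_card K)
    rw [← hMc]
    exact Nat.mul_dvd_mul h11M dvd_rfl
  rw [hG] at h121
  norm_num at h121

/-- Sharply five-transitive groups of degree twelve are simple. -/
theorem simple_twelve (hα : Fintype.card α = 12) (G : Subgroup (Equiv.Perm α)) (h : Sharp G α 5) :
    IsSimpleGroup G ∧ Nat.card G = 95040 := by
  classical
  obtain ⟨e⟩ : Nonempty (Fin 5 ↪ α) := Function.Embedding.nonempty_of_card_le (by simp [hα])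
  have hG : Nat.card G = 95040 := by rw [h.card e, hα]; rfl
  obtain ⟨a⟩ : Nonempty α := Fintype.card_pos_iff.1 (by omega)
  haveI := h.trans
  have h12 : (12 : ℕ∞) = ENat.card α := by
    rw [ENat.card_eq_coe_natCard, Nat.card_eq_fintype_card, hα]; rfl
  have h2 : IsMultiplyPretransitive G α 2 := isMultiplyPretransitive_of_le' (n := 5) (by norm_num)
    (by rw [← h12]; norm_num)
  haveI hprim : IsPreprimitive G α := isPreprimitive_of_is_two_pretransitive h2
  haveI : IsPretransitive G α := hprim.toIsPretransitive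
  -- the point stabiliser is simple
  set Ω' := SubMulAction.ofStabilizer G a with hΩ'
  haveI : Fintype Ω' := Fintype.ofFinite _
  have hs := h.stab a
  have hΩc : Fintype.card Ω' = 11 := by
    have hc : Nat.card Ω' + 1 = Nat.card α := card_ofStabilizer (G := G) a
    rw [Nat.card_eq_fintype_card, Nat.card_eq_fintype_card (α := α), hα] at hc
    omega
  obtain ⟨hSsimple, -⟩ := simple_eleven hΩc (toPermHom (stabilizer G a) Ω').range hs.image
  have hfaith : Function.Injective (toPermHom (stabilizer G a) Ω') := (injective_iff_map_eq_one _).2 fun g hg => by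
    obtain ⟨e'⟩ : Nonempty (Fin 4 ↪ Ω') := Function.Embedding.nonempty_of_card_le (by simp [hΩc])
    exact hs.faithful ⟨e'⟩ fun x => Equiv.ext_iff.1 hg x
  haveI : IsSimpleGroup (stabilizer G a) := by
    haveI := hSsimple
    haveI : Nontrivial (stabilizer G a) := (MonoidHom.ofInjective hfaith).toEquiv.nontrivial
    exact IsSimpleGroup.isSimpleGroup_of_surjective (MonoidHom.ofInjective hfaith).symm.toMonoidHom
      (MonoidHom.ofInjective hfaith).symm.surjective
  haveI : Nontrivial G := Finite.one_lt_card_iff_nontrivial.1 (by omega)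
  refine ⟨⟨fun K hK => ?_⟩, hG⟩
  by_contra hcon
  push Not at hcon
  obtain ⟨hK0, hKtop⟩ := hcon
  haveI hKtr : IsPretransitive K α := by
    refine IsQuasiPreprimitive.isPretransitive_of_normal (G := G) fun hfix => hK0 ?_
    rw [Subgroup.eq_bot_iff_forall]
    intro g hg
    refine Subtype.ext (Equiv.ext fun y => ?_)
    exact (Set.eq_univ_iff_forall.1 hfix y : _) ⟨g, hg⟩
  haveI : (K.subgroupOf (stabilizer G a)).Normal := hK.subgroupOf _
  rcases IsSimpleGroup.eq_bot_or_eq_top_of_normal (K.subgroupOf (stabilizer G a)) inferInstance with hb | ht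
  · -- the regular case
    have hfree : ∀ k ∈ K, k • a = a → k = 1 := fun k hk hka => by
      have hm : (⟨k, mem_stabilizer_iff.2 hka⟩ : stabilizer G a) ∈ K.subgroupOf (stabilizer G a) := hk
      rw [hb, Subgroup.mem_bot] at hm
      exact congrArg Subtype.val hm
    have hinj : ∀ x y : K, (x : G) • a = (y : G) • a → x = y := fun x y e => by
      have := hfree _ (mul_mem (inv_mem y.2) x.2) (by rw [mul_smul, e, inv_smul_smul])
      exact Subtype.ext (inv_mul_eq_one.1 this).symm
    have hKc : Nat.card K = 12 := by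
      rw [← hα, ← Nat.card_eq_fintype_card]
      exact Nat.card_eq_of_bijective (fun x : K => (x : G) • a) ⟨fun x y => hinj x y, fun y => exists_smul_eq K a y⟩
    -- all non-identity elements of `K` have the same order
    have hsame : ∀ x y : K, x ≠ 1 → y ≠ 1 → orderOf x = orderOf y := by
      intro x y hx hy
      have hxa : (x : G) • a ≠ a := fun e => hx (Subtype.ext (hfree _ x.2 e))
      have hya : (y : G) • a ≠ a := fun e => hy (Subtype.ext (hfree _ y.2 e))
      obtain ⟨g, hga, hgx⟩ := is_two_pretransitive_iff.1 h2 (Ne.symm hxa) (Ne.symm hya)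
      have hconj : (⟨g * x * g⁻¹, hK.conj_mem _ x.2 g⟩ : K) = y := by
        refine hinj _ _ ?_
        show (g * (x : G) * g⁻¹) • a = (y : G) • a
        rw [mul_smul, mul_smul, inv_smul_eq_iff.2 hga.symm, hgx]
      rw [← hconj]
      exact (Subgroup.orderOf_coe x).symm.trans
        ((MulEquiv.orderOf_eq (MulAut.conj g) (x : G)).symm.trans (Subgroup.orderOf_coe (⟨g * x * g⁻¹, hK.conj_mem _ x.2 g⟩ : K)))
    haveI : Fact (Nat.Prime 2) := ⟨Nat.prime_two⟩
    haveI : Fact (Nat.Prime 3) := ⟨Nat.prime_three⟩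
    obtain ⟨x, hx⟩ := exists_prime_orderOf_dvd_card' (G := K) 2 (by rw [hKc]; norm_num)
    obtain ⟨y, hy⟩ := exists_prime_orderOf_dvd_card' (G := K) 3 (by rw [hKc]; norm_num)
    have := hsame x y (fun e => by rw [e, orderOf_one] at hx; omega) (fun e => by rw [e, orderOf_one] at hy; omega)
    omega
  · rw [Subgroup.subgroupOf_eq_top] at ht
    apply hKtop
    rw [eq_top_iff]
    intro g _
    obtain ⟨k, hk⟩ := exists_smul_eq K a (g • a)
    have : (k : G)⁻¹ * g ∈ stabilizer G a := by
      rw [mem_stabilizer_iff, mul_smul, inv_smul_eq_iff]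
      exact hk.symm
    have := mul_mem k.2 (ht this)
    rwa [mul_inv_cancel_left] at this

end Cfsg.Agent.SharpMult
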