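import Mathlib.GroupTheory.GroupAction.MultipleTransitivity
import Mathlib.GroupTheory.SpecificGroups.Alternating.Simple
import Mathlib.GroupTheory.Perm.Cycle.Type
import Mathlib.Data.Fintype.CardEmbedding

/-!
Sharply multiply transitive actions: the argument of Tits for degree four and the resulting
bounds on the degree.
-/

set_option autoImplicit false

namespace Cfsg.Agent.SharpMult

open MulAction

/-- The data of a sharply `k`-transitive action. -/
structure Sharp (G : Type*) [Group G] (Ω : Type*) [MulAction G Ω] (k : ℕ) : Prop where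
  trans : IsMultiplyPretransitive G Ω k
  uniq : ∀ x : Fin k ↪ Ω, stabilizer G x = ⊥

variable {G : Type*} [Group G] {Ω : Type*} [MulAction G Ω]

theorem Sharp.exists_smul {k : ℕ} (h : Sharp G Ω k) (x y : Fin k → Ω) (hx : Function.Injective x)
    (hy : Function.Injective y) : ∃ g : G, ∀ i, g • x i = y i := by
  obtain ⟨g, hg⟩ := h.trans.exists_smul_eq ⟨x, hx⟩ ⟨y, hy⟩
  exact ⟨g, fun i => DFunLike.congr_fun hg i⟩

theorem Sharp.eq_one {k : ℕ} (h : Sharp G Ω k) (x : Fin k → Ω) (hx : Function.Injective x) {g : G}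
    (hg : ∀ i, g • x i = x i) : g = 1 := by
  have : g ∈ stabilizer G (⟨x, hx⟩ : Fin k ↪ Ω) := by
    rw [mem_stabilizer_iff]
    ext i
    exact hg i
  rw [h.uniq] at this
  exact Subgroup.mem_bot.1 this

theorem inj_four {a b c d : Ω} (hab : a ≠ b) (hac : a ≠ c) (had : a ≠ d) (hbc : b ≠ c) (hbd : b ≠ d)
    (hcd : c ≠ d) : Function.Injective ![a, b, c, d] := by
  intro i j
  fin_cases i <;> fin_cases j <;> simp_all [eq_comm]

theorem Sharp.tr4 (h : Sharp G Ω 4) {a b c d a' b' c' d' : Ω}
    (hx : Function.Injective ![a, b, c, d]) (hy : Function.Injective ![a', b', c', d']) :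
    ∃ g : G, g • a = a' ∧ g • b = b' ∧ g • c = c' ∧ g • d = d' := by
  obtain ⟨g, hg⟩ := h.exists_smul _ _ hx hy
  exact ⟨g, hg 0, hg 1, hg 2, hg 3⟩

theorem Sharp.uq4 (h : Sharp G Ω 4) {a b c d : Ω} (hx : Function.Injective ![a, b, c, d]) {g : G}
    (h1 : g • a = a) (h2 : g • b = b) (h3 : g • c = c) (h4 : g • d = d) : g = 1 :=
  h.eq_one _ hx fun i => by fin_cases i <;> assumption

theorem even_card_of_involutive {R : Type*} [Finite R] (f : Equiv.Perm R) (hf : ∀ x, f (f x) = x)
    (hfix : ∀ x, f x ≠ x) : Even (Nat.card R) := by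
  classical
  haveI := Fintype.ofFinite R
  haveI : Fact (Nat.Prime 2) := ⟨Nat.prime_two⟩
  have h2 : f ^ 2 ^ 1 = 1 := Equiv.ext fun x => by rw [pow_one, pow_two]; exact hf x
  have h := Equiv.Perm.card_fixedPoints_modEq (p := 2) (n := 1) (f := (f : R → R)) (by
    funext x; rw [pow_one]; exact hf x)
  haveI : IsEmpty (Function.fixedPoints (f : R → R)) := ⟨fun x => hfix x.1 x.2⟩
  rw [Fintype.card_eq_zero (α := Function.fixedPoints (f : R → R))] at h
  rw [Nat.card_eq_fintype_card, even_iff_two_dvd, ← Nat.modEq_zero_iff_dvd]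
  first | exact h | exact h.symm

/-- Tits' argument. -/
theorem degree_four (h : Sharp G Ω 4) (hne : Nonempty (Fin 4 ↪ Ω)) :
    Finite Ω ∧ (Nat.card Ω = 4 ∨ Nat.card Ω = 5 ∨ Nat.card Ω = 6 ∨ Nat.card Ω = 7 ∨ Nat.card Ω = 11) := by
  classical
  obtain ⟨e⟩ := hne
  set a := e 0
  set b := e 1
  set c := e 2
  set d := e 3
  have hne' : ∀ {i j : Fin 4}, i ≠ j → e i ≠ e j := fun hij heq => hij (e.injective heq)
  have hab : a ≠ b := hne' (by decide)
  have hac : a ≠ c := hne' (by decide)
  have had : a ≠ d := hne' (by decide)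
  have hbc : b ≠ c := hne' (by decide)
  have hbd : b ≠ d := hne' (by decide)
  have hcd : c ≠ d := hne' (by decide)
  have hx := inj_four hab hac had hbc hbd hcd
  -- the involution interchanging `a`, `b` and fixing `c`, `d`
  obtain ⟨u, hua, hub, huc, hud⟩ := h.tr4 hx (inj_four hab.symm hbc hbd hac had hcd)
  have huu : ∀ x : Ω, u • u • x = x := by
    have : u * u = 1 := h.uq4 hx (by rw [mul_smul, hua, hub]) (by rw [mul_smul, hub, hua])
      (by rw [mul_smul, huc, huc]) (by rw [mul_smul, hud, hud])
    intro x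
    rw [← mul_smul, this, one_smul]
  have hu1 : u ≠ 1 := fun e => hab (by rw [← hua, e, one_smul])
  -- its fixed points
  let F : Set Ω := {x | u • x = x}
  obtain ⟨S, hS, hScard⟩ : ∃ S : Finset Ω, F = ↑S ∧ (S.card = 2 ∨ S.card = 3) := by
    by_cases hc' : ∃ x, u • x = x ∧ x ≠ c ∧ x ≠ d
    · obtain ⟨x, hxf, hxc, hxd⟩ := hc'
      refine ⟨{c, d, x}, ?_, Or.inr ?_⟩
      · ext y
        simp only [F, Set.mem_ofPred_eq, Finset.coe_insert, Finset.coe_singleton, Set.mem_insert_iff,
          Set.mem_singleton_iff]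
        constructor
        · intro hy
          by_contra hcon
          push Not at hcon
          exact hu1 (h.uq4 (inj_four hcd hxc.symm hcon.1.symm hxd.symm hcon.2.1.symm hcon.2.2.symm) huc hud hxf hy)
        · rintro (rfl | rfl | rfl) <;> assumption
      · rw [Finset.card_insert_of_notMem (by simp [hcd, hxc.symm]), Finset.card_pair hxd.symm]
    · push Not at hc'
      refine ⟨{c, d}, ?_, Or.inl (Finset.card_pair hcd)⟩
      ext y
      simp only [F, Set.mem_ofPred_eq, Finset.coe_insert, Finset.coe_singleton, Set.mem_insert_iff,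
        Set.mem_singleton_iff]
      constructor
      · intro hy
        exact or_iff_not_imp_left.2 (hc' y hy)
      · rintro (rfl | rfl) <;> assumption
  haveI hFfin : Finite F := by rw [hS]; exact inferInstance
  have hFc : Nat.card F = S.card := by rw [hS, Nat.card_eq_fintype_card]; exact Fintype.card_coe S
  have haF : a ∉ F := fun e => hab (e.symm.trans hua)
  have hbF : b ∉ F := fun e => hab (hub.symm.trans e)
  have hcF : c ∈ F := huc
  have hdF : d ∈ F := hud
  -- the remaining points
  let R : Set Ω := {x | x ∉ F ∧ x ≠ a ∧ x ≠ b}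
  -- the subgroup of elements centralising `u` and fixing `a`, `b`
  let K : Subgroup G :=
    { carrier := {g | g * u = u * g ∧ g • a = a ∧ g • b = b}
      one_mem' := ⟨by rw [one_mul, mul_one], one_smul _ _, one_smul _ _⟩
      mul_mem' := fun {g g'} hg hg' => ⟨by rw [mul_assoc, hg'.1, ← mul_assoc, hg.1, mul_assoc],
        by rw [mul_smul, hg'.2.1, hg.2.1], by rw [mul_smul, hg'.2.2, hg.2.2]⟩
      inv_mem' := fun {g} hg => ⟨((Commute.inv_left (show Commute g u from hg.1)).eq),
        by rw [inv_smul_eq_iff, hg.2.1], by rw [inv_smul_eq_iff, hg.2.2]⟩ }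
  have hKF : ∀ g ∈ K, ∀ x, x ∈ F ↔ g • x ∈ F := by
    intro g hg x
    show u • x = x ↔ u • g • x = g • x
    rw [← mul_smul u g, ← hg.1, mul_smul, smul_left_cancel_iff]
  let φ : K →* Equiv.Perm F :=
    { toFun := fun g =>
        { toFun := fun x => ⟨(g : G) • x.1, (hKF g g.2 x.1).1 x.2⟩
          invFun := fun x => ⟨(g : G)⁻¹ • x.1, (hKF _ (inv_mem g.2) x.1).1 x.2⟩
          left_inv := fun x => Subtype.ext (inv_smul_smul _ _)
          right_inv := fun x => Subtype.ext (smul_inv_smul _ _) }
      map_one' := Equiv.ext fun x => Subtype.ext (one_smul _ _)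
      map_mul' := fun g g' => Equiv.ext fun x => Subtype.ext (mul_smul _ _ _) }
  have hφ : Function.Injective φ := (injective_iff_map_eq_one φ).2 fun g hg => by
    apply Subtype.ext
    have hfix : ∀ x ∈ F, (g : G) • x = x := fun x hx =>
      congrArg Subtype.val (Equiv.ext_iff.1 hg ⟨x, hx⟩)
    exact h.uq4 hx g.2.2.1 g.2.2.2 (hfix c hcF) (hfix d hdF)
  haveI hKfin : Finite K := Finite.of_injective φ hφ
  have hKdvd : Nat.card K ∣ Nat.factorial S.card := by
    rw [← hFc, ← Nat.card_perm]
    exact Subgroup.card_dvd_of_injective φ hφ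
  -- the quadruple attached to a remaining point
  have hRquad : ∀ x ∈ R, Function.Injective ![a, b, x, u • x] := by
    rintro x ⟨hxF, hxa, hxb⟩
    refine inj_four hab hxa.symm (fun e => hxb ?_) hxb.symm (fun e => hxa ?_) (fun e => hxF e.symm)
    · rw [← huu x, ← e, hua]
    · rw [← huu x, ← e, hub]
  have huR : ∀ x ∈ R, u • x ∈ R := by
    rintro x ⟨hxF, hxa, hxb⟩
    refine ⟨fun e => hxF ?_, fun e => hxb ?_, fun e => hxa ?_⟩
    · have e' : u • u • x = u • x := e
      rw [huu] at e'
      exact e'.symm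
    · rw [← huu x, e, hua]
    · rw [← huu x, e, hub]
  have hKR : ∀ g ∈ K, ∀ x ∈ R, g • x ∈ R := by
    rintro g hg x ⟨hxF, hxa, hxb⟩
    refine ⟨fun e => hxF ((hKF g hg x).2 e), fun e => hxa ?_, fun e => hxb ?_⟩
    · exact smul_left_cancel g (e.trans hg.2.1.symm)
    · exact smul_left_cancel g (e.trans hg.2.2.symm)
  have hunion : ∀ x, x = a ∨ x = b ∨ x ∈ F ∨ x ∈ R := fun x => by
    by_cases h1 : x = a
    · exact Or.inl h1
    by_cases h2 : x = b
    · exact Or.inr (Or.inl h2)
    by_cases h3 : x ∈ F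
    · exact Or.inr (Or.inr (Or.inl h3))
    exact Or.inr (Or.inr (Or.inr ⟨h3, h1, h2⟩))
  have hRdata : Finite R ∧ (Nat.card R = 0 ∨ (Nat.card R = Nat.card K ∧ Even (Nat.card R))) := by
    rcases R.eq_empty_or_nonempty with hR | ⟨r, hr⟩
    · haveI : IsEmpty R := by rw [hR]; infer_instance
      exact ⟨inferInstance, Or.inl Nat.card_of_isEmpty⟩
    have hb : Function.Bijective fun g : K => (⟨(g : G) • r, hKR g g.2 r hr⟩ : R) := by
      constructor
      · intro g g' e
        have e' : (g : G) • r = (g' : G) • r := congrArg Subtype.val e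
        set k := g⁻¹ * g' with hk
        have hkr : (k : G) • r = r := by
          rw [hk, Subgroup.coe_mul, Subgroup.coe_inv, mul_smul, ← e', inv_smul_smul]
        have : (k : G) = 1 := h.uq4 (hRquad r hr) k.2.2.1 k.2.2.2 hkr (by rw [← mul_smul, k.2.1, mul_smul, hkr])
        exact (inv_mul_eq_one.1 (Subtype.ext this : k = 1))
      · rintro ⟨x, hxR⟩
        obtain ⟨g, hga, hgb, hgr, hgur⟩ := h.tr4 (hRquad r hr) (hRquad x hxR)
        have hcomm : g * u = u * g := by
          have : u⁻¹ * (g⁻¹ * u * g) = 1 := by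
            refine h.uq4 (hRquad r hr) ?_ ?_ ?_ ?_ <;>
              rw [mul_smul, mul_smul, mul_smul, inv_smul_eq_iff, inv_smul_eq_iff]
            · rw [hga, hua, hgb]
            · rw [hgb, hub, hga]
            · rw [hgr, hgur]
            · rw [hgur, huu, huu, hgr]
          calc g * u = g * (u * (u⁻¹ * (g⁻¹ * u * g))) := by rw [this, mul_one]
            _ = u * g := by group
        exact ⟨⟨g, hcomm, hga, hgb⟩, Subtype.ext hgr⟩
    haveI : Finite R := Finite.of_surjective _ hb.2
    refine ⟨inferInstance, Or.inr ⟨(Nat.card_eq_of_bijective _ hb).symm, ?_⟩⟩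
    exact even_card_of_involutive
      { toFun := fun x : R => ⟨u • x.1, huR x.1 x.2⟩
        invFun := fun x : R => ⟨u • x.1, huR x.1 x.2⟩
        left_inv := fun x => Subtype.ext (huu _)
        right_inv := fun x => Subtype.ext (huu _) }
      (fun x => Subtype.ext (huu _)) fun x e => x.2.1 (congrArg Subtype.val e)
  obtain ⟨hRfin, hRcard⟩ := hRdata
  haveI := hRfin
  have hfin : Finite Ω := by
    rw [← Set.finite_univ_iff]
    exact ((Set.toFinite {a, b}).union ((Set.toFinite F).union (Set.toFinite R))).subset fun x _ => by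
      rcases hunion x with h' | h' | h' | h'
      · exact Or.inl (Or.inl h')
      · exact Or.inl (Or.inr h')
      · exact Or.inr (Or.inl h')
      · exact Or.inr (Or.inr h')
  refine ⟨hfin, ?_⟩
  haveI := Fintype.ofFinite Ω
  have hn : Nat.card Ω = 2 + S.card + Nat.card R := by
    have e : (Finset.univ : Finset Ω) = {a, b} ∪ S ∪ R.toFinset := by
      ext x
      simp only [Finset.mem_univ, true_iff, Finset.mem_union, Finset.mem_insert, Finset.mem_singleton,
        Set.mem_toFinset]
      rcases hunion x with h' | h' | h' | h'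
      · exact Or.inl (Or.inl (Or.inl h'))
      · exact Or.inl (Or.inl (Or.inr h'))
      · exact Or.inl (Or.inr (by rw [hS] at h'; exact h'))
      · exact Or.inr h'
    have hmemF : ∀ x, x ∈ S ↔ x ∈ F := fun x => by rw [hS]; rfl
    rw [Nat.card_eq_fintype_card, ← Finset.card_univ, e, Finset.card_union_of_disjoint, Finset.card_union_of_disjoint,
      Finset.card_pair hab, ← Set.ncard_eq_toFinset_card', ← Nat.card_coe_set_eq]
    · rw [Finset.disjoint_left]
      intro x hx hxS
      simp only [Finset.mem_insert, Finset.mem_singleton] at hx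
      rcases hx with rfl | rfl
      · exact haF ((hmemF _).1 hxS)
      · exact hbF ((hmemF _).1 hxS)
    · rw [Finset.disjoint_left]
      intro x hx hxR
      obtain ⟨h1, h2, h3⟩ := Set.mem_toFinset.1 hxR
      rcases Finset.mem_union.1 hx with hx' | hx'
      · simp only [Finset.mem_insert, Finset.mem_singleton] at hx'
        tauto
      · exact h1 ((hmemF _).1 hx')
  rcases hRcard with h0 | ⟨hRK, heven⟩
  · omega
  rw [← hRK] at hKdvd
  have hle := Nat.le_of_dvd (Nat.factorial_pos _) hKdvd
  obtain ⟨j, hj⟩ := heven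
  rcases hScard with hS2 | hS3
  · rw [hS2] at hle hn
    rw [show Nat.factorial 2 = 2 from rfl] at hle
    omega
  · rw [hS3] at hKdvd hle hn
    rw [show Nat.factorial 3 = 6 from rfl] at hle hKdvd
    generalize hr : Nat.card R = r at *
    interval_cases r <;> omega

theorem Sharp.faithful {k : ℕ} (h : Sharp G Ω k) (hne : Nonempty (Fin k ↪ Ω)) {g : G}
    (hg : ∀ x : Ω, g • x = x) : g = 1 :=
  hne.elim fun e => h.eq_one _ e.injective fun i => hg _

/-- The degree of a sharply four-transitive action is not seven. -/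
theorem degree_four_ne_seven (h : Sharp G Ω 4) : Nat.card Ω ≠ 7 := by
  classical
  intro h7
  haveI : Finite Ω := Nat.finite_of_card_ne_zero (by omega)
  haveI := Fintype.ofFinite Ω
  have h7' : Fintype.card Ω = 7 := by rwa [← Nat.card_eq_fintype_card]
  obtain ⟨e⟩ : Nonempty (Fin 4 ↪ Ω) := Function.Embedding.nonempty_of_card_le (by simp [h7'])
  have hφ : Function.Injective (toPermHom G Ω) := (injective_iff_map_eq_one _).2 fun g hg =>
    h.faithful ⟨e⟩ fun x => Equiv.ext_iff.1 hg x
  have hG : Nat.card G = 840 := by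
    have hb : Function.Bijective fun g : G => g • e := by
      constructor
      · intro g g' hgg
        have : g'⁻¹ * g ∈ stabilizer G e := by
          rw [mem_stabilizer_iff, mul_smul]
          exact inv_smul_eq_iff.2 hgg
        rw [h.uniq] at this
        exact (inv_mul_eq_one.1 (Subgroup.mem_bot.1 this)).symm
      · exact h.trans.exists_smul_eq e
    rw [Nat.card_eq_of_bijective _ hb, Nat.card_eq_fintype_card, Fintype.card_embedding_eq, h7', Fintype.card_fin]
    rfl
  set H := (toPermHom G Ω).range with hH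
  have hHc : Nat.card H = 840 := hG ▸ (Nat.card_congr (MonoidHom.ofInjective hφ).toEquiv).symm
  have hP : Nat.card (Equiv.Perm Ω) = 5040 := by rw [Nat.card_perm, h7]; rfl
  have hidx : H.index = 6 := by
    have := H.card_mul_index
    rw [hHc, hP] at this
    omega
  set N := H.normalCore with hN
  have hNidx : N.index ∣ 720 := by
    rw [hN, Subgroup.normalCore_eq_ker, Subgroup.index_ker]
    have := Subgroup.card_subgroup_dvd_card (toPermHom (Equiv.Perm Ω) (Equiv.Perm Ω ⧸ H)).range
    rwa [Nat.card_perm, ← Subgroup.index_eq_card, hidx] at this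
  have hNc := N.card_mul_index
  rw [hP] at hNc
  have hidle : N.index ≤ 720 := Nat.le_of_dvd (by norm_num) hNidx
  haveI : Nontrivial Ω := Fintype.one_lt_card_iff_nontrivial.1 (by omega)
  rcases alternatingGroup.normal_subgroup_eq_bot_or_eq_top (by rw [h7]; norm_num)
    (N := N.subgroupOf (alternatingGroup Ω)) with h0 | h0
  · have hinj : Function.Injective fun x : N => Equiv.Perm.sign (x : Equiv.Perm Ω) := by
      intro x y hxy
      simp only at hxy
      have hm : (⟨(x : Equiv.Perm Ω)⁻¹ * y, by
          rw [Equiv.Perm.mem_alternatingGroup, map_mul, map_inv, hxy, inv_mul_cancel]⟩ : alternatingGroup Ω) ∈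
          N.subgroupOf (alternatingGroup Ω) := mul_mem (inv_mem x.2) y.2
      rw [h0, Subgroup.mem_bot] at hm
      exact Subtype.ext (inv_mul_eq_one.1 (congrArg Subtype.val hm))
    have h2 := Nat.card_le_card_of_injective _ hinj
    rw [Nat.card_eq_fintype_card (α := ℤˣ), Fintype.card_units_int] at h2
    interval_cases hcN : Nat.card N <;> omega
  · rw [Subgroup.subgroupOf_eq_top] at h0
    have h2 := Subgroup.card_le_of_le (h0.trans (Subgroup.normalCore_le H))
    have h3 : 2 * Nat.card (alternatingGroup Ω) = Nat.card (Equiv.Perm Ω) := two_mul_nat_card_alternatingGroup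
    omega

/-- The degrees of sharply four-transitive actions. -/
theorem degree_four' (h : Sharp G Ω 4) (hne : Nonempty (Fin 4 ↪ Ω)) :
    Nat.card Ω = 4 ∨ Nat.card Ω = 5 ∨ Nat.card Ω = 6 ∨ Nat.card Ω = 11 := by
  have := (degree_four h hne).2
  have := degree_four_ne_seven h
  omega

/-- A point stabiliser of a sharply multiply transitive action. -/
theorem Sharp.stab {k : ℕ} (h : Sharp G Ω (k + 1)) (a : Ω) :
    Sharp (stabilizer G a) (SubMulAction.ofStabilizer G a) k := by
  constructor
  · refine ⟨fun x y => ?_⟩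
    let X : Fin (k + 1) → Ω := Fin.cons a fun i => (x i).1
    let Y : Fin (k + 1) → Ω := Fin.cons a fun i => (y i).1
    have hX : ∀ x : Fin k ↪ SubMulAction.ofStabilizer G a, Function.Injective (Fin.cons a fun i => (x i).1 : Fin (k + 1) → Ω) :=
      fun x => Fin.cons_injective_iff.2 ⟨fun ⟨i, hi⟩ => (x i).2 hi, Subtype.val_injective.comp x.injective⟩
    obtain ⟨g, hg⟩ := h.exists_smul X Y (hX x) (hX y)
    refine ⟨⟨g, by simpa [X, Y] using hg 0⟩, ?_⟩
    ext i
    simpa [X, Y] using hg i.succ
  · intro x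
    rw [Subgroup.eq_bot_iff_forall]
    intro g hg
    rw [mem_stabilizer_iff] at hg
    apply Subtype.ext
    refine h.eq_one (Fin.cons a fun i => (x i).1)
      (Fin.cons_injective_iff.2 ⟨fun ⟨i, hi⟩ => (x i).2 hi, Subtype.val_injective.comp x.injective⟩) fun i => ?_
    cases i using Fin.cases with
    | zero => simpa using mem_stabilizer_iff.1 g.2
    | succ j =>
      simp only [Fin.cons_succ]
      exact congrArg Subtype.val (DFunLike.congr_fun hg j)

theorem card_ofStabilizer [Finite Ω] (a : Ω) :
    Nat.card (SubMulAction.ofStabilizer G a) + 1 = Nat.card Ω := by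
  classical
  haveI := Fintype.ofFinite Ω
  have h1 : 0 < Fintype.card Ω := Fintype.card_pos_iff.2 ⟨a⟩
  rw [Nat.card_eq_fintype_card (α := Ω)]
  have e : Nat.card (SubMulAction.ofStabilizer G a) = Nat.card {x : Ω // x ≠ a} :=
    Nat.card_congr (Equiv.subtypeEquivRight fun x => Iff.rfl)
  rw [e, Nat.card_eq_fintype_card, Fintype.card_subtype_compl, Fintype.card_subtype_eq]
  omega

/-- The degrees of sharply five-transitive actions. -/
theorem degree_five [Finite Ω] (h : Sharp G Ω 5) (hn : 5 ≤ Nat.card Ω) :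
    Nat.card Ω = 5 ∨ Nat.card Ω = 6 ∨ Nat.card Ω = 7 ∨ Nat.card Ω = 12 := by
  haveI := Fintype.ofFinite Ω
  haveI : Nonempty Ω := (Nat.card_pos_iff.1 (show 0 < Nat.card Ω by omega)).1
  obtain ⟨a⟩ := ‹Nonempty Ω›
  have hc := card_ofStabilizer (G := G) a
  haveI := Fintype.ofFinite (SubMulAction.ofStabilizer G a)
  have := degree_four' (h.stab a) (Function.Embedding.nonempty_of_card_le (by
    rw [Fintype.card_fin, ← Nat.card_eq_fintype_card]; omega))
  omega

end Cfsg.Agent.SharpMult
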