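import Mathlib
import Cfsg.Agent.Lib.Perm.SharplyTwo
import Cfsg.Agent.Lib.Perm.SL2Char2

/-!
Finite sharply triply transitive groups of odd degree.
-/

set_option autoImplicit false

universe u v

namespace Cfsg.Agent.Perm.SharplyThree

open MulAction
open scoped OnePoint

variable {G : Type u} [Group G] {Ω : Type v} [MulAction G Ω]

/-- A finite sharply triply transitive action of odd degree. -/
structure Hyp (G : Type u) [Group G] (Ω : Type v) [MulAction G Ω] : Prop where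
  three : ∀ x₁ x₂ x₃ y₁ y₂ y₃ : Ω, x₁ ≠ x₂ → x₁ ≠ x₃ → x₂ ≠ x₃ → y₁ ≠ y₂ → y₁ ≠ y₃ → y₂ ≠ y₃ →
    ∃ g : G, g • x₁ = y₁ ∧ g • x₂ = y₂ ∧ g • x₃ = y₃
  sharp : ∀ (g : G) (x₁ x₂ x₃ : Ω), x₁ ≠ x₂ → x₁ ≠ x₃ → x₂ ≠ x₃ → g • x₁ = x₁ → g • x₂ = x₂ →
    g • x₃ = x₃ → g = 1
  odd : Odd (Nat.card Ω)
  three_le : 3 ≤ Nat.card Ω

variable [Finite Ω]

theorem exists_third (h : Hyp G Ω) (x y : Ω) : ∃ z, z ≠ x ∧ z ≠ y := by
  classical
  haveI := Fintype.ofFinite Ω
  have h3 := h.three_le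
  rw [Nat.card_eq_fintype_card] at h3
  have : 0 < ((Finset.univ.erase x).erase y).card := by
    have h1 : ((Finset.univ : Finset Ω).erase x).card = Fintype.card Ω - 1 := by
      rw [Finset.card_erase_of_mem (Finset.mem_univ x), Finset.card_univ]
    have h2 := Finset.pred_card_le_card_erase (s := (Finset.univ : Finset Ω).erase x) (a := y)
    omega
  obtain ⟨z, hz⟩ := Finset.card_pos.1 this
  exact ⟨z, (Finset.mem_erase.1 (Finset.mem_erase.1 hz).2).1, (Finset.mem_erase.1 hz).1⟩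

theorem faithful (h : Hyp G Ω) {g : G} (hg : ∀ x : Ω, g • x = x) : g = 1 := by
  obtain ⟨a⟩ : Nonempty Ω := (Nat.card_pos_iff.1 (by have := h.three_le; omega)).1
  obtain ⟨b, hb, -⟩ := exists_third h a a
  obtain ⟨c, hca, hcb⟩ := exists_third h a b
  exact h.sharp g a b c hb.symm hca.symm hcb.symm (hg a) (hg b) (hg c)

/-- The two-point stabilizer. -/
abbrev D (G : Type u) [Group G] {Ω : Type v} [MulAction G Ω] (a b : Ω) : Subgroup G :=
  stabilizer G a ⊓ stabilizer G b

theorem card_D (h : Hyp G Ω) {a b : Ω} (hab : a ≠ b) : Nat.card ↥(D G a b) + 2 = Nat.card Ω := by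
  classical
  haveI := Fintype.ofFinite Ω
  obtain ⟨c, hca, hcb⟩ := exists_third h a b
  let f : ↥(D G a b) → {x : Ω // x ∈ ((Finset.univ.erase a).erase b : Finset Ω)} := fun d =>
    ⟨(d : G) • c, Finset.mem_erase.2 ⟨fun e => hcb (smul_left_cancel (d : G) (e.trans d.2.2.symm)),
      Finset.mem_erase.2 ⟨fun e => hca (smul_left_cancel (d : G) (e.trans d.2.1.symm)), Finset.mem_univ _⟩⟩⟩
  have hf : Function.Bijective f := by
    constructor
    · intro d d' e
      have e' : (d : G) • c = (d' : G) • c := congrArg Subtype.val e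
      have hD := mul_mem (inv_mem d'.2) d.2
      have := h.sharp _ a b c hab hca.symm hcb.symm hD.1 hD.2 (by rw [mul_smul, e', inv_smul_smul])
      exact Subtype.ext (inv_mul_eq_one.1 this).symm
    · rintro ⟨x, hx⟩
      obtain ⟨hxb, hxa⟩ : x ≠ b ∧ x ≠ a := ⟨(Finset.mem_erase.1 hx).1, (Finset.mem_erase.1 (Finset.mem_erase.1 hx).2).1⟩
      obtain ⟨g, h1, h2, h3⟩ := h.three a b c a b x hab hca.symm hcb.symm hab hxa.symm hxb.symm
      exact ⟨⟨g, h1, h2⟩, Subtype.ext h3⟩
  rw [Nat.card_eq_of_bijective f hf, Nat.card_eq_fintype_card, Fintype.card_coe,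
    Finset.card_erase_of_mem (Finset.mem_erase.2 ⟨hab.symm, Finset.mem_univ b⟩),
    Finset.card_erase_of_mem (Finset.mem_univ a), Finset.card_univ, Nat.card_eq_fintype_card]
  have := h.three_le
  rw [Nat.card_eq_fintype_card] at this
  omega

theorem involution_exists_fixed (h : Hyp G Ω) {i : G} (hi : orderOf i = 2) : ∃ c : Ω, i • c = c := by
  classical
  haveI := Fintype.ofFinite Ω
  haveI : Fact (Nat.Prime 2) := ⟨Nat.prime_two⟩
  obtain ⟨c, hc⟩ := Equiv.Perm.exists_fixed_point_of_prime (α := Ω) (p := 2) (n := 1)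
    (by rw [← Nat.card_eq_fintype_card]; exact h.odd.not_two_dvd_nat)
    (σ := MulAction.toPerm i) (by
      apply Equiv.ext
      intro x
      rw [pow_one, pow_two, Equiv.Perm.mul_apply, MulAction.toPerm_apply, MulAction.toPerm_apply,
        ← mul_smul, ← pow_two, ← hi, pow_orderOf_eq_one, one_smul, Equiv.Perm.one_apply])
  exact ⟨c, hc⟩

theorem involution_fixed_unique [Finite G] (h : Hyp G Ω) {i : G} (hi : orderOf i = 2) {x y : Ω}
    (hx : i • x = x) (hy : i • y = y) : x = y := by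
  by_contra hne
  have hd := Subgroup.orderOf_dvd_natCard (D G x y) (x := i) ⟨hx, hy⟩
  rw [hi] at hd
  have := card_D h hne
  obtain ⟨k, hk⟩ := h.odd
  obtain ⟨l, hl⟩ := hd
  omega

/-- The regular normal subgroup of a point stabilizer. -/
theorem exists_translation [Finite G] (h : Hyp G Ω) (a : Ω) :
    ∃ N : Subgroup G, N ≤ stabilizer G a ∧
      (∀ g ∈ stabilizer G a, ∀ n ∈ N, g * n * g⁻¹ ∈ N) ∧
      (∀ x y : Ω, x ≠ a → y ≠ a → ∃! n : ↥N, (n : G) • x = y) ∧
      (∀ n ∈ N, ∀ n' ∈ N, n * n' = n' * n) ∧ (∀ n ∈ N, n * n = 1) ∧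
      (∀ i, orderOf i = 2 → i • a = a → i ∈ N) := by
  classical
  let V := {x : Ω // x ≠ a}
  haveI := Fintype.ofFinite V
  letI : MulAction ↥(stabilizer G a) V :=
    { smul := fun g x => ⟨(g : G) • x.1, fun e => x.2 (smul_left_cancel (g : G) (e.trans g.2.symm))⟩
      one_smul := fun x => Subtype.ext (one_smul G x.1)
      mul_smul := fun g g' x => Subtype.ext (mul_smul (g : G) g' x.1) }
  have hsm : ∀ (g : ↥(stabilizer G a)) (x : V), (g • x).1 = (g : G) • x.1 := fun _ _ => rfl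
  let ρ := MulAction.toPermHom (↥(stabilizer G a)) V
  have hρ : Function.Injective ρ := by
    rw [injective_iff_map_eq_one]
    intro g hg
    refine Subtype.ext (faithful h fun x => ?_)
    by_cases hx : x = a
    · rw [hx]; exact g.2
    · exact congrArg Subtype.val (Equiv.Perm.congr_fun hg ⟨x, hx⟩)
  set G2 : Subgroup (Equiv.Perm V) := ρ.range
  let e : ↥(stabilizer G a) ≃* ↥G2 := MonoidHom.ofInjective hρ
  have he : ∀ (g : ↥(stabilizer G a)) (x : V), ((e g) • x).1 = (g : G) • x.1 := fun _ _ => rfl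
  haveI : IsMultiplyPretransitive ↥G2 V 2 := by
    rw [is_two_pretransitive_iff]
    intro x y z w hxy hzw
    obtain ⟨g, h1, h2, h3⟩ := h.three a x.1 y.1 a z.1 w.1 x.2.symm y.2.symm (Subtype.coe_injective.ne hxy)
      z.2.symm w.2.symm (Subtype.coe_injective.ne hzw)
    exact ⟨e ⟨g, h1⟩, Subtype.ext h2, Subtype.ext h3⟩
  have hsharp : ∀ x : Fin 2 ↪ V, stabilizer (↥G2) x = ⊥ := by
    intro x
    rw [Subgroup.eq_bot_iff_forall]
    intro k hk
    obtain ⟨g, rfl⟩ := e.surjective k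
    have hx : ∀ i, (g : G) • (x i).1 = (x i).1 := fun i => by
      rw [← he g (x i)]
      exact congrArg Subtype.val (congrArg (fun f : Fin 2 ↪ V => f i) hk)
    have := h.sharp g a (x 0).1 (x 1).1 (x 0).2.symm (x 1).2.symm
      (Subtype.coe_injective.ne (x.injective.ne (by decide))) g.2 (hx 0) (hx 1)
    rw [show g = 1 from Subtype.ext this, map_one]
  have hcardV : Nat.card V + 1 = Nat.card Ω := by
    haveI := Fintype.ofFinite Ω
    rw [Nat.card_eq_fintype_card, Nat.card_eq_fintype_card, Fintype.card_subtype_compl, Fintype.card_subtype_eq]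
    have : 0 < Fintype.card Ω := Fintype.card_pos_iff.2 ⟨a⟩
    omega
  have h2le : 2 ≤ Nat.card V := by have := h.three_le; omega
  obtain ⟨N2, hn, hmem, huniq, -, hcomm, p, hp, hexp, hpN, -⟩ := exists_regular_normal G2 hsharp h2le
  obtain ⟨x0⟩ : Nonempty V := (Nat.card_pos_iff.1 (by omega)).1
  have hcardN : Nat.card ↥N2 = Nat.card V :=
    Nat.card_congr (Equiv.ofBijective (fun n : ↥N2 => (n : ↥G2) • x0)
      ⟨fun m n e => (huniq x0 _).unique e rfl, fun b => (huniq x0 b).exists⟩)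
  have hp2 : p = 2 := by
    haveI : Fact p.Prime := ⟨hp⟩
    obtain ⟨k, hk⟩ := hpN.exists_card_eq
    have h2 : 2 ∣ p ^ k := by
      rw [← hk, hcardN]
      obtain ⟨l, hl⟩ := h.odd
      exact ⟨l, by omega⟩
    exact ((Nat.prime_dvd_prime_iff_eq Nat.prime_two hp).1 (Nat.prime_two.dvd_of_dvd_pow h2)).symm
  refine ⟨(N2.comap e.toMonoidHom).map (stabilizer G a).subtype, Subgroup.map_subtype_le _, ?_, ?_, ?_, ?_, ?_⟩
  · rintro g hg _ ⟨n, hnN, rfl⟩
    refine ⟨⟨g, hg⟩ * n * ⟨g, hg⟩⁻¹, ?_, rfl⟩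
    show e (⟨g, hg⟩ * n * ⟨g, hg⟩⁻¹) ∈ N2
    rw [map_mul, map_mul, map_inv]
    exact hn.conj_mem _ hnN _
  · intro x y hx hy
    obtain ⟨k, hk, hku⟩ := huniq ⟨x, hx⟩ ⟨y, hy⟩
    refine ⟨⟨(e.symm k : G), ⟨e.symm k, by show e (e.symm k) ∈ N2; rw [e.apply_symm_apply]; exact k.2, rfl⟩⟩, ?_, ?_⟩
    · have := congrArg Subtype.val hk
      rw [← e.apply_symm_apply (k : ↥G2), he] at this
      exact this
    · rintro ⟨_, n, hnN, rfl⟩ hnx
      have := hku ⟨e n, hnN⟩ (Subtype.ext ((he n ⟨x, hx⟩).trans hnx))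
      refine Subtype.ext ?_
      show (n : G) = _
      exact congrArg Subtype.val ((e.symm_apply_apply n).symm.trans (congrArg e.symm (congrArg Subtype.val this)))
  · rintro _ ⟨n, hnN, rfl⟩ _ ⟨n', hn'N, rfl⟩
    have : e n * e n' = e n' * e n :=
      congrArg Subtype.val (hcomm.is_comm.comm ⟨e n, hnN⟩ ⟨e n', hn'N⟩)
    rw [← map_mul, ← map_mul] at this
    exact congrArg Subtype.val (e.injective this)
  · rintro _ ⟨n, hnN, rfl⟩
    have := hexp _ hnN
    rw [hp2, pow_two] at this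
    have h4 : n * n = 1 := e.injective (by rw [map_mul, map_one]; exact this)
    exact congrArg Subtype.val h4
  · intro i hi hia
    refine ⟨⟨i, hia⟩, ?_, rfl⟩
    show e ⟨i, hia⟩ ∈ N2
    rw [hmem]
    refine Or.inr fun x hx => x.2 ?_
    exact involution_fixed_unique h hi ((he ⟨i, hia⟩ x).symm.trans (congrArg Subtype.val hx)) hia

theorem card_translation {a b : Ω} (hb : b ≠ a) {N : Subgroup G} (hN : N ≤ stabilizer G a)
    (hreg : ∀ x y : Ω, x ≠ a → y ≠ a → ∃! n : ↥N, (n : G) • x = y) :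
    Nat.card ↥N + 1 = Nat.card Ω := by
  classical
  haveI := Fintype.ofFinite Ω
  let f : ↥N → {x : Ω // x ≠ a} := fun n =>
    ⟨(n : G) • b, fun e => hb (smul_left_cancel (n : G) (e.trans (hN n.2).symm))⟩
  have hf : Function.Bijective f :=
    ⟨fun m n e => (hreg b _ hb (f n).2).unique (congrArg Subtype.val e) rfl,
      fun x => (hreg b x.1 hb x.2).exists.imp fun n hn => Subtype.ext hn⟩
  rw [Nat.card_eq_of_bijective f hf, Nat.card_eq_fintype_card, Nat.card_eq_fintype_card,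
    Fintype.card_subtype_compl, Fintype.card_subtype_eq]
  have : 0 < Fintype.card Ω := Fintype.card_pos_iff.2 ⟨a⟩
  omega

/-- Swapping involutions: they exist and invert the two-point stabilizer. -/
theorem exists_swap [Finite G] (h : Hyp G Ω) {a b : Ω} (hab : a ≠ b) :
    ∃ u : G, orderOf u = 2 ∧ u • a = b ∧ ∀ d ∈ D G a b, u * d * u⁻¹ = d⁻¹ := by
  classical
  haveI := Fintype.ofFinite Ω
  haveI := Fintype.ofFinite G
  let S : Ω → ℕ := fun y => Nat.card {i : G // orderOf i = 2 ∧ i • a = y}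
  have hfix : ∀ c : Ω, Nat.card {i : G // orderOf i = 2 ∧ i • c = c} + 2 = Nat.card Ω := by
    intro c
    obtain ⟨N, hNle, -, hreg, -, hsq, hinv⟩ := exists_translation h c
    obtain ⟨d, hdc, -⟩ := exists_third h c c
    have h1 := card_translation hdc hNle hreg
    let e : {i : G // orderOf i = 2 ∧ i • c = c} ≃ {n : ↥N // n ≠ 1} :=
      { toFun := fun i => ⟨⟨i.1, hinv i.1 i.2.1 i.2.2⟩, fun e => by
          have h2 := i.2.1
          rw [show i.1 = 1 from congrArg Subtype.val e, orderOf_one] at h2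
          omega⟩
        invFun := fun n => ⟨n.1.1, haveI : Fact (Nat.Prime 2) := ⟨Nat.prime_two⟩
          orderOf_eq_prime (by rw [pow_two]; exact hsq _ n.1.2) (fun e => n.2 (Subtype.ext e)), hNle n.1.2⟩
        left_inv := fun i => rfl
        right_inv := fun n => rfl }
    rw [Nat.card_congr e, Nat.card_eq_fintype_card (α := {n : ↥N // n ≠ 1}), Fintype.card_subtype_compl,
      Fintype.card_subtype_eq, ← Nat.card_eq_fintype_card]
    have : 0 < Nat.card ↥N := Nat.card_pos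
    omega
  have htot : Nat.card {i : G // orderOf i = 2} = ∑ c : Ω, Nat.card {i : G // orderOf i = 2 ∧ i • c = c} := by
    rw [← Nat.card_sigma]
    refine (Nat.card_eq_of_bijective (fun p : Σ c : Ω, {i : G // orderOf i = 2 ∧ i • c = c} =>
      (⟨p.2.1, p.2.2.1⟩ : {i : G // orderOf i = 2})) ⟨?_, ?_⟩).symm
    · rintro ⟨c, i, hi, hc⟩ ⟨c', i', hi', hc'⟩ e
      obtain rfl : i = i' := congrArg Subtype.val e
      exact Sigma.subtype_ext (involution_fixed_unique h hi hc hc') rfl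
    · rintro ⟨i, hi⟩
      obtain ⟨c, hc⟩ := involution_exists_fixed h hi
      exact ⟨⟨c, i, hi, hc⟩, rfl⟩
  have hsum : ∑ y, S y = Nat.card {i : G // orderOf i = 2} := by
    rw [← Nat.card_sigma]
    exact Nat.card_congr ⟨fun p => ⟨p.2.1, p.2.2.1⟩, fun i => ⟨_, i.1, i.2, rfl⟩,
      fun p => by obtain ⟨y, i, hi, rfl⟩ := p; rfl, fun i => rfl⟩
  set q := Nat.card Ω - 2 with hq
  have hq1 : ∀ c : Ω, Nat.card {i : G // orderOf i = 2 ∧ i • c = c} = q := fun c => by
    have := hfix c; omega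
  rw [htot, Finset.sum_congr rfl (fun c _ => hq1 c)] at hsum
  have hinvol : ∀ i : G, orderOf i = 2 → i * i = 1 := fun i hi => by rw [← pow_two, ← hi, pow_orderOf_eq_one]
  have hswap : ∀ y, y ≠ a → ∀ i k : G, orderOf i = 2 → i • a = y → orderOf k = 2 → k • a = y →
      i * k ∈ D G a y := by
    intro y _ i k hi hia hk hka
    have hiy : i • y = a := by rw [← hia, ← mul_smul, hinvol i hi, one_smul]
    have hky : k • y = a := by rw [← hka, ← mul_smul, hinvol k hk, one_smul]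
    exact ⟨show (i * k) • a = a by rw [mul_smul, hka, hiy], show (i * k) • y = y by rw [mul_smul, hky, hia]⟩
  have hle : ∀ y, S y ≤ q := by
    intro y
    by_cases hy : y = a
    · subst hy; exact (hq1 y).le
    rcases isEmpty_or_nonempty {i : G // orderOf i = 2 ∧ i • a = y} with hh | ⟨⟨i, hi, hia⟩⟩
    · exact (Nat.card_eq_zero.2 (Or.inl hh)).trans_le (Nat.zero_le _)
    · have h1 := card_D h (Ne.symm hy)
      have : S y ≤ Nat.card ↥(D G a y) := Nat.card_le_card_of_injective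
        (fun k => (⟨i * k.1, hswap y hy i k.1 hi hia k.2.1 k.2.2⟩ : ↥(D G a y)))
        (fun k k' e => Subtype.ext (mul_left_cancel (congrArg Subtype.val e)))
      omega
  have hall : S b = q := by
    refine ((Finset.sum_eq_sum_iff_of_le fun y _ => hle y).1 ?_ b (Finset.mem_univ _))
    exact hsum
  have hqD : Nat.card ↥(D G a b) = q := by have := card_D h hab; omega
  haveI : Nonempty {i : G // orderOf i = 2 ∧ i • a = b} := by
    refine (Nat.card_pos_iff.1 ?_).1
    show 0 < S b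
    rw [hall, ← hqD]
    exact Nat.card_pos
  obtain ⟨u, hu, hua⟩ := Classical.arbitrary {i : G // orderOf i = 2 ∧ i • a = b}
  refine ⟨u, hu, hua, fun d hd => ?_⟩
  have hbij : Function.Bijective (fun k : {i : G // orderOf i = 2 ∧ i • a = b} =>
      (⟨u * k.1, hswap b hab.symm u k.1 hu hua k.2.1 k.2.2⟩ : ↥(D G a b))) :=
    Function.Injective.bijective_of_nat_card_le
      (fun k k' e => Subtype.ext (mul_left_cancel (congrArg Subtype.val e))) (hqD.le.trans hall.ge)
  obtain ⟨k, hk⟩ := hbij.2 ⟨d, hd⟩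
  obtain rfl : u * k.1 = d := congrArg Subtype.val hk
  rw [mul_inv_rev, inv_eq_of_mul_eq_one_right (hinvol u hu), inv_eq_of_mul_eq_one_right (hinvol k.1 k.2.1),
    ← mul_assoc, hinvol u hu, one_mul]

/-- Coordinates: a field of order `|Ω| - 1` with translations, multiplications and inversion. -/
theorem exists_coordinates [Finite G] (h : Hyp G Ω) :
    ∃ (a b : Ω) (f : ℕ) (_ : a ≠ b) (_ : 1 ≤ f) (_ : Nat.card Ω = 2 ^ f + 1) (N : Subgroup G) (u : G)
      (p : GaloisField 2 f ≃ {x : Ω // x ≠ a}),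
      N ≤ stabilizer G a ∧ (∀ x y : Ω, x ≠ a → y ≠ a → ∃! n : ↥N, (n : G) • x = y) ∧
      (p 0).1 = b ∧
      (∀ n ∈ N, ∃ c, ∀ x, n • (p x).1 = (p (x + c)).1) ∧
      (∀ d ∈ D G a b, ∃ c, c ≠ 0 ∧ ∀ x, d • (p x).1 = (p (c * x)).1) ∧
      u • a = b ∧ u • b = a ∧ ∀ x, x ≠ 0 → u • (p x).1 = (p x⁻¹).1 := by
  classical
  obtain ⟨a⟩ : Nonempty Ω := (Nat.card_pos_iff.1 (by have := h.three_le; omega)).1
  obtain ⟨b, hba, -⟩ := exists_third h a a
  obtain ⟨u, hu, hua, huinv⟩ := exists_swap h hba.symm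
  have hu2 : u * u = 1 := by rw [← pow_two, ← hu, pow_orderOf_eq_one]
  have hub : u • b = a := by rw [← hua, ← mul_smul, hu2, one_smul]
  obtain ⟨c, huc⟩ := involution_exists_fixed h hu
  have hca : c ≠ a := fun e => hba (by rw [← hua, ← e, huc, e])
  have hcb : c ≠ b := fun e => hba.symm (by rw [← hub, ← e, huc, e])
  obtain ⟨N, hNle, hNn, hreg, hNc, hsq, -⟩ := exists_translation h a
  -- `D` is abelian
  have hDc : ∀ d ∈ D G a b, ∀ d' ∈ D G a b, d * d' = d' * d := by
    intro d hd d' hd'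
    have h4 : u * (d * d') * u⁻¹ = (u * d * u⁻¹) * (u * d' * u⁻¹) := by group
    rw [huinv _ (mul_mem hd hd'), huinv d hd, huinv d' hd', mul_inv_rev] at h4
    have h5 := congrArg (·⁻¹) h4
    simp only [mul_inv_rev, inv_inv] at h5
    exact h5
  haveI : IsMulCommutative ↥N := ⟨⟨fun x y => Subtype.ext (hNc x x.2 y y.2)⟩⟩
  letI : CommGroup ↥N := { (inferInstance : Group ↥N) with mul_comm := fun x y => Subtype.ext (hNc x x.2 y y.2) }
  let cnj : ↥(D G a b) → AddMonoid.End (Additive ↥N) := fun d =>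
    { toFun := fun n => Additive.ofMul ⟨(d : G) * (Additive.toMul n : ↥N) * (d : G)⁻¹,
        hNn d d.2.1 _ (Additive.toMul n : ↥N).2⟩
      map_zero' := Additive.toMul.injective (Subtype.ext (by simp))
      map_add' := fun n n' => Additive.toMul.injective (Subtype.ext (by simp [mul_assoc])) }
  have hcnj : ∀ d n, ((Additive.toMul (cnj d n) : ↥N) : G) = (d : G) * (Additive.toMul n : ↥N) * (d : G)⁻¹ :=
    fun _ _ => rfl
  have hact : ∀ (d : ↥(D G a b)) (n : Additive ↥N), (d : G) • ((Additive.toMul n : ↥N) : G) • b = ((Additive.toMul (cnj d n) : ↥N) : G) • b := by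
    intro d n
    have hdb : ((d : G))⁻¹ • b = b := inv_smul_eq_iff.2 d.2.2.symm
    rw [hcnj, mul_smul, mul_smul, hdb]
  have hbinj : ∀ n n' : Additive ↥N, ((Additive.toMul n : ↥N) : G) • b = ((Additive.toMul n' : ↥N) : G) • b → n = n' := by
    intro n n' e
    refine Additive.toMul.injective ((hreg b _ hba ?_).unique e rfl)
    exact fun e' => hba (smul_left_cancel _ (e'.trans (hNle (Additive.toMul n' : ↥N).2).symm))
  obtain ⟨n1', hn1'⟩ := (hreg b c hba hca).exists
  let n1 : Additive ↥N := Additive.ofMul n1'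
  have hn1 : ((Additive.toMul n1 : ↥N) : G) • b = c := hn1'
  have hn10 : n1 ≠ 0 := by
    intro e
    rw [e] at hn1
    exact hcb (by simpa using hn1.symm)
  -- transitivity of `D`
  have htrans : ∀ n : Additive ↥N, n ≠ 0 → ∃ d, cnj d n1 = n := by
    intro n hn
    obtain ⟨g, g1, g2, g3⟩ := h.three a b c a b (((Additive.toMul n : ↥N) : G) • b) hba.symm hca.symm hcb.symm
      hba.symm (fun e => hba (smul_left_cancel _ (e.symm.trans (hNle (Additive.toMul n : ↥N).2).symm)))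
      (fun e => hn (hbinj n 0 (by simpa using e.symm)))
    exact ⟨⟨g, g1, g2⟩, hbinj _ _ (by rw [← hact, hn1, g3])⟩
  have hmul : ∀ d d', cnj d * cnj d' = cnj (d * d') := fun d d' =>
    AddMonoidHom.ext fun n => Additive.toMul.injective (Subtype.ext (by
      show ((Additive.toMul (cnj d (cnj d' n)) : ↥N) : G) = _
      rw [hcnj, hcnj]
      show _ = ((d * d' : ↥(D G a b)) : G) * (Additive.toMul n : ↥N) * ((d * d' : ↥(D G a b)) : G)⁻¹
      rw [Subgroup.coe_mul]; group))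
  have hone : cnj 1 = 1 := AddMonoidHom.ext fun n => Additive.toMul.injective (Subtype.ext (by
    show ((1 : ↥(D G a b)) : G) * (Additive.toMul n : ↥N) * ((1 : ↥(D G a b)) : G)⁻¹ = ((Additive.toMul n : ↥N) : G)
    simp))
  have hcomm : ∀ d d', cnj d * cnj d' = cnj d' * cnj d := fun d d' => by
    rw [hmul, hmul, show d * d' = d' * d from Subtype.ext (hDc d d.2 d' d'.2)]
  -- the field
  let carrier : Set (AddMonoid.End (Additive ↥N)) := {x | x = 0 ∨ ∃ d, x = cnj d}
  have hclosed : ∀ x ∈ carrier, ∀ y ∈ carrier, x + y ∈ carrier := by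
    rintro x (rfl | ⟨d, rfl⟩) y hy
    · rw [zero_add]; exact hy
    rcases hy with rfl | ⟨d', rfl⟩
    · rw [add_zero]; exact Or.inr ⟨d, rfl⟩
    by_cases e : cnj d n1 + cnj d' n1 = 0
    · refine Or.inl (AddMonoidHom.ext fun n => ?_)
      show cnj d n + cnj d' n = 0
      by_cases hn : n = 0
      · rw [hn, map_zero, map_zero, add_zero]
      · obtain ⟨k, rfl⟩ := htrans n hn
        have h1 : cnj d (cnj k n1) = cnj k (cnj d n1) := DFunLike.congr_fun (hcomm d k) n1
        have h2 : cnj d' (cnj k n1) = cnj k (cnj d' n1) := DFunLike.congr_fun (hcomm d' k) n1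
        rw [h1, h2, ← map_add, e, map_zero]
    · obtain ⟨d'', hd''⟩ := htrans _ e
      refine Or.inr ⟨d'', AddMonoidHom.ext fun n => ?_⟩
      show cnj d n + cnj d' n = cnj d'' n
      by_cases hn : n = 0
      · rw [hn, map_zero, map_zero, map_zero, add_zero]
      · obtain ⟨k, rfl⟩ := htrans n hn
        have h1 : cnj d (cnj k n1) = cnj k (cnj d n1) := DFunLike.congr_fun (hcomm d k) n1
        have h2 : cnj d' (cnj k n1) = cnj k (cnj d' n1) := DFunLike.congr_fun (hcomm d' k) n1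
        have h3 : cnj d'' (cnj k n1) = cnj k (cnj d'' n1) := DFunLike.congr_fun (hcomm d'' k) n1
        rw [h1, h2, h3, ← map_add, hd'']
  have hN2 : ∀ n : Additive ↥N, -n = n := fun n => Additive.toMul.injective (by
    rw [toMul_neg]; exact inv_eq_of_mul_eq_one_right (Subtype.ext (hsq _ (Additive.toMul n : ↥N).2)))
  let K : Subring (AddMonoid.End (Additive ↥N)) :=
    { carrier := carrier
      zero_mem' := Or.inl rfl
      one_mem' := Or.inr ⟨1, hone.symm⟩
      add_mem' := fun hx hy => hclosed _ hx _ hy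
      mul_mem' := by
        rintro x y (rfl | ⟨d, rfl⟩) (rfl | ⟨d', rfl⟩)
        · exact Or.inl (zero_mul _)
        · exact Or.inl (zero_mul _)
        · exact Or.inl (mul_zero _)
        · exact Or.inr ⟨d * d', hmul d d'⟩
      neg_mem' := by
        intro x hx
        rwa [show -x = x from AddMonoidHom.ext fun n => hN2 (x n)] }
  have hcnjK : ∀ d, cnj d ∈ K := fun d => Or.inr ⟨d, rfl⟩
  have hfield : IsField ↥K := by
    refine ⟨⟨0, 1, fun e => hn10 ?_⟩, ?_, ?_⟩
    · exact (DFunLike.congr_fun (congrArg Subtype.val e) n1).symm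
    · rintro ⟨x, (rfl | ⟨d, rfl⟩)⟩ ⟨y, (rfl | ⟨d', rfl⟩)⟩ <;> apply Subtype.ext
      · rfl
      · show (0 : AddMonoid.End (Additive ↥N)) * cnj d' = cnj d' * 0
        rw [zero_mul, mul_zero]
      · show cnj d * (0 : AddMonoid.End (Additive ↥N)) = 0 * cnj d
        rw [zero_mul, mul_zero]
      · exact hcomm d d'
    · rintro ⟨x, (rfl | ⟨d, rfl⟩)⟩ hx
      · exact absurd rfl hx
      · exact ⟨⟨cnj d⁻¹, hcnjK _⟩, Subtype.ext (by
          show cnj d * cnj d⁻¹ = 1
          rw [hmul, mul_inv_cancel, hone])⟩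
  letI : Field ↥K := hfield.toField
  let ev : ↥K → Additive ↥N := fun x => (x : AddMonoid.End (Additive ↥N)) n1
  have hev : Function.Bijective ev := by
    constructor
    · intro x y e
      apply Subtype.ext
      apply AddMonoidHom.ext
      intro n
      by_cases hn : n = 0
      · subst hn
        exact (map_zero (x : AddMonoid.End (Additive ↥N))).trans (map_zero (y : AddMonoid.End (Additive ↥N))).symm
      · obtain ⟨k, rfl⟩ := htrans n hn
        have hxk : (x : AddMonoid.End (Additive ↥N)) * cnj k = cnj k * x :=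
          congrArg Subtype.val (hfield.mul_comm x ⟨cnj k, hcnjK k⟩)
        have hyk : (y : AddMonoid.End (Additive ↥N)) * cnj k = cnj k * y :=
          congrArg Subtype.val (hfield.mul_comm y ⟨cnj k, hcnjK k⟩)
        have h1 := DFunLike.congr_fun hxk n1
        have h2 := DFunLike.congr_fun hyk n1
        calc (x : AddMonoid.End (Additive ↥N)) (cnj k n1) = cnj k (ev x) := h1
          _ = cnj k (ev y) := by rw [e]
          _ = _ := h2.symm
    · intro n
      by_cases hn : n = 0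
      · exact ⟨0, by rw [hn]; rfl⟩
      · obtain ⟨d, hd⟩ := htrans n hn
        exact ⟨⟨cnj d, hcnjK d⟩, hd⟩
  haveI : Finite ↥K := Finite.of_injective ev hev.1
  haveI : Fintype ↥K := Fintype.ofFinite _
  have hKcard : Nat.card ↥K + 1 = Nat.card Ω := by
    rw [Nat.card_eq_of_bijective ev hev]
    exact card_translation hba hNle hreg
  haveI : CharP ↥K 2 := by
    haveI : Fact (Nat.Prime 2) := ⟨Nat.prime_two⟩
    refine CharTwo.of_one_ne_zero_of_two_eq_zero one_ne_zero (hev.1 ?_)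
    rw [← one_add_one_eq_two]
    show n1 + n1 = (0 : Additive ↥N)
    exact add_eq_zero_iff_eq_neg.2 (hN2 n1).symm
  obtain ⟨f, hKf⟩ : ∃ f : ℕ+, Fintype.card ↥K = 2 ^ (f : ℕ) := by
    obtain ⟨f, -, hf⟩ := FiniteField.card ↥K 2
    exact ⟨f, hf⟩
  haveI : Fact (Nat.Prime 2) := ⟨Nat.prime_two⟩
  letI : Fintype (GaloisField 2 f) := Fintype.ofFinite _
  let φ : GaloisField 2 f ≃+* ↥K := FiniteField.ringEquivOfCardEq (by
    rw [← Nat.card_eq_fintype_card, GaloisField.card 2 f f.pos.ne', hKf])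
  let P : ↥K → {x : Ω // x ≠ a} := fun x =>
    ⟨((Additive.toMul (ev x) : ↥N) : G) • b,
      fun e => hba (smul_left_cancel _ (e.trans (hNle (Additive.toMul (ev x) : ↥N).2).symm))⟩
  have hP : Function.Bijective P := by
    constructor
    · intro x y e
      exact hev.1 (hbinj _ _ (congrArg Subtype.val e))
    · intro z
      obtain ⟨n, hn⟩ := (hreg b z.1 hba z.2).exists
      obtain ⟨x, hx⟩ := hev.2 (Additive.ofMul n)
      exact ⟨x, Subtype.ext (by show ((Additive.toMul (ev x) : ↥N) : G) • b = z.1; rw [hx]; exact hn)⟩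
  refine ⟨a, b, f, hba.symm, f.pos, ?_, N, u, φ.toEquiv.trans (Equiv.ofBijective P hP), hNle, hreg, ?_, ?_, ?_, hua, hub, ?_⟩
  · rw [← hKcard, Nat.card_eq_fintype_card, hKf]
  · show ((Additive.toMul (ev (φ 0)) : ↥N) : G) • b = b
    rw [map_zero]
    exact one_smul G b
  · intro n hn
    obtain ⟨k, hk⟩ := hev.2 (Additive.ofMul (⟨n, hn⟩ : ↥N))
    refine ⟨φ.symm k, fun x => ?_⟩
    show n • ((Additive.toMul (ev (φ x)) : ↥N) : G) • b = ((Additive.toMul (ev (φ (x + φ.symm k))) : ↥N) : G) • b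
    rw [map_add, φ.apply_symm_apply, show ev (φ x + k) = ev (φ x) + ev k from rfl, hk, toMul_add,
      toMul_ofMul, Subgroup.coe_mul, ← mul_smul]
    rw [hNc _ (Additive.toMul (ev (φ x)) : ↥N).2 n hn]
  · intro d hd
    refine ⟨φ.symm ⟨cnj ⟨d, hd⟩, hcnjK _⟩, fun e => ?_, fun x => ?_⟩
    · have := congrArg φ e
      rw [map_zero, φ.apply_symm_apply] at this
      have h2 : cnj ⟨d, hd⟩ n1 = 0 := DFunLike.congr_fun (congrArg Subtype.val this) n1
      have h3 := hact ⟨d, hd⟩ n1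
      rw [h2, hn1] at h3
      exact hcb (smul_left_cancel d (h3.trans ((one_smul G b).trans (hd.2 : d • b = b).symm)))
    · show d • ((Additive.toMul (ev (φ x)) : ↥N) : G) • b = ((Additive.toMul (ev (φ (_ * x))) : ↥N) : G) • b
      rw [map_mul, φ.apply_symm_apply]
      exact hact ⟨d, hd⟩ (ev (φ x))
  · intro x hx
    show u • ((Additive.toMul (ev (φ x)) : ↥N) : G) • b = ((Additive.toMul (ev (φ x⁻¹)) : ↥N) : G) • b
    have hφx : φ x ≠ 0 := fun e => hx (φ.injective (e.trans (map_zero φ).symm))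
    rw [map_inv₀]
    rcases (φ x).2 with e | ⟨d, e⟩
    · exact absurd (Subtype.ext e) hφx
    have hinv : (φ x)⁻¹ = ⟨cnj d⁻¹, hcnjK _⟩ := inv_eq_of_mul_eq_one_right (Subtype.ext (by
      show ((φ x : ↥K) : AddMonoid.End (Additive ↥N)) * cnj d⁻¹ = 1
      rw [e, hmul, mul_inv_cancel, hone]))
    rw [hinv]
    show u • ((Additive.toMul (((φ x : ↥K) : AddMonoid.End (Additive ↥N)) n1) : ↥N) : G) • b =
      ((Additive.toMul (cnj d⁻¹ n1) : ↥N) : G) • b
    rw [e, ← hact, ← hact, hn1, Subgroup.coe_inv, ← huinv d d.2, mul_smul, mul_smul,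
      inv_eq_of_mul_eq_one_right hu2, huc]

section Line

variable {F : Type} [Field F] [DecidableEq F]

open Matrix

/-- An element of `GL(2,F)` from four entries. -/
noncomputable def gl (x y z w : F) (hd : x * w - y * z ≠ 0) : GL (Fin 2) F :=
  Matrix.GeneralLinearGroup.mkOfDetNeZero !![x, y; z, w] (by simpa [Matrix.det_fin_two] using hd)

omit [DecidableEq F] in
@[simp] theorem gl_coe (x y z w : F) (hd : x * w - y * z ≠ 0) :
    ((gl x y z w hd : GL (Fin 2) F) : Matrix (Fin 2) (Fin 2) F) = !![x, y; z, w] := rfl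

theorem gl_fix_three (A : GL (Fin 2) F) (h1 : A • (∞ : OnePoint F) = ∞)
    (h2 : A • ((0 : F) : OnePoint F) = ((0 : F) : OnePoint F))
    (h3 : A • ((1 : F) : OnePoint F) = ((1 : F) : OnePoint F)) (x : OnePoint F) : A • x = x := by
  rw [OnePoint.smul_infty_eq_self_iff] at h1
  have hdet := A.det_ne_zero
  rw [Matrix.det_fin_two, h1, mul_zero, sub_zero] at hdet
  obtain ⟨ha, hd⟩ := mul_ne_zero_iff.1 hdet
  rw [OnePoint.smul_some_eq_ite, h1, zero_mul, zero_add, if_neg hd, OnePoint.coe_eq_coe,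
    div_eq_iff hd, mul_zero, zero_mul, zero_add] at h2
  rw [OnePoint.smul_some_eq_ite, h1, zero_mul, zero_add, if_neg hd, OnePoint.coe_eq_coe,
    div_eq_iff hd, mul_one, one_mul, h2, add_zero] at h3
  cases x with
  | infty => rw [OnePoint.smul_infty_eq_self_iff]; exact h1
  | coe k =>
    rw [OnePoint.smul_some_eq_ite, h1, zero_mul, zero_add, if_neg hd, OnePoint.coe_eq_coe,
      div_eq_iff hd, h2, add_zero, h3, mul_comm]

theorem sl_trivial [CharP F 2] (S : SpecialLinearGroup (Fin 2) F)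
    (h : ∀ x : OnePoint F, SpecialLinearGroup.toGL S • x = x) : S = 1 := by
  have h1 : S.1 1 0 = 0 := OnePoint.smul_infty_eq_self_iff.1 (h ∞)
  have hd : S.1 1 1 ≠ 0 := by
    intro e
    have := S.2
    rw [Matrix.det_fin_two, h1, e, mul_zero, mul_zero, sub_zero] at this
    exact zero_ne_one this
  have h2 := h ((0 : F) : OnePoint F)
  have h3 := h ((1 : F) : OnePoint F)
  rw [OnePoint.smul_some_eq_ite] at h2 h3
  change (if S.1 1 0 * 0 + S.1 1 1 = 0 then ∞ else (((S.1 0 0 * 0 + S.1 0 1) / (S.1 1 0 * 0 + S.1 1 1) : F) : OnePoint F)) = _ at h2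
  change (if S.1 1 0 * 1 + S.1 1 1 = 0 then ∞ else (((S.1 0 0 * 1 + S.1 0 1) / (S.1 1 0 * 1 + S.1 1 1) : F) : OnePoint F)) = _ at h3
  rw [h1, zero_mul, zero_add, if_neg hd, OnePoint.coe_eq_coe, div_eq_iff hd, mul_zero, zero_mul, zero_add] at h2
  rw [h1, zero_mul, zero_add, if_neg hd, OnePoint.coe_eq_coe, div_eq_iff hd, mul_one, one_mul, h2, add_zero] at h3
  have hdet := S.2
  rw [Matrix.det_fin_two, h1, h2, mul_zero, sub_zero, h3] at hdet
  have h11 : S.1 1 1 = 1 := by
    have e : (S.1 1 1 + 1) * (S.1 1 1 + 1) = 0 := by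
      linear_combination hdet + (S.1 1 1 + 1) * (CharTwo.two_eq_zero (R := F))
    exact CharTwo.add_eq_zero.1 (mul_self_eq_zero.1 e)
  apply Subtype.ext
  ext i j
  fin_cases i <;> fin_cases j <;> simp [h1, h2, h3, h11]

end Line

/-- A finite sharply triply transitive group of odd degree is `SL(2,2^f) = PGL(2,2^f)`. -/
theorem main [Finite G] (h : Hyp G Ω) :
    ∃ f : ℕ, 1 ≤ f ∧ Nat.card Ω = 2 ^ f + 1 ∧
      Nonempty (G ≃* Matrix.SpecialLinearGroup (Fin 2) (GaloisField 2 f)) ∧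
      Nonempty (Matrix.SpecialLinearGroup (Fin 2) (GaloisField 2 f) ≃*
        Matrix.ProjGenLinGroup (Fin 2) (GaloisField 2 f)) := by
  classical
  obtain ⟨a, b, f, hab, hf, hcard, N, u, p, hNle, hreg, hp0, htr, hdil, hua, hub, hinv⟩ := exists_coordinates h
  refine ⟨f, hf, hcard, ?_⟩
  let F := GaloisField 2 f
  haveI : Fintype F := Fintype.ofFinite _
  let Ψ : OnePoint F ≃ Ω := (Equiv.optionCongr p).trans (Equiv.optionSubtypeNe a)
  have hΨ1 : Ψ ∞ = a := rfl
  have hΨ2 : ∀ x : F, Ψ (x : OnePoint F) = (p x).1 := fun _ => rfl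
  let M : Subgroup G :=
    { carrier := {g | ∃ A : GL (Fin 2) F, ∀ x : OnePoint F, Ψ (A • x) = g • Ψ x}
      one_mem' := ⟨1, fun x => by rw [one_smul, one_smul]⟩
      mul_mem' := by
        rintro g g' ⟨A, hA⟩ ⟨A', hA'⟩
        exact ⟨A * A', fun x => by rw [mul_smul, hA, hA', mul_smul]⟩
      inv_mem' := by
        rintro g ⟨A, hA⟩
        exact ⟨A⁻¹, fun x => by rw [eq_inv_smul_iff, ← hA, smul_inv_smul]⟩ }
  have hMN : ∀ n ∈ N, n ∈ M := by
    intro n hn
    obtain ⟨c, hc⟩ := htr n hn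
    refine ⟨gl 1 c 0 1 (by simp), fun x => ?_⟩
    cases x with
    | infty =>
      rw [OnePoint.smul_infty_eq_ite, hΨ1, if_pos (by simp), hΨ1]
      exact (hNle hn).symm
    | coe k => rw [OnePoint.smul_some_eq_ite, if_neg (by simp), hΨ2, hΨ2, hc k]; simp
  have hMD : ∀ d ∈ D G a b, d ∈ M := by
    intro d hd
    obtain ⟨c, hc0, hc⟩ := hdil d hd
    refine ⟨gl c 0 0 1 (by simpa using hc0), fun x => ?_⟩
    cases x with
    | infty =>
      rw [OnePoint.smul_infty_eq_ite, hΨ1, if_pos (by simp), hΨ1]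
      exact hd.1.symm
    | coe k => rw [OnePoint.smul_some_eq_ite, if_neg (by simp), hΨ2, hΨ2, hc k]; simp
  have hMu : u ∈ M := by
    refine ⟨gl 0 1 1 0 (by simp), fun x => ?_⟩
    cases x with
    | infty =>
      rw [OnePoint.smul_infty_eq_ite, if_neg (by simp), hΨ2, hΨ1, hua]
      simp [hp0]
    | coe k =>
      rw [OnePoint.smul_some_eq_ite]
      by_cases hk : k = 0
      · subst hk
        rw [if_pos (by simp), hΨ1, hΨ2, hp0, hub]
      · rw [if_neg (by simp [hk]), hΨ2, hΨ2, hinv k hk]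
        simp
  have hba : b ≠ a := hab.symm
  have hstab : ∀ g : G, g • a = a → g ∈ M := by
    intro g hg
    have hgb : g • b ≠ a := fun e => hba (smul_left_cancel g (e.trans hg.symm))
    obtain ⟨n, hn⟩ := (hreg b (g • b) hba hgb).exists
    have hd : (n : G)⁻¹ * g ∈ D G a b :=
      ⟨show ((n : G)⁻¹ * g) • a = a by rw [mul_smul, hg, inv_smul_eq_iff]; exact (hNle n.2).symm,
        show ((n : G)⁻¹ * g) • b = b by rw [mul_smul, ← hn, inv_smul_smul]⟩
    have := mul_mem (hMN _ n.2) (hMD _ hd)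
    rwa [mul_inv_cancel_left] at this
  have hMtop : ∀ g : G, g ∈ M := by
    intro g
    by_cases hg : g • a = a
    · exact hstab g hg
    obtain ⟨n, hn⟩ := (hreg b (g • a) hba hg).exists
    have h1 : (u * (n : G)⁻¹ * g) • a = a := by rw [mul_smul, mul_smul, ← hn, inv_smul_smul, hub]
    have := mul_mem (mul_mem (hMN _ n.2) (inv_mem hMu)) (hstab _ h1)
    rwa [show (n : G) * u⁻¹ * (u * (n : G)⁻¹ * g) = g by group] at this
  -- the homomorphism from `SL(2,F)`
  have hex : ∀ S : Matrix.SpecialLinearGroup (Fin 2) F, ∃ g : G, ∀ x : OnePoint F,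
      Ψ (Matrix.SpecialLinearGroup.toGL S • x) = g • Ψ x := by
    intro S
    set A := Matrix.SpecialLinearGroup.toGL S
    have hne : ∀ x y : OnePoint F, x ≠ y → Ψ (A • x) ≠ Ψ (A • y) := fun x y hxy e =>
      hxy (smul_left_cancel A (Ψ.injective e))
    obtain ⟨g, g1, g2, g3⟩ := h.three (Ψ ∞) (Ψ ((0 : F) : OnePoint F)) (Ψ ((1 : F) : OnePoint F))
      (Ψ (A • ∞)) (Ψ (A • ((0 : F) : OnePoint F))) (Ψ (A • ((1 : F) : OnePoint F)))
      (Ψ.injective.ne (OnePoint.infty_ne_coe _)) (Ψ.injective.ne (OnePoint.infty_ne_coe _))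
      (Ψ.injective.ne (by simp)) (hne _ _ (OnePoint.infty_ne_coe _)) (hne _ _ (OnePoint.infty_ne_coe _))
      (hne _ _ (by simp))
    obtain ⟨B, hB⟩ := hMtop g
    refine ⟨g, fun x => ?_⟩
    have hfix : (B⁻¹ * A) • x = x := by
      refine gl_fix_three _ ?_ ?_ ?_ x <;> rw [mul_smul, inv_smul_eq_iff] <;> apply Ψ.injective <;> rw [hB]
      exacts [g1.symm, g2.symm, g3.symm]
    rw [mul_smul, inv_smul_eq_iff] at hfix
    rw [hfix, hB]
  have huniq : ∀ g g' : G, (∀ x : OnePoint F, g • Ψ x = g' • Ψ x) → g = g' := fun g g' e =>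
    inv_mul_eq_one.1 (faithful h fun y => by
      rw [mul_smul, inv_smul_eq_iff, ← Ψ.apply_symm_apply y]
      exact (e _).symm)
  choose χ hχ using hex
  let Φ : Matrix.SpecialLinearGroup (Fin 2) F →* G := MonoidHom.mk' χ fun S S' => huniq _ _ fun x => by
    rw [← hχ (S * S') x, map_mul, mul_smul, hχ, hχ, mul_smul]
  have hΦ : Function.Bijective Φ := by
    constructor
    · rw [injective_iff_map_eq_one]
      intro S hS
      refine sl_trivial S fun x => Ψ.injective ?_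
      rw [hχ, show χ S = Φ S from rfl, hS, one_smul]
    · intro g
      obtain ⟨A, hA⟩ := hMtop g
      obtain ⟨s, hs⟩ := FiniteField.isSquare_of_char_two (ringChar.eq F 2) (A.val.det)
      have hs0 : s ≠ 0 := fun e => A.det_ne_zero (by rw [hs, e, mul_zero])
      let S : Matrix.SpecialLinearGroup (Fin 2) F := ⟨s⁻¹ • A.val, by
        rw [Matrix.det_smul, Fintype.card_fin, hs, ← pow_two, inv_pow]; exact inv_mul_cancel₀ (pow_ne_zero 2 hs0)⟩
      refine ⟨S, huniq _ _ fun x => ?_⟩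
      show χ S • Ψ x = g • Ψ x
      rw [← hχ, ← hA]
      congr 1
      have e : ∀ i j, (Matrix.SpecialLinearGroup.toGL S) i j = s⁻¹ * A i j := fun i j => rfl
      cases x with
      | infty =>
        rw [OnePoint.smul_infty_eq_ite, OnePoint.smul_infty_eq_ite, e, e]
        simp only [mul_eq_zero, inv_eq_zero, hs0, false_or]
        split_ifs
        · rfl
        · rw [mul_div_mul_left _ _ (inv_ne_zero hs0)]
      | coe k =>
        rw [OnePoint.smul_some_eq_ite, OnePoint.smul_some_eq_ite, e, e, e, e]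
        simp only [mul_assoc, ← mul_add, mul_eq_zero, inv_eq_zero, hs0, false_or]
        split_ifs
        · rfl
        · rw [mul_div_mul_left _ _ (inv_ne_zero hs0)]
  refine ⟨⟨(MulEquiv.ofBijective Φ hΦ).symm⟩, ⟨MulEquiv.ofBijective Matrix.SpecialLinearGroup.toPGL ⟨?_, ?_⟩⟩⟩
  · rw [← MonoidHom.ker_eq_bot_iff, Matrix.SpecialLinearGroup.toPGL_ker]
    exact center_sl2_char_two
  · intro P
    obtain ⟨A, rfl⟩ := Matrix.ProjGenLinGroup.mk_surjective P
    obtain ⟨s, hs⟩ := FiniteField.isSquare_of_char_two (ringChar.eq F 2) (A.val.det)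
    have hs0 : s ≠ 0 := fun e => A.det_ne_zero (by rw [hs, e, mul_zero])
    refine ⟨⟨s⁻¹ • A.val, by rw [Matrix.det_smul, Fintype.card_fin, hs, ← pow_two, inv_pow]; exact inv_mul_cancel₀ (pow_ne_zero 2 hs0)⟩, ?_⟩
    show Matrix.ProjGenLinGroup.mk _ = Matrix.ProjGenLinGroup.mk A
    rw [Matrix.ProjGenLinGroup.mk_eq_mk_iff]
    refine ⟨Units.mk0 s hs0, Units.ext ?_⟩
    show (s⁻¹ • A.val) * (Matrix.scalar (Fin 2) s) = A.val
    rw [Matrix.scalar_apply, ← Matrix.smul_one_eq_diagonal, Matrix.mul_smul, mul_one, smul_smul,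
      mul_inv_cancel₀ hs0, one_smul]

/-- Construct the hypothesis from the Mathlib notion of triple transitivity. -/
theorem hyp_of_pretransitive (h3 : IsMultiplyPretransitive G Ω 3)
    (hsharp : ∀ (g : G) (x₁ x₂ x₃ : Ω), x₁ ≠ x₂ → x₁ ≠ x₃ → x₂ ≠ x₃ → g • x₁ = x₁ → g • x₂ = x₂ →
      g • x₃ = x₃ → g = 1) (hodd : Odd (Nat.card Ω)) (hle : 3 ≤ Nat.card Ω) : Hyp G Ω := by
  refine ⟨fun x₁ x₂ x₃ y₁ y₂ y₃ a1 a2 a3 b1 b2 b3 => ?_, hsharp, hodd, hle⟩
  have mk : ∀ z₁ z₂ z₃ : Ω, z₁ ≠ z₂ → z₁ ≠ z₃ → z₂ ≠ z₃ → Function.Injective ![z₁, z₂, z₃] := by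
    intro z₁ z₂ z₃ c1 c2 c3 i j e
    fin_cases i <;> fin_cases j <;> simp_all
  obtain ⟨g, hg⟩ := isMultiplyPretransitive_iff.1 h3 ⟨_, mk x₁ x₂ x₃ a1 a2 a3⟩ ⟨_, mk y₁ y₂ y₃ b1 b2 b3⟩
  exact ⟨g, congrArg (fun e : Fin 3 ↪ Ω => e 0) hg, congrArg (fun e : Fin 3 ↪ Ω => e 1) hg,
    congrArg (fun e : Fin 3 ↪ Ω => e 2) hg⟩

end Cfsg.Agent.Perm.SharplyThree
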