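import Mathlib

/-! Groups with exactly `2p+1` Sylow `p`-subgroups. -/

namespace Cfsg.Agent.Perm

open Subgroup MulAction Equiv.Perm

universe u

section

variable {p : ℕ} [hp : Fact p.Prime]

theorem sylow_subtype_card {G : Type u} [Group G] [Finite G] (N : Subgroup G)
    (h : ∀ P : Sylow p G, (P : Subgroup G) ≤ N) : Nat.card (Sylow p N) = Nat.card (Sylow p G) := by
  refine (Nat.card_congr (Equiv.ofBijective (fun P : Sylow p G => P.subtype (h P)) ⟨?_, ?_⟩)).symm
  · intro P Q e
    exact Sylow.subtype_injective e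
  · intro Q
    obtain ⟨P, hP⟩ := IsPGroup.exists_le_sylow (Q.isPGroup'.map N.subtype)
    refine ⟨P, Sylow.ext (Q.is_maximal' (P.subtype (h P)).isPGroup' fun x hx => ?_)⟩
    show (x : G) ∈ (P : Subgroup G)
    exact hP ⟨x, hx, rfl⟩

theorem exists_faithful_sylow_action (G : Type u) [Group G] [Finite G] :
    ∃ (H : Type u) (_ : Group H) (_ : Finite H), FaithfulSMul H (Sylow p H) ∧
      Nat.card (Sylow p H) = Nat.card (Sylow p G) := by
  let K := (MulAction.toPermHom G (Sylow p G)).ker
  have hK : ∀ g : G, g ∈ K ↔ ∀ P : Sylow p G, g • P = P := fun g => by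
    simp [K, MonoidHom.mem_ker, Equiv.Perm.ext_iff]
  let π := QuotientGroup.mk' K
  have hs : Function.Surjective π := QuotientGroup.mk'_surjective K
  let f : Sylow p G → Sylow p (G ⧸ K) := Sylow.mapSurjective hs
  have hinj : Function.Injective f := by
    intro P Q e
    have e' : (P : Subgroup G).map π = (Q : Subgroup G).map π := congrArg Sylow.toSubgroup e
    have h1 : (Q : Subgroup G) ≤ normalizer ((P : Subgroup G) : Set G) := by
      intro y hy
      have : π y ∈ (P : Subgroup G).map π := e' ▸ mem_map_of_mem π hy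
      obtain ⟨x, hx, hxy⟩ := this
      have hk : x⁻¹ * y ∈ K := QuotientGroup.eq.1 hxy
      have hkP : x⁻¹ * y ∈ normalizer ((P : Subgroup G) : Set G) :=
        Sylow.smul_eq_iff_mem_normalizer.1 ((hK _).1 hk P)
      have := mul_mem (le_normalizer hx) hkP
      rwa [mul_inv_cancel_left] at this
    have h2 := Q.isPGroup'.inf_normalizer_sylow P
    replace h2 := (inf_eq_left.2 h1).symm.trans h2
    exact Sylow.ext (Q.is_maximal' P.isPGroup' (h2.le.trans inf_le_right))
  have hsurj : Function.Surjective f := Sylow.mapSurjective_surjective hs p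
  have heq : ∀ (g : G) (P : Sylow p G), f (g • P) = (π g) • f P := by
    intro g P
    apply Sylow.ext
    show ((g • P : Sylow p G) : Subgroup G).map π = ((π g • f P : Sylow p (G ⧸ K)) : Subgroup (G ⧸ K))
    rw [Sylow.coe_subgroup_smul, Sylow.coe_subgroup_smul]
    ext z
    simp only [mem_map, mem_pointwise_smul_iff_inv_smul_mem]
    constructor
    · rintro ⟨x, hx, rfl⟩
      exact ⟨_, hx, by simp [MulAut.smul_def, π]⟩
    · rintro hz
      obtain ⟨x, hx, hxz⟩ := hz
      refine ⟨g * x * g⁻¹, by simp [MulAut.smul_def, mul_assoc]; exact hx, ?_⟩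
      simp only [MulAut.smul_def] at hxz
      rw [map_mul, map_mul, map_inv, hxz]
      simp [π, mul_assoc]
  refine ⟨G ⧸ K, inferInstance, inferInstance, ⟨fun {a b} hab => ?_⟩,
    (Nat.card_congr (Equiv.ofBijective f ⟨hinj, hsurj⟩)).symm⟩
  obtain ⟨x, rfl⟩ := hs a
  obtain ⟨y, rfl⟩ := hs b
  refine QuotientGroup.eq.2 ((hK _).2 fun P => ?_)
  rw [mul_smul, inv_smul_eq_iff]
  refine hinj ?_
  rw [heq, heq]
  exact (hab (f P)).symm

variable {H : Type u} [Group H] [Finite H]

theorem smul_self_of_mem {a : Sylow p H} {y : H} (hy : y ∈ (a : Subgroup H)) : y • a = a :=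
  Sylow.smul_eq_iff_mem_normalizer.2 (le_normalizer hy)

theorem mem_sylow_of_fix {k : ℕ} {y : H} (hy : y ^ p ^ k = 1) {x : Sylow p H} (hx : y • x = x) :
    y ∈ (x : Subgroup H) := by
  have hX : IsPGroup p (zpowers y) := by
    rw [IsPGroup.iff_card]
    obtain ⟨i, -, hi⟩ := (Nat.dvd_prime_pow hp.out).1 (orderOf_dvd_of_pow_eq_one hy)
    exact ⟨i, by rw [Nat.card_zpowers, hi]⟩
  have h2 := hX.inf_normalizer_sylow x
  replace h2 := (inf_eq_left.2 (zpowers_le.2 (Sylow.smul_eq_iff_mem_normalizer.1 hx))).symm.trans h2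
  exact (h2.le (mem_zpowers y)).2

theorem eq_of_forall_fix {a x : Sylow p H} (h : ∀ y ∈ (a : Subgroup H), y • x = x) : a = x := by
  have h2 := a.isPGroup'.inf_normalizer_sylow x
  replace h2 := (inf_eq_left.2 (fun y hy => Sylow.smul_eq_iff_mem_normalizer.1 (h y hy))).symm.trans h2
  exact Sylow.ext (a.is_maximal' x.isPGroup' (h2.le.trans inf_le_right)).symm

end

section Perm

variable {α : Type*} [Fintype α] [DecidableEq α] {p : ℕ}

/-- A fixed-point count for elements centralising a product of two `p`-cycles. -/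
theorem centralizer_two_cycles (hpr : p.Prime) (hp2 : Odd p) (hn : Fintype.card α = 2 * p + 1)
    (a : α) {σ τ : Equiv.Perm α} (hσ : orderOf σ = p) (hfix : ∀ v, σ v = v ↔ v = a)
    (hc : Commute σ τ) {r : ℕ} (hr : r.Prime) (hrp : r ≠ p) (hτ : τ ^ r = 1) :
    τ = 1 ∨ Equiv.Perm.sign τ = -1 := by
  have hsupp : σ.support = Finset.univ.erase a := by
    ext v; simp [Equiv.Perm.mem_support, hfix]
  have hcard : σ.support.card = 2 * p := by
    rw [hsupp, Finset.card_erase_of_mem (Finset.mem_univ a), Finset.card_univ, hn]; omega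
  obtain ⟨n, hct⟩ := cycleType_prime_order (σ := σ) (by rw [hσ]; exact hpr)
  have hn1 : n + 1 = 2 := by
    have := sum_cycleType σ
    rw [hct, Multiset.sum_replicate, hσ, hcard, smul_eq_mul] at this
    exact Nat.eq_of_mul_eq_mul_right hpr.pos this
  have htwo : σ.cycleFactorsFinset.card = 2 := by
    have : σ.cycleType.card = 2 := by rw [hct, Multiset.card_replicate, hn1]
    simpa [cycleType_def] using this
  -- among three moved points, two lie in one cycle
  have hpig : ∀ u v w : α, u ≠ a → v ≠ a → w ≠ a →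
      σ.SameCycle u v ∨ σ.SameCycle v w ∨ σ.SameCycle u w := by
    intro u v w hu hv hw
    have hm : ∀ {u}, u ≠ a → u ∈ σ.support := fun {u} hu => by simp [hsupp, hu]
    have key : ∀ {u v}, u ≠ a → v ≠ a → σ.cycleOf u = σ.cycleOf v → σ.SameCycle u v := by
      intro u v hu hv e
      have h1 : v ∈ (σ.cycleOf v).support := mem_support_cycleOf_iff.2 ⟨SameCycle.refl _ _, hm hv⟩
      rw [← e] at h1
      exact (mem_support_cycleOf_iff.1 h1).1
    have hmem : ∀ {u}, u ≠ a → σ.cycleOf u ∈ σ.cycleFactorsFinset := fun {u} hu =>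
      cycleOf_mem_cycleFactorsFinset_iff.2 (hm hu)
    by_contra hne
    rw [not_or, not_or] at hne
    have hsub : ({σ.cycleOf u, σ.cycleOf v, σ.cycleOf w} : Finset _) ⊆ σ.cycleFactorsFinset := by
      intro x hx
      simp only [Finset.mem_insert, Finset.mem_singleton] at hx
      rcases hx with rfl | rfl | rfl
      · exact hmem hu
      · exact hmem hv
      · exact hmem hw
    have h3 : ({σ.cycleOf u, σ.cycleOf v, σ.cycleOf w} : Finset _).card = 3 :=
      Finset.card_eq_three.2 ⟨_, _, _, fun e => hne.1 (key hu hv e),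
        fun e => hne.2.2 (key hu hw e), fun e => hne.2.1 (key hv hw e), rfl⟩
    have := Finset.card_le_card hsub
    omega
  -- an element of coprime order cannot shift along a cycle
  have hshift : ∀ (ρ : Equiv.Perm α), Commute σ ρ → ρ ^ r = 1 → ∀ w, σ.SameCycle w (ρ w) → ρ w = w := by
    intro ρ hρc hρr w hw
    obtain ⟨i, hi⟩ := hw.exists_nat_pow_eq
    have hj : ∀ j : ℕ, (ρ ^ j) w = (σ ^ (i * j)) w := by
      intro j
      induction j with
      | zero => simp
      | succ j ih =>
        rw [pow_succ', Equiv.Perm.mul_apply, ih, ← Equiv.Perm.mul_apply, ← (hρc.pow_left _).eq,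
          Equiv.Perm.mul_apply, ← hi, ← Equiv.Perm.mul_apply, ← pow_add, Nat.mul_succ]
    have h1 : (σ ^ (i * r)) w = w := by rw [← hj r, hρr]; rfl
    have hcop : r.Coprime (orderOf (σ ^ i)) :=
      ((Nat.coprime_primes hr hpr).2 hrp).coprime_dvd_right (hσ ▸ orderOf_pow_dvd i)
    obtain ⟨m, hm⟩ := exists_pow_eq_self_of_coprime hcop
    rw [← hi]
    have h2 : ∀ (k : ℕ), (((σ ^ i) ^ r) ^ k) w = w := fun k =>
      Equiv.Perm.pow_apply_eq_self_of_apply_eq_self (by rw [← pow_mul]; exact h1) k
    have := h2 m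
    rwa [hm] at this
  have hτa : τ a = a := by
    refine (hfix _).1 ?_
    rw [← Equiv.Perm.mul_apply, hc.eq, Equiv.Perm.mul_apply, (hfix a).2 rfl]
  by_cases h1 : τ = 1
  · exact Or.inl h1
  right
  have hna : ∀ {w}, w ≠ a → τ w ≠ a := fun {w} hw e => hw (τ.injective (e.trans hτa.symm))
  have hmove : ∀ v, v ≠ a → τ v ≠ v := by
    intro v hv hv'
    apply h1
    have hcyc : ∀ u, σ.SameCycle v u → τ u = u := by
      intro u hu
      obtain ⟨i, rfl⟩ := hu.exists_nat_pow_eq
      rw [← Equiv.Perm.mul_apply, ← (hc.pow_left i).eq, Equiv.Perm.mul_apply, hv']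
    ext w
    rw [Equiv.Perm.one_apply]
    by_cases hw : w = a
    · rw [hw, hτa]
    rcases hpig v w (τ w) hv hw (hna hw) with h | h | h
    · exact hcyc w h
    · exact hshift τ hc hτ w h
    · exact τ.injective (hcyc _ h)
  have hsq : τ ^ 2 = 1 := by
    ext w
    rw [Equiv.Perm.one_apply]
    by_cases hw : w = a
    · rw [hw, pow_two, Equiv.Perm.mul_apply, hτa, hτa]
    apply hshift (τ ^ 2) (hc.pow_right 2) (by rw [← pow_mul, mul_comm, pow_mul, hτ, one_pow])
    rw [pow_two, Equiv.Perm.mul_apply]
    rcases hpig w (τ w) (τ (τ w)) hw (hna hw) (hna (hna hw)) with h | h | h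
    · exact absurd (hshift τ hc hτ w h) (hmove w hw)
    · exact absurd (hshift τ hc hτ _ h) (hmove _ (hna hw))
    · exact h
  have hord : orderOf τ = 2 := by
    have : Fact (Nat.Prime 2) := ⟨Nat.prime_two⟩
    exact orderOf_eq_prime hsq h1
  have hsupp2 : τ.support = Finset.univ.erase a := by
    ext v
    simp only [Equiv.Perm.mem_support, Finset.mem_erase, Finset.mem_univ, and_true]
    exact ⟨fun h e => h (e ▸ hτa), hmove v⟩
  obtain ⟨m, hm⟩ := cycleType_prime_order (σ := τ) (by rw [hord]; exact Nat.prime_two)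
  have hm1 : m + 1 = p := by
    have := sum_cycleType τ
    rw [hm, Multiset.sum_replicate, hord, hsupp2, Finset.card_erase_of_mem (Finset.mem_univ a),
      Finset.card_univ, hn, smul_eq_mul] at this
    omega
  rw [sign_of_cycleType, hm, Multiset.sum_replicate, Multiset.card_replicate, hm1, hord, smul_eq_mul,
    show p * 2 + p = 3 * p by ring]
  exact (((show Odd 3 by decide).mul hp2).neg_one_pow)

end Perm

variable {p : ℕ} [hp : Fact p.Prime]

theorem card_powers_image {H : Type*} [Group H] {α : Type*} [DecidableEq α] [MulAction H α]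
    {y : H} (hyp : y ^ p = 1) {v : α} (hv : y • v ≠ v) :
    ((Finset.range p).image fun i => y ^ i • v).card = p := by
  rw [Finset.card_image_of_injOn, Finset.card_range]
  have key : ∀ i j, i < j → j < p → y ^ i • v ≠ y ^ j • v := by
    intro i j hlt hj hij
    rw [show j = i + (j - i) by omega, pow_add, mul_smul] at hij
    have h1 : y ^ (j - i) • v = v := (MulAction.injective _ hij).symm
    have hcop : (j - i).Coprime (orderOf y) := by
      refine Nat.Coprime.coprime_dvd_right (orderOf_dvd_of_pow_eq_one hyp) ?_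
      rw [Nat.coprime_comm, hp.out.coprime_iff_not_dvd]
      intro hd; have := Nat.le_of_dvd (by omega) hd; omega
    obtain ⟨m, hm⟩ := exists_pow_eq_self_of_coprime hcop
    have h2 : (y ^ (j - i)) ^ m ∈ MulAction.stabilizer H v := pow_mem h1 m
    rw [hm] at h2
    exact hv h2
  intro i hi j hj hij
  simp only [Finset.coe_range, Set.mem_Iio] at hi hj
  rcases Nat.lt_trichotomy i j with h | h | h
  · exact absurd hij (key i j h hj)
  · exact h
  · exact absurd hij.symm (key j i h hi)

set_option maxHeartbeats 800000 in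
/-- A group with `2p+1` Sylow `p`-subgroups yields one of order `(2p+1)·p·k`, with `k` odd
dividing `p - 1`, whose Sylow `p`-subgroups have order `p` and are their own centralizers. -/
theorem two_prime_degree_reduction (hp2 : p ≠ 2) (G : Type u) [Group G] [Finite G]
    (hn : Nat.card (Sylow p G) = 2 * p + 1) :
    ∃ (M : Type u) (_ : Group M) (_ : Finite M), Nat.card (Sylow p M) = 2 * p + 1 ∧
      (∃ k, Odd k ∧ k ∣ p - 1 ∧ Nat.card M = (2 * p + 1) * (p * k)) ∧
      ∀ P : Sylow p M, Nat.card (P : Subgroup M) = p ∧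
        centralizer ((P : Subgroup M) : Set M) ≤ P := by
  classical
  have hp3 : 3 ≤ p := by have := hp.out.two_le; omega
  have hpodd : Odd p := hp.out.odd_of_ne_two hp2
  obtain ⟨H, _, _, hF, hH⟩ := exists_faithful_sylow_action (p := p) G
  rw [hn] at hH
  have : Fintype (Sylow p H) := Fintype.ofFinite _
  rw [Nat.card_eq_fintype_card] at hH
  let π := MulAction.toPermHom H (Sylow p H)
  have hπ : Function.Injective π := MulAction.toPerm_injective
  let S := fun y : H => (π y).support
  have hS : ∀ {y : H} {v : Sylow p H}, v ∈ S y ↔ y • v ≠ v := fun {y v} => Equiv.Perm.mem_support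
  -- a short element moves exactly one orbit
  have horb : ∀ (a : Sylow p H) (y : H), y ∈ (a : Subgroup H) → y ^ p = 1 → (S y).card = p →
      ∀ v ∈ S y, ∀ z ∈ (a : Subgroup H), z • v ∈ S y := by
    intro a y hy hyp hc v hv z hz
    let O := Finset.univ.filter fun w : Sylow p H => ∃ z : (a : Subgroup H), z • v = w
    have hO : O.card ≤ p := by
      obtain ⟨j, hj⟩ := a.isPGroup'.card_orbit v
      have : O.card = p ^ j := by
        rw [← hj, Nat.card_eq_fintype_card, Fintype.card_of_subtype O]
        intro w; simp [O, MulAction.mem_orbit_iff]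
      rw [this]
      rcases Nat.lt_or_ge j 2 with h2 | h2
      · calc p ^ j ≤ p ^ 1 := Nat.pow_le_pow_right hp.out.pos (by omega)
          _ = p := pow_one p
      · exfalso
        have h3 : p ^ 2 ≤ p ^ j := Nat.pow_le_pow_right hp.out.pos h2
        have h4 := Finset.card_le_univ O
        rw [hH, this] at h4
        nlinarith
    let T := (Finset.range p).image fun i => y ^ i • v
    have hvy : y • v ≠ v := hS.1 hv
    have hT : T.card = p := by
      exact card_powers_image hyp hvy
    have hTO : T ⊆ O := by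
      intro w hw
      obtain ⟨i, -, rfl⟩ := Finset.mem_image.1 hw
      exact Finset.mem_filter.2 ⟨Finset.mem_univ _, ⟨y ^ i, pow_mem hy i⟩, rfl⟩
    have hTS : T ⊆ S y := by
      intro w hw
      obtain ⟨i, -, rfl⟩ := Finset.mem_image.1 hw
      rw [hS, smul_smul, ← pow_succ', pow_succ, mul_smul]
      exact fun e => hvy (MulAction.injective _ e)
    have hTO' := Finset.eq_of_subset_of_card_le hTO (by omega)
    apply hTS
    rw [hTO']
    exact Finset.mem_filter.2 ⟨Finset.mem_univ _, ⟨z, hz⟩, rfl⟩
  -- short elements inside a non-cyclic Sylow subgroup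
  have hshort : ∀ (a : Sylow p H), p ^ 2 ≤ Nat.card (a : Subgroup H) → ∀ u, u ≠ a →
      ∃ y ∈ (a : Subgroup H), y ^ p = 1 ∧ (S y).card = p ∧ y • u = u := by
    intro a ha u hu
    have hst : stabilizer (a : Subgroup H) u ≠ ⊥ := by
      intro he
      have h1 := (stabilizer (a : Subgroup H) u).card_mul_index
      rw [he, Subgroup.card_bot, one_mul, ← he, index_stabilizer] at h1
      obtain ⟨j, hj⟩ := a.isPGroup'.card_orbit u
      rw [Nat.card_coe_set_eq] at hj
      have h4 : (MulAction.orbit (a : Subgroup H) u).ncard ≤ Fintype.card (Sylow p H) := by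
        rw [← Nat.card_eq_fintype_card, ← Nat.card_coe_set_eq]
        exact Nat.card_le_card_of_injective _ Subtype.val_injective
      rw [h1, hH] at h4
      nlinarith
    obtain ⟨⟨y, hy⟩, hyu, hy1⟩ := (Subgroup.bot_or_exists_ne_one _).resolve_left hst
    have hy1' : y ≠ 1 := fun e => hy1 (Subtype.ext e)
    obtain ⟨k, hk⟩ := IsPGroup.iff_orderOf.1 a.isPGroup' ⟨y, hy⟩
    rw [Subgroup.orderOf_mk] at hk
    have hk0 : orderOf y ≠ 1 := fun e => hy1' (orderOf_eq_one_iff.1 e)
    have hpd : p ∣ orderOf y := by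
      rw [hk]; refine dvd_pow_self p fun e => hk0 ?_
      rw [hk, e, pow_zero]
    have hz := orderOf_pow_orderOf_div (orderOf_pos y).ne' hpd
    set z := y ^ (orderOf y / p)
    refine ⟨z, pow_mem hy _, hz ▸ pow_orderOf_eq_one z, ?_,
      (show z ∈ MulAction.stabilizer H u from pow_mem hyu _)⟩
    have hord : orderOf (π z) = p := by rw [orderOf_injective π hπ, hz]
    obtain ⟨m, hm⟩ := cycleType_prime_order (σ := π z) (by rw [hord]; exact hp.out)
    have hc := sum_cycleType (π z)
    rw [hm, Multiset.sum_replicate, hord, smul_eq_mul] at hc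
    have hsub : S z ⊆ (Finset.univ.erase a).erase u := by
      intro w hw
      rw [hS] at hw
      simp only [Finset.mem_erase, Finset.mem_univ, and_true]
      exact ⟨fun e => hw (e ▸ (show z ∈ MulAction.stabilizer H u from pow_mem hyu _)),
        fun e => hw (e ▸ smul_self_of_mem (pow_mem hy _))⟩
    have hle := Finset.card_le_card hsub
    rw [Finset.card_erase_of_mem (Finset.mem_erase.2 ⟨hu, Finset.mem_univ _⟩),
      Finset.card_erase_of_mem (Finset.mem_univ a), Finset.card_univ, hH] at hle
    show (π z).support.card = p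
    have hm0 : m = 0 := by
      by_contra hm0
      have : 2 * p ≤ (m + 1) * p := Nat.mul_le_mul_right _ (by omega)
      change (π z).support.card ≤ _ at hle
      omega
    rw [← hc, hm0, zero_add, one_mul]
  -- the Sylow subgroups have order `p`
  have hcardP : ∀ a : Sylow p H, Nat.card (a : Subgroup H) = p := by
    intro a
    obtain ⟨j, hj⟩ := IsPGroup.iff_card.1 a.isPGroup'
    rcases Nat.lt_trichotomy j 1 with h | h | h
    · exfalso
      have hbot : (a : Subgroup H) = ⊥ := by
        rw [← Subgroup.card_eq_one, hj, show j = 0 by omega, pow_zero]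
      obtain ⟨b, hb⟩ : ∃ b : Sylow p H, b ≠ a := Fintype.exists_ne_of_one_lt_card (by omega) a
      refine hb (eq_of_forall_fix (a := a) (x := b) fun y hy => ?_).symm
      rw [hbot, mem_bot] at hy; rw [hy, one_smul]
    · rw [hj, h, pow_one]
    exfalso
    have ha : p ^ 2 ≤ Nat.card (a : Subgroup H) := by rw [hj]; exact Nat.pow_le_pow_right hp.out.pos h
    have hall : ∀ b : Sylow p H, p ^ 2 ≤ Nat.card (b : Subgroup H) := fun b => by
      rw [Nat.card_congr (Sylow.equiv b a).toEquiv]; exact ha
    have hne : ∀ (a : Sylow p H) {y : H}, y ∈ (a : Subgroup H) → ∀ {v}, v ∈ S y → v ≠ a :=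
      fun a {y} hy {v} hv e => hS.1 hv (e ▸ smul_self_of_mem hy)
    obtain ⟨u, hu⟩ : ∃ b : Sylow p H, b ≠ a := Fintype.exists_ne_of_one_lt_card (by omega) a
    obtain ⟨c, hca, hcp, hcc, -⟩ := hshort a ha u hu
    obtain ⟨u', hu'⟩ := Finset.card_pos.1 (show 0 < (S c).card by omega)
    obtain ⟨d, hda, hdp, hdc, hdu⟩ := hshort a ha u' (hne a hca hu')
    have hdisj : Disjoint (S c) (S d) := by
      rw [Finset.disjoint_left]
      intro v hvc hvd
      have hsub : S c ⊆ S d := by
        intro w hw
        by_contra hwd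
        have hw' : d • w = w := by simpa [hS] using hwd
        -- orbits of short elements coincide
        have h1 := horb a c hca hcp hcc
        let T := (Finset.univ.filter fun w : Sylow p H => ∃ z : (a : Subgroup H), z • v = w)
        have hTc : T ⊆ S c := fun w hw => by
          obtain ⟨-, z, rfl⟩ := Finset.mem_filter.1 hw
          exact h1 v hvc z z.2
        have hTd : T ⊆ S d := fun w hw => by
          obtain ⟨-, z, rfl⟩ := Finset.mem_filter.1 hw
          exact horb a d hda hdp hdc v hvd z z.2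
        have hT : p ≤ T.card := by
          let T' := (Finset.range p).image fun i => c ^ i • v
          have hT' : T' ⊆ T := by
            intro w hw
            obtain ⟨i, -, rfl⟩ := Finset.mem_image.1 hw
            exact Finset.mem_filter.2 ⟨Finset.mem_univ _, ⟨c ^ i, pow_mem hca i⟩, rfl⟩
          have : T'.card = p := by
            exact card_powers_image hcp (hS.1 hvc)
          have := Finset.card_le_card hT'
          omega
        have e := Finset.eq_of_subset_of_card_le hTc (by omega)
        exact hwd (hTd (e ▸ hw))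
      exact hS.1 (hsub hu') hdu
    have huniv : ∀ w, w ≠ a → w ∈ S c ∨ w ∈ S d := by
      intro w hw
      have hsub : S c ∪ S d ⊆ Finset.univ.erase a := fun v hv =>
        Finset.mem_erase.2 ⟨(Finset.mem_union.1 hv).elim (hne a hca) (hne a hda), Finset.mem_univ _⟩
      have e := Finset.eq_of_subset_of_card_le hsub (by
        rw [Finset.card_union_of_disjoint hdisj, Finset.card_erase_of_mem (Finset.mem_univ a),
          Finset.card_univ, hH]; omega)
      exact Finset.mem_union.1 (e ▸ Finset.mem_erase.2 ⟨hw, Finset.mem_univ _⟩)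
    obtain ⟨x, hx⟩ := Finset.card_pos.1 (show 0 < (S d).card by omega)
    obtain ⟨b, hb⟩ := Finset.card_pos.1 (show 0 < (S c).card by omega)
    have hcx : c ∈ (x : Subgroup H) := mem_sylow_of_fix (k := 1) (by rwa [pow_one]) (by
      simpa [hS] using (Finset.disjoint_right.1 hdisj hx))
    have hdb : d ∈ (b : Subgroup H) := mem_sylow_of_fix (k := 1) (by rwa [pow_one]) (by
      simpa [hS] using (Finset.disjoint_left.1 hdisj hb))
    obtain ⟨e, hee, hep, hec, hex⟩ := hshort b (hall b) x (hne b hdb hx)
    have hxe : x ∉ S e := fun h => hS.1 h hex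
    have hde : Disjoint (S d) (S e) := by
      rw [Finset.disjoint_left]
      intro v hvd hve
      let T := (Finset.range p).image fun i => d ^ i • v
      have hTd : T ⊆ S d := fun w hw => by
        obtain ⟨i, -, rfl⟩ := Finset.mem_image.1 hw
        exact horb b d hdb hdp hdc v hvd _ (pow_mem hdb i)
      have hTe : T ⊆ S e := fun w hw => by
        obtain ⟨i, -, rfl⟩ := Finset.mem_image.1 hw
        exact horb b e hee hep hec v hve _ (pow_mem hdb i)
      have hT : T.card = p := by
        exact card_powers_image hdp (hS.1 hvd)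
      exact hxe (hTe ((Finset.eq_of_subset_of_card_le hTd (by omega)).symm ▸ hx))
    -- `S e` is the complement of `S d ∪ {b}`
    have hsub : S e ⊆ (Finset.univ.erase b) \ S d := fun v hv =>
      Finset.mem_sdiff.2 ⟨Finset.mem_erase.2 ⟨hne b hee hv, Finset.mem_univ _⟩,
        fun h => Finset.disjoint_left.1 hde h hv⟩
    have hSd : S d ⊆ Finset.univ.erase b := fun v hv =>
      Finset.mem_erase.2 ⟨hne b hdb hv, Finset.mem_univ _⟩
    have heq := Finset.eq_of_subset_of_card_le hsub (by
      rw [Finset.card_sdiff_of_subset hSd, Finset.card_erase_of_mem (Finset.mem_univ b),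
        Finset.card_univ, hH]; omega)
    have hae : a ∈ S e := by
      rw [heq, Finset.mem_sdiff]
      exact ⟨Finset.mem_erase.2 ⟨(hne a hca hb).symm, Finset.mem_univ _⟩, fun h => hne a hda h rfl⟩
    obtain ⟨v, hv, hvb⟩ := Finset.exists_mem_ne (show 1 < (S c).card by omega) b
    have hve : v ∈ S e := by
      rw [heq, Finset.mem_sdiff]
      exact ⟨Finset.mem_erase.2 ⟨hvb, Finset.mem_univ _⟩, Finset.disjoint_left.1 hdisj hv⟩
    have hex' : e ∈ (x : Subgroup H) := mem_sylow_of_fix (k := 1) (by rwa [pow_one]) hex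
    -- so the `x`-orbit of `v` would have more than `p` points
    let U := (Finset.range p).image fun i => e ^ i • v
    have hUe : U ⊆ S e := fun w hw => by
      obtain ⟨i, -, rfl⟩ := Finset.mem_image.1 hw
      exact horb b e hee hep hec v hve _ (pow_mem hee i)
    have hUc : U ⊆ S c := fun w hw => by
      obtain ⟨i, -, rfl⟩ := Finset.mem_image.1 hw
      exact horb x c hcx hcp hcc v hv _ (pow_mem hex' i)
    have hU : U.card = p := by
      exact card_powers_image hep (hS.1 hve)
    have hUeq := Finset.eq_of_subset_of_card_le hUe (by omega)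
    exact hne a hca (hUc (hUeq.symm ▸ hae)) rfl
  -- the kernel of the sign character
  let sg := (Equiv.Perm.sign).comp π
  let Hp := sg.ker
  have hsg : ∀ y : H, y ∈ Hp ↔ Equiv.Perm.sign (π y) = 1 := fun y => MonoidHom.mem_ker
  have hpw : ∀ (P : Sylow p H) {y : H}, y ∈ (P : Subgroup H) → y ^ p = 1 := by
    intro P y hy
    have h := orderOf_dvd_natCard (⟨y, hy⟩ : (P : Subgroup H))
    rw [hcardP, Subgroup.orderOf_mk] at h
    exact orderOf_dvd_iff_pow_eq_one.1 h
  have hHp : ∀ P : Sylow p H, (P : Subgroup H) ≤ Hp := by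
    intro P y hy
    rw [hsg]
    have h := congrArg (fun z => Equiv.Perm.sign (π z)) (hpw P hy)
    simp only [map_pow, map_one] at h
    rcases Int.units_eq_one_or (Equiv.Perm.sign (π y)) with e | e
    · exact e
    · rw [e, hpodd.neg_one_pow] at h; exact absurd h (by decide)
  have hgen : ∀ (P : Sylow p H) {y : H}, y ∈ (P : Subgroup H) → y ≠ 1 → zpowers y = (P : Subgroup H) := by
    intro P y hy hy1
    refine eq_of_le_of_card_ge (zpowers_le.2 hy) ?_
    rw [hcardP, Nat.card_zpowers, orderOf_eq_prime (hpw P hy) hy1]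
  -- centralizers inside `Hp`
  have hcent : ∀ (P : Sylow p H), centralizer ((P : Subgroup H) : Set H) ⊓ Hp ≤ P := by
    intro P
    obtain ⟨x, hxP, hx1⟩ := (Subgroup.bot_or_exists_ne_one (P : Subgroup H)).resolve_left fun e => by
      have := hcardP P; rw [e, Subgroup.card_bot] at this; omega
    have hkey : ∀ r : ℕ, r.Prime → r ≠ p → ∀ z : H,
        z ∈ centralizer ((P : Subgroup H) : Set H) ⊓ Hp → z ^ r = 1 → z = 1 := by
      intro r hr hrp z hz hzr
      have hc : Commute x z := (mem_centralizer_iff.1 hz.1 x hxP)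
      have h := centralizer_two_cycles hp.out hpodd hH P (σ := π x) (τ := π z)
        (by rw [orderOf_injective π hπ, orderOf_eq_prime (hpw P hxP) hx1])
        (fun v => ⟨fun hv => (eq_of_forall_fix (a := P) (x := v) fun y hy => by
            rw [← hgen P hxP hx1] at hy
            exact (zpowers_le.2 (show x ∈ MulAction.stabilizer H v from hv)) hy).symm,
          fun e => e ▸ smul_self_of_mem hxP⟩)
        (hc.map π) hr hrp (by rw [← map_pow, hzr, map_one])
      rcases h with h | h
      · exact hπ (h.trans (map_one π).symm)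
      · exact absurd ((hsg z).1 hz.2 ▸ h) (by decide)
    set C := centralizer ((P : Subgroup H) : Set H) ⊓ Hp
    have hCp : IsPGroup p C := by
      refine IsPGroup.iff_card.2 ⟨(Nat.card C).primeFactorsList.length,
        Nat.eq_prime_pow_of_unique_prime_dvd Nat.card_pos.ne' fun {r} hr hrd => ?_⟩
      by_contra hrp
      have : Fact r.Prime := ⟨hr⟩
      obtain ⟨z, hz⟩ := exists_prime_orderOf_dvd_card' r hrd
      have := hkey r hr hrp z z.2 (by
        rw [← SubmonoidClass.coe_pow, ← hz, pow_orderOf_eq_one]; rfl)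
      have h1 : z = 1 := Subtype.ext this
      rw [h1, orderOf_one] at hz
      exact hr.one_lt.ne hz
    have h2 := hCp.inf_normalizer_sylow P
    replace h2 := (inf_eq_left.2 (inf_le_left.trans (centralizer_le_normalizer _))).symm.trans h2
    exact h2.le.trans inf_le_right
  -- pass to `Hp`
  obtain ⟨P0⟩ := Sylow.nonempty (p := p) (G := Hp)
  have hcardHp : ∀ P : Sylow p Hp, Nat.card (P : Subgroup Hp) = p ∧
      centralizer ((P : Subgroup Hp) : Set Hp) ≤ P := by
    intro P
    obtain ⟨Q, hQ⟩ := IsPGroup.exists_le_sylow (P.isPGroup'.map Hp.subtype)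
    have hPQ : P = Q.subtype (hHp Q) := Sylow.ext (P.is_maximal' (Q.subtype (hHp Q)).isPGroup'
      fun x hx => hQ ⟨x, hx, rfl⟩).symm
    subst hPQ
    refine ⟨?_, fun z hz => ?_⟩
    · rw [show ((Q.subtype (hHp Q) : Sylow p Hp) : Subgroup Hp) = (Q : Subgroup H).subgroupOf Hp from rfl,
        Nat.card_congr (subgroupOfEquivOfLe (hHp Q)).toEquiv, hcardP]
    · exact hcent Q ⟨mem_centralizer_iff.2 fun y hy =>
        congrArg Subtype.val (mem_centralizer_iff.1 hz ⟨y, hHp Q hy⟩ hy), z.2⟩
  -- the normalizer quotient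
  obtain ⟨hP0, hC0⟩ := hcardHp P0
  have hnHp : Nat.card (Sylow p Hp) = 2 * p + 1 := by
    rw [sylow_subtype_card Hp hHp, Nat.card_eq_fintype_card, hH]
  have hcyc : IsCyclic (P0 : Subgroup Hp) := isCyclic_of_prime_card hP0
  set N := normalizer ((P0 : Subgroup Hp) : Set Hp) with hN
  let ψ := (P0 : Subgroup Hp).normalizerMonoidHom
  have hker : ψ.ker = (P0 : Subgroup Hp).subgroupOf N := by
    rw [Subgroup.normalizerMonoidHom_ker]
    congr 1
    refine le_antisymm hC0 ?_
    intro y hy
    exact mem_centralizer_iff.2 fun z hz =>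
      congrArg Subtype.val ((IsCyclic.isMulCommutative (α := (P0 : Subgroup Hp))).is_comm.comm ⟨z, hz⟩ ⟨y, hy⟩)
  have hAut : Nat.card (MulAut (P0 : Subgroup Hp)) = p - 1 := by
    rw [IsCyclic.card_mulAut, hP0, Nat.totient_prime hp.out]
  have hAutC : IsCyclic (MulAut (P0 : Subgroup Hp)) := by
    have := ZMod.isCyclic_units_prime hp.out
    have e := IsCyclic.mulAutMulEquiv (P0 : Subgroup Hp)
    rw [hP0] at e
    exact isCyclic_of_surjective e.symm e.symm.surjective
  set k := Nat.card ψ.range with hk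
  have hNk : Nat.card N = p * k := by
    rw [hk, ← ψ.ker.card_mul_index, Subgroup.index_ker, hker,
      Nat.card_congr (subgroupOfEquivOfLe le_normalizer).toEquiv, hP0]
  have hcardH : Nat.card Hp = (2 * p + 1) * (p * k) := by
    have h1 : N.index = 2 * p + 1 := (P0.card_eq_index_normalizer.symm.trans hnHp :)
    rw [← N.card_mul_index, hNk, h1]; ring
  have hkd : k ∣ p - 1 := hAut ▸ ψ.range.card_subgroup_dvd_card
  by_cases hkodd : Odd k
  · exact ⟨Hp, inferInstance, inferInstance, hnHp, ⟨k, hkodd, hkd, hcardH⟩, hcardHp⟩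
  -- otherwise split off the cyclic Sylow 2-subgroup
  have : Fact (Nat.Prime 2) := ⟨Nat.prime_two⟩
  obtain ⟨S0⟩ := Sylow.nonempty (p := 2) (G := N)
  have hmin : (Nat.card Hp).minFac = 2 := by
    rw [Nat.minFac_eq_two_iff, hcardH]
    exact dvd_mul_of_dvd_right (dvd_mul_of_dvd_right (even_iff_two_dvd.1 (Nat.not_odd_iff_even.1 hkodd)) p) _
  have hodd1 : ¬ 2 ∣ (2 * p + 1) := by omega
  have hS0i : ¬ 2 ∣ ((S0 : Subgroup N).map N.subtype).index := by
    have h1 : N.index = 2 * p + 1 := (P0.card_eq_index_normalizer.symm.trans hnHp :)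
    rw [Subgroup.index_map, MonoidHom.ker_eq_bot _ N.subtype_injective, sup_bot_eq, range_subtype, h1]
    exact Nat.prime_two.not_dvd_mul S0.not_dvd_index hodd1
  let T : Sylow 2 Hp := (S0.isPGroup'.map N.subtype).toSylow hS0i
  have hTc : IsCyclic (T : Subgroup Hp) := by
    have h1 : IsCyclic (S0 : Subgroup N) := by
      refine isCyclic_of_injective (ψ.comp (S0 : Subgroup N).subtype) ?_
      rw [← MonoidHom.ker_eq_bot_iff, Subgroup.eq_bot_iff_forall]
      intro z hz
      have hz' : (z : N) ∈ (P0 : Subgroup Hp).subgroupOf N := by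
        rw [← hker]; exact hz
      obtain ⟨i, hi⟩ := IsPGroup.iff_orderOf.1 S0.isPGroup' z
      have h2 := orderOf_dvd_natCard (⟨((z : N) : Hp), hz'⟩ : (P0 : Subgroup Hp))
      rw [hP0, ← Subgroup.orderOf_coe] at h2
      change orderOf ((z : N) : Hp) ∣ p at h2
      rw [Subgroup.orderOf_coe, Subgroup.orderOf_coe, hi] at h2
      rcases Nat.eq_zero_or_pos i with e | e
      · exact orderOf_eq_one_iff.1 (by rw [hi, e, pow_zero])
      · exact absurd ((Nat.prime_dvd_prime_iff_eq Nat.prime_two hp.out).1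
          ((dvd_pow_self 2 e.ne').trans h2)) (Ne.symm hp2)
    show IsCyclic ↥((S0 : Subgroup N).map N.subtype)
    exact isCyclic_of_surjective ((S0 : Subgroup N).equivMapOfInjective _ N.subtype_injective)
      (MulEquiv.surjective _)
  have hle : normalizer ((T : Subgroup Hp) : Set Hp) ≤ centralizer ((T : Subgroup Hp) : Set Hp) :=
    IsCyclic.normalizer_le_centralizer hmin hTc
  set M := (MonoidHom.transferSylow T hle).ker
  have hMc := MonoidHom.ker_transferSylow_isComplement' T hle
  have hM2 : ¬ 2 ∣ Nat.card M := MonoidHom.not_dvd_card_ker_transferSylow T hle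
  obtain ⟨t, ht⟩ := IsPGroup.iff_card.1 T.isPGroup'
  have hMP : ∀ P : Sylow p Hp, (P : Subgroup Hp) ≤ M := by
    intro P y hy
    have hyM : orderOf ((y : Hp ⧸ M)) ∣ Nat.card (T : Subgroup Hp) := by
      rw [← hMc.symm.index_eq_card, Subgroup.index_eq_card]
      exact orderOf_dvd_natCard _
    rw [ht] at hyM
    have hy2 : orderOf ((y : Hp ⧸ M)) ∣ p := by
      refine (orderOf_map_dvd (QuotientGroup.mk' M) y).trans ?_
      have h1 := orderOf_dvd_natCard (⟨y, hy⟩ : (P : Subgroup Hp))
      rwa [(hcardHp P).1, Subgroup.orderOf_mk] at h1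
    have h1 := Nat.dvd_gcd hyM hy2
    rw [(((Nat.coprime_primes Nat.prime_two hp.out).2 (Ne.symm hp2)).pow_left t).gcd_eq_one] at h1
    exact (QuotientGroup.eq_one_iff y).1 (orderOf_eq_one_iff.1 (Nat.dvd_one.1 h1))
  refine ⟨M, inferInstance, inferInstance, by rw [sylow_subtype_card M hMP, hnHp], ?_, fun P => ?_⟩
  · have hdvd : Nat.card M ∣ (2 * p + 1) * (p * k) := hcardH ▸ M.card_subgroup_dvd_card
    have hpM : (2 * p + 1) * p ∣ Nat.card M := by
      refine Nat.Coprime.mul_dvd_of_dvd_of_dvd ?_ ?_ ?_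
      · rw [Nat.coprime_comm, hp.out.coprime_iff_not_dvd]
        intro h
        exact hp.out.not_dvd_one ((Nat.dvd_add_right (Dvd.intro_left 2 rfl)).1 h)
      · obtain ⟨Q⟩ := Sylow.nonempty (p := p) (G := M)
        have h1 := Q.card_dvd_index
        rw [sylow_subtype_card M hMP, hnHp] at h1
        exact h1.trans (Subgroup.index_dvd_card _)
      · rw [← hP0]; exact Subgroup.card_dvd_of_le (hMP P0)
    obtain ⟨k', hk'⟩ := hpM
    refine ⟨k', ?_, ?_, by rw [hk', mul_assoc]⟩
    · rcases Nat.even_or_odd k' with he | ho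
      · exact absurd (hk' ▸ dvd_mul_of_dvd_right (even_iff_two_dvd.1 he) _) hM2
      · exact ho
    · refine dvd_trans ?_ hkd
      rw [hk', mul_assoc] at hdvd
      exact Nat.dvd_of_mul_dvd_mul_left hp.out.pos
        (Nat.dvd_of_mul_dvd_mul_left (by omega) hdvd)
  · obtain ⟨Q, hQ⟩ := IsPGroup.exists_le_sylow (P.isPGroup'.map M.subtype)
    have hPQ : P = Q.subtype (hMP Q) := Sylow.ext (P.is_maximal' (Q.subtype (hMP Q)).isPGroup'
      fun x hx => hQ ⟨x, hx, rfl⟩).symm
    subst hPQ
    refine ⟨?_, fun z hz => ?_⟩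
    · rw [show ((Q.subtype (hMP Q) : Sylow p M) : Subgroup M) = (Q : Subgroup Hp).subgroupOf M from rfl,
        Nat.card_congr (subgroupOfEquivOfLe (hMP Q)).toEquiv, (hcardHp Q).1]
    · exact (hcardHp Q).2 (mem_centralizer_iff.2 fun y hy =>
        congrArg Subtype.val (mem_centralizer_iff.1 hz ⟨y, hMP Q hy⟩ hy))

end Cfsg.Agent.Perm
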