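import Mathlib
import Cfsg.Agent.Lib.Perm.TwoPrimeDegree
import Cfsg.Agent.Lib.Perm.Bicirculant22

/-! No group has exactly 22 Sylow 3-subgroups. -/

namespace Cfsg.Agent.Perm.N22

open Subgroup MulAction Equiv.Perm

universe u

variable {H : Type u} [Group H] [Finite H]

theorem exists_even (G : Type u) [Group G] [Finite G] [Fact (Nat.Prime 3)]
    (hn : Nat.card (Sylow 3 G) = 22) :
    ∃ (H : Type u) (_ : Group H) (_ : Finite H) (_ : Fintype (Sylow 3 H)) (_ : DecidableEq (Sylow 3 H)),
      FaithfulSMul H (Sylow 3 H) ∧ Fintype.card (Sylow 3 H) = 22 ∧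
      ∀ h : H, Equiv.Perm.sign (MulAction.toPermHom H (Sylow 3 H) h) = 1 := by
  classical
  obtain ⟨H, _, _, hF, hH⟩ := exists_faithful_sylow_action (p := 3) G
  have : Fintype (Sylow 3 H) := Fintype.ofFinite _
  let sg := (Equiv.Perm.sign).comp (MulAction.toPermHom H (Sylow 3 H))
  have hle : ∀ P : Sylow 3 H, (P : Subgroup H) ≤ sg.ker := by
    intro P y hy
    obtain ⟨k, hk⟩ := IsPGroup.iff_orderOf.1 P.isPGroup' ⟨y, hy⟩
    rw [Subgroup.orderOf_mk] at hk
    rw [MonoidHom.mem_ker]
    have h := congrArg sg (orderOf_dvd_iff_pow_eq_one.1 (dvd_of_eq hk) : y ^ 3 ^ k = 1)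
    rw [map_pow, map_one] at h
    rcases Int.units_eq_one_or (sg y) with e | e
    · exact e
    · rw [e, ((show Odd 3 by decide).pow).neg_one_pow] at h; exact absurd h (by decide)
  let M := sg.ker
  let φ : Sylow 3 H → Sylow 3 M := fun P => P.subtype (hle P)
  have hinj : Function.Injective φ := fun P Q e => Sylow.subtype_injective e
  have hsurj : Function.Surjective φ := fun Q => by
    obtain ⟨P, hP⟩ := IsPGroup.exists_le_sylow (Q.isPGroup'.map M.subtype)
    exact ⟨P, Sylow.ext (Q.is_maximal' (P.subtype (hle P)).isPGroup' fun x hx => hP ⟨x, hx, rfl⟩)⟩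
  let e := Equiv.ofBijective φ ⟨hinj, hsurj⟩
  have heq : ∀ (m : M) (P : Sylow 3 H), e ((m : H) • P) = m • e P := fun m P =>
    (Sylow.smul_subtype (hle P) m).symm
  have : Fintype (Sylow 3 M) := Fintype.ofFinite _
  refine ⟨M, inferInstance, inferInstance, this, inferInstance, ⟨fun {a b} h => ?_⟩, ?_, fun m => ?_⟩
  · refine Subtype.ext (eq_of_smul_eq_smul fun P => e.injective ?_)
    rw [heq, heq]; exact h (e P)
  · rw [← Fintype.card_congr e, ← Nat.card_eq_fintype_card, hH, hn]
  · have h1 : MulAction.toPermHom M (Sylow 3 M) m =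
        e.permCongr (MulAction.toPermHom H (Sylow 3 H) (m : H)) := by
      refine Equiv.ext fun Q => ?_
      obtain ⟨P, rfl⟩ := e.surjective Q
      simp only [Equiv.permCongr_apply, Equiv.symm_apply_apply, MulAction.toPermHom_apply,
        MulAction.toPerm_apply]
      exact (heq m P).symm
    rw [h1, Equiv.Perm.sign_permCongr]
    exact MonoidHom.mem_ker.1 m.2

variable [Fintype (Sylow 3 H)] [DecidableEq (Sylow 3 H)] [Fact (Nat.Prime 3)]
variable [FaithfulSMul H (Sylow 3 H)]
variable (hcard : Fintype.card (Sylow 3 H) = 22)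
variable (hsgn : ∀ h : H, Equiv.Perm.sign (MulAction.toPermHom H (Sylow 3 H) h) = 1)

local notation "Ω" => Sylow 3 H

theorem inj_perm : Function.Injective (MulAction.toPermHom H (Sylow 3 H)) := MulAction.toPerm_injective

/-- The orbit of `w` under `P`, as a finset. -/
noncomputable def orb (P w : Sylow 3 H) : Finset (Sylow 3 H) :=
  (Set.toFinite (MulAction.orbit (P : Subgroup H) w)).toFinset

theorem mem_orb {P w v : Sylow 3 H} : v ∈ orb P w ↔ ∃ z ∈ (P : Subgroup H), z • w = v := by
  simp only [orb, Set.Finite.mem_toFinset, MulAction.mem_orbit_iff, Subtype.exists]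
  exact ⟨fun ⟨z, h, e⟩ => ⟨z, h, e⟩, fun ⟨z, h, e⟩ => ⟨z, h, e⟩⟩

theorem orb_self (P w : Sylow 3 H) : w ∈ orb P w := mem_orb.2 ⟨1, one_mem _, one_smul _ _⟩

theorem orb_eq {P w v : Sylow 3 H} (h : v ∈ orb P w) : orb P v = orb P w := by
  obtain ⟨z, hz, rfl⟩ := mem_orb.1 h
  ext t
  simp only [mem_orb]
  constructor
  · rintro ⟨a, ha, rfl⟩; exact ⟨a * z, mul_mem ha hz, by rw [mul_smul]⟩
  · rintro ⟨a, ha, rfl⟩
    exact ⟨a * z⁻¹, mul_mem ha (inv_mem hz), by rw [mul_smul, inv_smul_smul]⟩

theorem self_not_mem_orb {P w : Sylow 3 H} (hw : w ≠ P) : P ∉ orb P w := by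
  intro h
  obtain ⟨z, hz, e⟩ := mem_orb.1 h
  exact hw (MulAction.injective z (e.trans (smul_self_of_mem hz).symm))

include hcard in
theorem card_orb (P w : Sylow 3 H) (hw : w ≠ P) : (orb P w).card = 3 ∨ (orb P w).card = 9 := by
  obtain ⟨n, hn⟩ := P.isPGroup'.card_orbit w
  have h1 : (orb P w).card = 3 ^ n := by
    rw [← hn, Nat.card_coe_set_eq, orb, Set.ncard_eq_toFinset_card]
  have h2 : (orb P w).card ≤ 21 := by
    have : orb P w ⊆ Finset.univ.erase P := fun v hv =>
      Finset.mem_erase.2 ⟨fun e => self_not_mem_orb hw (e ▸ hv), Finset.mem_univ _⟩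
    have := Finset.card_le_card this
    rw [Finset.card_erase_of_mem (Finset.mem_univ _), Finset.card_univ, hcard] at this
    omega
  have h3 : (orb P w).card ≠ 1 := by
    intro e
    obtain ⟨a, ha⟩ := Finset.card_eq_one.1 e
    refine hw (eq_of_forall_fix (a := P) (x := w) fun y hy => ?_).symm
    have h4 : y • w ∈ orb P w := mem_orb.2 ⟨y, hy, rfl⟩
    have h5 := orb_self P w
    rw [ha, Finset.mem_singleton] at h4 h5
    rw [h4, h5]
  rcases Nat.lt_or_ge n 3 with h | h
  · interval_cases n <;> simp_all
  · have : 3 ^ 3 ≤ 3 ^ n := Nat.pow_le_pow_right (by norm_num) h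
    omega

theorem smul_orb {g : H} {P : Sylow 3 H} (hg : g • P = P) (w : Sylow 3 H) :
    (orb P w).image (fun v => g • v) = orb P (g • w) := by
  have hN : g ∈ normalizer ((P : Subgroup H) : Set H) := Sylow.smul_eq_iff_mem_normalizer.1 hg
  ext t
  simp only [Finset.mem_image, mem_orb]
  constructor
  · rintro ⟨v, ⟨z, hz, rfl⟩, rfl⟩
    exact ⟨g * z * g⁻¹, (mem_normalizer_iff.1 hN z).1 hz, by simp [smul_smul, mul_assoc]⟩
  · rintro ⟨z, hz, rfl⟩
    refine ⟨(g⁻¹ * z * g) • w, ⟨g⁻¹ * z * g, ?_, rfl⟩, by simp [smul_smul, mul_assoc]⟩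
    have := (mem_normalizer_iff.1 (inv_mem hN) z).1 hz
    rwa [inv_inv] at this

section Eleven

variable [Fact (Nat.Prime 11)]

include hcard in
theorem eleven_fixed_point_free {x : H} (hx : x ^ 11 = 1) (hx1 : x ≠ 1) (u : Sylow 3 H) :
    x • u ≠ u := by
  intro hu
  apply hx1
  refine eq_of_smul_eq_smul fun w : Ω => ?_
  rw [one_smul]
  by_contra hw
  have hwu : w ≠ u := fun e => hw (e ▸ hu)
  by_cases hin : x • w ∈ orb u w
  · -- the eleven images lie in one orbit
    have hall : ∀ i : ℕ, x ^ i • w ∈ orb u w := by
      intro i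
      induction i with
      | zero => rw [pow_zero, one_smul]; exact orb_self u w
      | succ i ih =>
        rw [pow_succ', mul_smul, ← orb_eq hin, ← smul_orb hu]
        exact Finset.mem_image_of_mem _ ih
    have h1 := card_powers_image (p := 11) hx hw
    have h2 : ((Finset.range 11).image fun i => x ^ i • w) ⊆ orb u w := fun t ht => by
      obtain ⟨i, -, rfl⟩ := Finset.mem_image.1 ht
      exact hall i
    have := Finset.card_le_card h2
    rcases card_orb hcard u w hwu with e | e <;> omega
  · -- the eleven orbits are different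
    let f : ℕ → Finset Ω := fun i => orb u (x ^ i • w)
    have hfix : ∀ i : ℕ, x ^ i • u = u := fun i =>
      (show x ^ i ∈ MulAction.stabilizer H u from pow_mem hu i)
    have hdisj : ∀ i j : ℕ, i < 11 → j < 11 → i < j → Disjoint (f i) (f j) := by
      intro i j hi hj hij
      rw [Finset.disjoint_left]
      intro t hti htj
      have e : f i = f j := (orb_eq hti).symm.trans (orb_eq htj)
      have e' : orb u w = orb u (x ^ (j - i) • w) := by
        have h := congrArg (Finset.image fun v => (x ^ i)⁻¹ • v) e
        have hinv : (x ^ i)⁻¹ • u = u := by rw [inv_smul_eq_iff, hfix]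
        simp only [f, smul_orb hinv, inv_smul_smul] at h
        rwa [show x ^ j = x ^ i * x ^ (j - i) by rw [← pow_add]; congr 1; omega, mul_smul,
          inv_smul_smul] at h
      apply hin
      have hcop : (j - i).Coprime (orderOf x) := by
        refine Nat.Coprime.coprime_dvd_right (orderOf_dvd_of_pow_eq_one hx) ?_
        rw [Nat.coprime_comm, (Fact.out (p := Nat.Prime 11)).coprime_iff_not_dvd]
        intro hd; have := Nat.le_of_dvd (by omega) hd; omega
      obtain ⟨m, hm⟩ := exists_pow_eq_self_of_coprime hcop
      have hpow : ∀ k : ℕ, orb u ((x ^ (j - i)) ^ k • w) = orb u w := by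
        intro k
        induction k with
        | zero => rw [pow_zero, one_smul]
        | succ k ih =>
          rw [pow_succ', mul_smul, ← smul_orb (hfix _), ih, smul_orb (hfix _), ← e']
      have := hpow m
      rw [hm] at this
      exact this ▸ orb_self u (x • w)
    have h1 : ((Finset.range 11).biUnion f).card ≤ 22 := by
      rw [← hcard]; exact Finset.card_le_univ _
    rw [Finset.card_biUnion ?_] at h1
    · have h2 : (Finset.range 11).card • 3 ≤ ∑ i ∈ Finset.range 11, (f i).card :=
        Finset.card_nsmul_le_sum _ _ _ fun i _ => by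
          have : x ^ i • w ≠ u := fun e => hwu (MulAction.injective (x ^ i) (e.trans (hfix i).symm))
          rcases card_orb hcard u _ this with e | e <;> simp only [f] <;> omega
      simp at h2
      omega
    · intro i hi j hj hij
      simp only [Finset.coe_range, Set.mem_Iio] at hi hj
      rcases Nat.lt_or_gt_of_ne hij with h | h
      · exact hdisj i j hi hj h
      · exact (hdisj j i hj hi h).symm

include hcard in
theorem stabilizer_not_eleven (u : Sylow 3 H) : ¬ 11 ∣ Nat.card (stabilizer H u) := by
  intro h
  obtain ⟨x, hx⟩ := exists_prime_orderOf_dvd_card' 11 h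
  rw [← Subgroup.orderOf_coe] at hx
  refine eleven_fixed_point_free hcard (x := (x : H)) (hx ▸ pow_orderOf_eq_one _) ?_ u x.2
  intro e; rw [e, orderOf_one] at hx; omega

include hcard in
theorem card_eq_mul_stabilizer (u : Sylow 3 H) : Nat.card H = 22 * Nat.card (stabilizer H u) := by
  rw [← (stabilizer H u).card_mul_index, MulAction.index_stabilizer_of_transitive,
    Nat.card_eq_fintype_card (α := Ω), hcard, mul_comm]

end Eleven

/-- A commuting element of prime order next to two eleven-cycles. -/
theorem centralizer_two_elevens {α : Type*} [Fintype α] [DecidableEq α] (hn : Fintype.card α = 22)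
    {σ τ : Equiv.Perm α} (hσ : orderOf σ = 11) (hfix : ∀ v, σ v ≠ v)
    (hc : Commute σ τ) {r : ℕ} (hr : r.Prime) (hrp : r ≠ 11) (hτ : τ ^ r = 1) :
    τ = 1 ∨ Equiv.Perm.sign τ = -1 := by
  have hsupp : σ.support = Finset.univ := by
    ext v; simp [Equiv.Perm.mem_support, hfix]
  obtain ⟨n, hct⟩ := cycleType_prime_order (σ := σ) (by rw [hσ]; norm_num)
  have htwo : σ.cycleFactorsFinset.card = 2 := by
    have h := sum_cycleType σ
    rw [hct, Multiset.sum_replicate, hσ, hsupp, Finset.card_univ, hn, smul_eq_mul] at h
    have : σ.cycleType.card = 2 := by rw [hct, Multiset.card_replicate]; omega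
    simpa [cycleType_def] using this
  have key : ∀ {u v}, σ.cycleOf u = σ.cycleOf v → σ.SameCycle u v := by
    intro u v e
    have h1 : v ∈ (σ.cycleOf v).support :=
      mem_support_cycleOf_iff.2 ⟨SameCycle.refl _ _, by simp [hsupp]⟩
    rw [← e] at h1
    exact (mem_support_cycleOf_iff.1 h1).1
  have hpig : ∀ u v w : α, σ.SameCycle u v ∨ σ.SameCycle v w ∨ σ.SameCycle u w := by
    intro u v w
    by_contra hne
    rw [not_or, not_or] at hne
    have hsub : ({σ.cycleOf u, σ.cycleOf v, σ.cycleOf w} : Finset _) ⊆ σ.cycleFactorsFinset := by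
      intro x hx
      simp only [Finset.mem_insert, Finset.mem_singleton] at hx
      rcases hx with rfl | rfl | rfl <;>
        exact cycleOf_mem_cycleFactorsFinset_iff.2 (by simp [hsupp])
    have h3 : ({σ.cycleOf u, σ.cycleOf v, σ.cycleOf w} : Finset _).card = 3 :=
      Finset.card_eq_three.2 ⟨_, _, _, fun e => hne.1 (key e), fun e => hne.2.2 (key e),
        fun e => hne.2.1 (key e), rfl⟩
    have := Finset.card_le_card hsub
    omega
  have hshift : ∀ (ρ : Equiv.Perm α), Commute σ ρ → ρ ^ r = 1 → ∀ w, σ.SameCycle w (ρ w) → ρ w = w := by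
    intro ρ hρc hρr w hw
    obtain ⟨i, hi⟩ := hw.exists_nat_pow_eq
    have hj : ∀ j : ℕ, (ρ ^ j) w = (σ ^ (i * j)) w := by
      intro j
      induction j with
      | zero => simp
      | succ j ih =>
        rw [pow_succ', Equiv.Perm.mul_apply, ih, ← Equiv.Perm.mul_apply, ← (hρc.pow_left _).eq,
          Equiv.Perm.mul_apply, ← hi, ← Equiv.Perm.mul_apply, ← pow_add, Nat.mul_succ]
    have h1 : (σ ^ (i * r)) w = w := by rw [← hj r, hρr]; rfl
    have hcop : r.Coprime (orderOf (σ ^ i)) :=
      ((Nat.coprime_primes hr (by norm_num)).2 hrp).coprime_dvd_right (hσ ▸ orderOf_pow_dvd i)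
    obtain ⟨m, hm⟩ := exists_pow_eq_self_of_coprime hcop
    rw [← hi]
    have h2 : ∀ (k : ℕ), (((σ ^ i) ^ r) ^ k) w = w := fun k =>
      Equiv.Perm.pow_apply_eq_self_of_apply_eq_self (by rw [← pow_mul]; exact h1) k
    have := h2 m
    rwa [hm] at this
  by_cases h1 : τ = 1
  · exact Or.inl h1
  right
  have hmove : ∀ v, τ v ≠ v := by
    intro v hv'
    apply h1
    have hcyc : ∀ u, σ.SameCycle v u → τ u = u := by
      intro u hu
      obtain ⟨i, rfl⟩ := hu.exists_nat_pow_eq
      rw [← Equiv.Perm.mul_apply, ← (hc.pow_left i).eq, Equiv.Perm.mul_apply, hv']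
    ext w
    rw [Equiv.Perm.one_apply]
    rcases hpig v w (τ w) with h | h | h
    · exact hcyc w h
    · exact hshift τ hc hτ w h
    · exact τ.injective (hcyc _ h)
  have hsq : τ ^ 2 = 1 := by
    ext w
    rw [Equiv.Perm.one_apply]
    apply hshift (τ ^ 2) (hc.pow_right 2) (by rw [← pow_mul, mul_comm, pow_mul, hτ, one_pow])
    rw [pow_two, Equiv.Perm.mul_apply]
    rcases hpig w (τ w) (τ (τ w)) with h | h | h
    · exact absurd (hshift τ hc hτ w h) (hmove w)
    · exact absurd (hshift τ hc hτ _ h) (hmove _)
    · exact h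
  have hord : orderOf τ = 2 := by
    have : Fact (Nat.Prime 2) := ⟨Nat.prime_two⟩
    exact orderOf_eq_prime hsq h1
  have hsupp2 : τ.support = Finset.univ := by
    ext v; simp [Equiv.Perm.mem_support, hmove]
  obtain ⟨m, hm⟩ := cycleType_prime_order (σ := τ) (by rw [hord]; exact Nat.prime_two)
  have hm1 : m + 1 = 11 := by
    have := sum_cycleType τ
    rw [hm, Multiset.sum_replicate, hord, hsupp2, Finset.card_univ, hn, smul_eq_mul] at this
    omega
  rw [sign_of_cycleType, hm, Multiset.sum_replicate, Multiset.card_replicate, hm1, hord, smul_eq_mul]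
  decide

/-- A fixed point free involution of 22 points is odd. -/
theorem sign_fpf_involution {α : Type*} [Fintype α] [DecidableEq α] {τ : Equiv.Perm α} {m : ℕ}
    (h2 : orderOf τ = 2) (hs : τ.support.card = 2 * m) (hm : Odd m) :
    Equiv.Perm.sign τ = -1 := by
  obtain ⟨j, hj⟩ := cycleType_prime_order (σ := τ) (by rw [h2]; exact Nat.prime_two)
  have hj1 : j + 1 = m := by
    have := sum_cycleType τ
    rw [hj, Multiset.sum_replicate, h2, hs, smul_eq_mul] at this
    omega
  rw [sign_of_cycleType, hj, Multiset.sum_replicate, Multiset.card_replicate, hj1, h2, smul_eq_mul,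
    show m * 2 + m = 3 * m by ring]
  exact (((show Odd 3 by decide).mul hm).neg_one_pow)

/-- A power of a prime-order element fixing a set has a fixed point count congruent to its card. -/
theorem card_modEq_fixed {G α : Type*} [Group G] [MulAction G α] [DecidableEq α] {q : ℕ}
    [hq : Fact q.Prime] {y : G} (hy : y ^ q = 1) (s : Finset α) (hs : ∀ v ∈ s, y • v ∈ s) :
    s.card ≡ (s.filter fun v => y • v = v).card [MOD q] := by
  let p : α → Prop := fun v => v ∈ s
  let π : Equiv.Perm α := MulAction.toPerm y
  have hp : ∀ v, p (π v) ↔ p v := by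
    refine fun v => ⟨fun h => ?_, hs v⟩
    have hk : ∀ k : ℕ, y ^ k • (y • v) ∈ s := by
      intro k
      induction k with
      | zero => rw [pow_zero, one_smul]; exact h
      | succ k ih => rw [pow_succ', mul_smul]; exact hs _ ih
    have := hk (q - 1)
    rwa [smul_smul, ← pow_succ, Nat.sub_add_cancel hq.out.one_le, hy, one_smul] at this
  let τ : Equiv.Perm {v // v ∈ s} := π.subtypePerm hp
  have hτ : τ ^ q ^ 1 = 1 := by
    rw [pow_one]
    ext v
    simp only [τ, Equiv.Perm.subtypePerm_pow, Equiv.Perm.subtypePerm_apply, Equiv.Perm.one_apply]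
    show ((MulAction.toPermHom G α y) ^ q) v.1 = v.1
    rw [← map_pow, hy, map_one, Equiv.Perm.one_apply]
  have h := Equiv.Perm.card_compl_support_modEq hτ
  rw [Fintype.card_coe] at h
  refine h.symm.trans ?_
  have : (τ.supportᶜ).map (Function.Embedding.subtype _) = s.filter fun v => y • v = v := by
    ext v
    simp only [Finset.mem_map, Finset.mem_compl, Equiv.Perm.notMem_support, Function.Embedding.subtype_apply,
      Finset.mem_filter]
    constructor
    · rintro ⟨w, hw, rfl⟩; exact ⟨w.2, congrArg Subtype.val hw⟩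
    · rintro ⟨hv, hf⟩; exact ⟨⟨v, hv⟩, Subtype.ext hf, rfl⟩
  rw [← this, Finset.card_map]

section Reflection

variable [Fact (Nat.Prime 11)]

set_option maxHeartbeats 1600000 in
include hcard hsgn in
/-- An element of order 11 is inverted by an involution fixing exactly two points. -/
theorem exists_reflection :
    ∃ (x y : H) (u v : Sylow 3 H), orderOf x = 11 ∧ y * y = 1 ∧ y • u = u ∧ y • v = v ∧
      y * x * y = x⁻¹ ∧ (∀ k : ℕ, x ^ k • u ≠ v) ∧ (∀ w, y • w = w → w = u ∨ w = v) ∧
      Nat.card (stabilizer H u) ≡ 1 [MOD 11] := by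
  obtain ⟨P⟩ := Sylow.nonempty (p := 3) (G := H)
  obtain ⟨R⟩ := Sylow.nonempty (p := 11) (G := H)
  have hnot := stabilizer_not_eleven hcard P
  have hH := card_eq_mul_stabilizer hcard P
  have hfac : (Nat.card H).factorization 11 = 1 := by
    rw [hH, show 22 = 11 * 2 by norm_num, mul_assoc,
      Nat.factorization_mul (by norm_num) (Nat.mul_ne_zero (by norm_num) Nat.card_pos.ne')]
    have h0 : ¬ 11 ∣ 2 * Nat.card (stabilizer H P) :=
      (Fact.out (p := Nat.Prime 11)).not_dvd_mul (by norm_num) hnot
    rw [Finsupp.add_apply, Nat.Prime.factorization_self (show Nat.Prime 11 by norm_num),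
      Nat.factorization_eq_zero_of_not_dvd h0]
  have hR : Nat.card (R : Subgroup H) = 11 := by
    rw [Sylow.card_eq_multiplicity, hfac, pow_one]
  have hcyc : IsCyclic (R : Subgroup H) := isCyclic_of_prime_card hR
  obtain ⟨x, hxR, hx1⟩ := (Subgroup.bot_or_exists_ne_one (R : Subgroup H)).resolve_left fun e => by
    rw [e, Subgroup.card_bot] at hR; omega
  have hpow : ∀ z ∈ (R : Subgroup H), z ^ 11 = 1 := by
    intro z hz
    have h := orderOf_dvd_natCard (⟨z, hz⟩ : (R : Subgroup H))
    rw [hR, Subgroup.orderOf_mk] at h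
    exact orderOf_dvd_iff_pow_eq_one.1 h
  have hord : orderOf x = 11 := orderOf_eq_prime (hpow x hxR) hx1
  have hgen : ∀ z ∈ (R : Subgroup H), z ≠ 1 → zpowers z = (R : Subgroup H) := by
    intro z hz hz1
    refine eq_of_le_of_card_ge (zpowers_le.2 hz) ?_
    rw [hR, Nat.card_zpowers, orderOf_eq_prime (hpow z hz) hz1]
  have hcomR : ∀ a ∈ (R : Subgroup H), ∀ b ∈ (R : Subgroup H), Commute a b := fun a ha b hb =>
    congrArg Subtype.val ((IsCyclic.isMulCommutative (α := (R : Subgroup H))).is_comm.comm ⟨a, ha⟩ ⟨b, hb⟩)
  let π := MulAction.toPermHom H (Sylow 3 H)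
  have hπ : Function.Injective π := inj_perm
  have hfpf : ∀ w, x • w ≠ w := eleven_fixed_point_free hcard (hpow x hxR) hx1
  -- the centralizer
  have hcent : ∀ z, Commute x z → z ∈ (R : Subgroup H) := by
    intro z hz
    set C := centralizer ({x} : Set H) with hC
    have hmem : ∀ {w}, w ∈ C → Commute x w := fun {w} hw => mem_centralizer_iff.1 hw x rfl
    have hCp : IsPGroup 11 C := by
      refine IsPGroup.iff_card.2 ⟨(Nat.card C).primeFactorsList.length,
        Nat.eq_prime_pow_of_unique_prime_dvd Nat.card_pos.ne' fun {r} hr hrd => ?_⟩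
      by_contra hrp
      have : Fact r.Prime := ⟨hr⟩
      obtain ⟨w, hw⟩ := exists_prime_orderOf_dvd_card' r hrd
      have hwr : (w : H) ^ r = 1 := by
        rw [← SubmonoidClass.coe_pow, ← hw, pow_orderOf_eq_one]; rfl
      have h := centralizer_two_elevens (α := Ω) hcard (σ := π x) (τ := π w)
        (by rw [orderOf_injective π hπ, hord]) hfpf ((hmem w.2).map π) hr hrp
        (by rw [← map_pow, hwr, map_one])
      rcases h with h | h
      · rw [show w = 1 from Subtype.ext (hπ (h.trans (map_one π).symm)), orderOf_one] at hw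
        exact hr.one_lt.ne hw
      · exact absurd ((hsgn (w : H)).symm.trans h) (by decide)
    have hRC : (R : Subgroup H) ≤ C := fun w hw => mem_centralizer_iff.2 fun t ht => by
      rw [Set.mem_singleton_iff.1 ht]; exact hcomR x hxR w hw
    rw [← R.is_maximal' hCp hRC]
    exact mem_centralizer_iff.2 fun t ht => by rw [Set.mem_singleton_iff.1 ht]; exact hz
  set K := normalizer ((R : Subgroup H) : Set H) with hK
  have hcR : centralizer ((R : Subgroup H) : Set H) ≤ (R : Subgroup H) := fun w hw =>
    hcent w (mem_centralizer_iff.1 hw x hxR)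
  let ψ := (R : Subgroup H).normalizerMonoidHom
  have hker : ψ.ker = (R : Subgroup H).subgroupOf K := by
    rw [Subgroup.normalizerMonoidHom_ker]
    congr 1
    exact le_antisymm hcR fun a ha => mem_centralizer_iff.2 fun b hb => hcomR b hb a ha
  have hKc : Nat.card K = 11 * Nat.card ψ.range := by
    rw [← ψ.ker.card_mul_index, Subgroup.index_ker, hker,
      Nat.card_congr (subgroupOfEquivOfLe le_normalizer).toEquiv, hR]
  have hrange : Nat.card ψ.range ∣ 10 := by
    have h3 : Nat.card (MulAut (R : Subgroup H)) = 10 := by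
      rw [IsCyclic.card_mulAut, hR, Nat.totient_prime (by norm_num)]
    exact h3 ▸ ψ.range.card_subgroup_dvd_card
  -- elements normalising `R` of prime order `q`
  have hconj : ∀ y ∈ K, ∀ z ∈ (R : Subgroup H), y * z * y⁻¹ ∈ (R : Subgroup H) := fun y hy z hz =>
    (mem_normalizer_iff.1 hy z).1 hz
  obtain ⟨U, hUdef⟩ : ∃ U : Ω → Finset Ω,
    ∀ w, U w = (Finset.range 11).image fun i => x ^ i • w := ⟨_, fun w => rfl⟩
  have hU : ∀ w, (U w).card = 11 := fun w => by
    rw [hUdef]; exact card_powers_image (hpow x hxR) (hfpf w)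
  have hUR : ∀ w t, t ∈ U w ↔ ∃ z ∈ (R : Subgroup H), z • w = t := by
    intro w t
    rw [hUdef]
    constructor
    · intro ht
      obtain ⟨i, -, rfl⟩ := Finset.mem_image.1 ht
      exact ⟨x ^ i, pow_mem hxR i, rfl⟩
    · rintro ⟨z, hz, rfl⟩
      rw [← hgen x hxR hx1] at hz
      obtain ⟨i, rfl⟩ := (mem_powers_iff_mem_zpowers).2 hz
      refine Finset.mem_image.2 ⟨i % 11, Finset.mem_range.2 (Nat.mod_lt _ (by norm_num)), ?_⟩
      rw [← hord, pow_mod_orderOf]
  have hUeq : ∀ w t, t ∈ U w → U t = U w := by
    intro w t ht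
    obtain ⟨z, hz, rfl⟩ := (hUR w t).1 ht
    ext a
    simp only [hUR]
    constructor
    · rintro ⟨b, hb, rfl⟩; exact ⟨b * z, mul_mem hb hz, by rw [mul_smul]⟩
    · rintro ⟨b, hb, rfl⟩
      exact ⟨b * z⁻¹, mul_mem hb (inv_mem hz), by rw [mul_smul, inv_smul_smul]⟩
  have huniq : ∀ y ∈ K, y ∉ (R : Subgroup H) → ∀ a b, y • a = a → y • b = b → b ∈ U a → a = b := by
    intro y hy hyR a b ha hb hab
    obtain ⟨z, hz, rfl⟩ := (hUR a b).1 hab
    have hz1 : z⁻¹ * (y * z * y⁻¹) ∈ (R : Subgroup H) := mul_mem (inv_mem hz) (hconj y hy z hz)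
    have hfix : (z⁻¹ * (y * z * y⁻¹)) • a = a := by
      rw [mul_smul, mul_smul, mul_smul, inv_smul_eq_iff.2 ha.symm, hb, inv_smul_smul]
    by_contra hne
    have hz' : z ≠ 1 := fun e => hne (by rw [e, one_smul])
    have h1 : z⁻¹ * (y * z * y⁻¹) = 1 := by
      by_contra h
      exact eleven_fixed_point_free hcard (hpow _ hz1) h a hfix
    have hcz : Commute z y := by
      have h2 : y * z * y⁻¹ = z := (inv_mul_eq_one.1 h1).symm
      exact (mul_inv_eq_iff_eq_mul.1 h2).symm
    apply hyR
    have : x ∈ zpowers z := by rw [hgen z hz hz']; exact hxR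
    obtain ⟨i, rfl⟩ := this
    exact hcent y (hcz.zpow_left i)
  have hmap : ∀ y ∈ K, ∀ w t, t ∈ U w → y • t ∈ U (y • w) := by
    intro y hy w t ht
    obtain ⟨z, hz, rfl⟩ := (hUR w t).1 ht
    exact (hUR _ _).2 ⟨y * z * y⁻¹, hconj y hy z hz, by simp [smul_smul, mul_assoc]⟩
  have hself : ∀ w, w ∈ U w := fun w => (hUR w w).2 ⟨1, one_mem _, one_smul _ _⟩
  obtain ⟨a0⟩ : Nonempty Ω := Fintype.card_pos_iff.1 (by omega)
  obtain ⟨b0, -, hb0⟩ := Finset.exists_mem_notMem_of_card_lt_card
    (show (U a0).card < (Finset.univ : Finset Ω).card by rw [hU, Finset.card_univ, hcard]; norm_num)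
  have htwo : ∀ w, w ∈ U a0 ∨ w ∈ U b0 := by
    have hd : Disjoint (U a0) (U b0) := Finset.disjoint_left.2 fun t h1 h2 =>
      hb0 (by rw [← hUeq _ _ h1, hUeq _ _ h2]; exact hself b0)
    have h : U a0 ∪ U b0 = Finset.univ := Finset.eq_univ_of_card _ (by
      rw [Finset.card_union_of_disjoint hd, hU, hU, hcard])
    intro w
    exact Finset.mem_union.1 (h ▸ Finset.mem_univ w)
  have htwo' : ∀ w t, w ∈ U t ∨ ∀ r, r ∉ U t → r ∈ U w := by
    intro w t
    by_cases h : w ∈ U t
    · exact Or.inl h
    right
    intro r hr
    rcases htwo t with ht | ht <;> rw [← hUeq _ _ ht] at htwo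
    · rcases htwo w with h' | h'
      · exact absurd h' h
      · rcases htwo r with r' | r'
        · exact absurd r' hr
        · rw [hUeq _ _ h']; exact r'
    · rcases htwo w with h' | h'
      · rcases htwo r with r' | r'
        · rw [hUeq _ _ h']; exact r'
        · exact absurd r' hr
      · exact absurd h' h
  -- no normalising element of order five
  have h5 : ¬ 5 ∣ Nat.card ψ.range := by
    intro h5
    have : Fact (Nat.Prime 5) := ⟨by norm_num⟩
    obtain ⟨y', hy'⟩ := exists_prime_orderOf_dvd_card' (G := K) 5 (hKc ▸ dvd_mul_of_dvd_right h5 11)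
    obtain ⟨y, hyK⟩ := y'
    rw [Subgroup.orderOf_mk] at hy'
    have hy5 : y ^ 5 = 1 := hy' ▸ pow_orderOf_eq_one y
    have hyR : y ∉ (R : Subgroup H) := fun h => by
      have := orderOf_dvd_of_pow_eq_one (hpow y h)
      rw [hy'] at this; omega
    have hfixpt : ∀ w, ∃ t ∈ U w, y • t = t := by
      intro w
      have hinv : y • w ∈ U w := by
        by_contra hno
        have hiff : ∀ t, y • t ∈ U w ↔ t ∉ U w := by
          intro t
          constructor
          · intro ht htw
            exact hno (by rw [← hUeq _ _ ht, hUeq _ _ (hmap y hyK w t htw)]; exact hself _)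
          · intro ht
            rcases htwo' (y • t) w with h | h
            · exact h
            · exfalso
              have h1 : y • w ∈ U (y • t) := h _ hno
              have h2 := hmap _ (inv_mem hyK) _ _ h1
              rw [inv_smul_smul, inv_smul_smul] at h2
              exact ht (by rw [hUeq _ _ h2]; exact hself t)
        have : ∀ k : ℕ, y ^ k • w ∈ U w ↔ Even k := by
          intro k
          induction k with
          | zero => simpa using hself w
          | succ k ih => rw [pow_succ', mul_smul, hiff, ih, Nat.even_add_one]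
        have h := (this 5).1 (by rw [hy5, one_smul]; exact hself w)
        exact absurd h (by decide)
      have h := card_modEq_fixed hy5 (U w) fun t ht => by
        have := hmap y hyK w t ht
        rwa [hUeq _ _ hinv] at this
      rw [hU] at h
      obtain ⟨t, ht⟩ := Finset.card_pos.1 (Nat.pos_of_ne_zero fun e => by
        rw [e] at h; exact absurd h (by decide) : 0 < ((U w).filter fun t => y • t = t).card)
      exact ⟨t, (Finset.mem_filter.1 ht).1, (Finset.mem_filter.1 ht).2⟩
    obtain ⟨u, hu, hyu⟩ := hfixpt a0
    obtain ⟨v, hv, hyv⟩ := hfixpt b0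
    have huv : v ≠ u := fun e => hb0 (by
      rw [← hUeq _ _ hu, ← e, hUeq _ _ hv]; exact hself b0)
    have h := card_modEq_fixed hy5 (orb u v) fun t ht => by
      have h1 := smul_orb hyu v
      rw [hyv] at h1
      exact h1 ▸ Finset.mem_image_of_mem _ ht
    have hone : ((orb u v).filter fun t => y • t = t) = {v} := by
      ext t
      simp only [Finset.mem_filter, Finset.mem_singleton]
      refine ⟨fun ⟨ht, hyt⟩ => ?_, fun e => by rw [e]; exact ⟨orb_self u v, hyv⟩⟩
      rcases htwo t with h' | h'
      · exact absurd ht (huniq y hyK hyR u t hyu hyt (by rw [hUeq _ _ hu]; exact h') ▸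
          self_not_mem_orb huv)
      · exact (huniq y hyK hyR v t hyv hyt (by rw [hUeq _ _ hv]; exact h')).symm
    rw [hone, Finset.card_singleton] at h
    rcases card_orb hcard u v huv with e | e <;> rw [e] at h <;> exact absurd h (by decide)
  have he : Nat.card ψ.range = 2 := by
    have h12 : Nat.card ψ.range = 1 ∨ Nat.card ψ.range = 2 := by
      have h := Nat.mem_divisors.2 ⟨hrange, by norm_num⟩
      rw [show Nat.divisors 10 = {1, 2, 5, 10} by decide] at h
      simp only [Finset.mem_insert, Finset.mem_singleton] at h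
      rcases h with e | e | e | e
      · exact Or.inl e
      · exact Or.inr e
      all_goals exact absurd (e ▸ (by norm_num)) h5
    refine h12.resolve_left fun e => ?_
    -- Burnside's transfer theorem
    have hKR : K = (R : Subgroup H) := by
      refine (eq_of_le_of_card_ge le_normalizer ?_).symm
      rw [hKc, e, hR]
    have hle : normalizer ((R : Subgroup H) : Set H) ≤ centralizer ((R : Subgroup H) : Set H) := by
      rw [← hK, hKR]
      exact fun a ha => mem_centralizer_iff.2 fun b hb => hcomR b hb a ha
    set M := (MonoidHom.transferSylow R hle).ker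
    have hMi : M.index = 11 :=
      (MonoidHom.ker_transferSylow_isComplement' R hle).symm.index_eq_card.trans hR
    have hMP : ∀ Q : Sylow 3 H, (Q : Subgroup H) ≤ M := by
      intro Q z hz
      obtain ⟨k, hk⟩ := IsPGroup.iff_orderOf.1 Q.isPGroup' ⟨z, hz⟩
      rw [Subgroup.orderOf_mk] at hk
      have h1 : orderOf ((z : H ⧸ M)) ∣ 11 := by
        have h3 := orderOf_dvd_natCard ((z : H ⧸ M))
        rwa [← Subgroup.index_eq_card, hMi] at h3
      have h2 : orderOf ((z : H ⧸ M)) ∣ 3 ^ k := hk ▸ orderOf_map_dvd (QuotientGroup.mk' M) z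
      have h3 := Nat.dvd_gcd h1 h2
      rw [((Nat.Coprime.pow_right k (by norm_num : Nat.Coprime 11 3))).gcd_eq_one] at h3
      exact (QuotientGroup.eq_one_iff z).1 (orderOf_eq_one_iff.1 (Nat.dvd_one.1 h3))
    obtain ⟨Q⟩ := Sylow.nonempty (p := 3) (G := M)
    have h4 := Q.card_dvd_index.trans (Q : Subgroup M).index_dvd_card
    rw [sylow_subtype_card M hMP, Nat.card_eq_fintype_card, hcard] at h4
    exact MonoidHom.not_dvd_card_ker_transferSylow R hle ((by norm_num : 11 ∣ 22).trans h4)
  have : Fact (Nat.Prime 2) := ⟨Nat.prime_two⟩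
  obtain ⟨⟨y, hyK⟩, hy'⟩ := exists_prime_orderOf_dvd_card' (G := K) 2
    (by rw [hKc, he]; norm_num)
  rw [Subgroup.orderOf_mk] at hy'
  have hyy : y * y = 1 := by rw [← pow_two, ← hy', pow_orderOf_eq_one]
  have hyinv : y⁻¹ = y := inv_eq_of_mul_eq_one_left hyy
  have hyR : y ∉ (R : Subgroup H) := fun h => by
    have := orderOf_dvd_of_pow_eq_one (hpow y h)
    rw [hy'] at this; omega
  have hinvert : y * x * y = x⁻¹ := by
    have h1 : y * x * y ∈ (R : Subgroup H) := by
      have := hconj y hyK x hxR
      rwa [hyinv] at this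
    set z := x * (y * x * y) with hz
    have hzR : z ∈ (R : Subgroup H) := mul_mem hxR h1
    have hzy : y * z * y = z := by
      rw [hz, (hcomR x hxR _ h1).eq]
      calc y * (y * x * y * x) * y = (y * y) * (x * (y * x * y)) := by group
        _ = x * (y * x * y) := by rw [hyy, one_mul]
        _ = y * x * y * x := (hcomR x hxR _ h1).eq
    by_contra hne
    have hz1 : z ≠ 1 := fun e => hne (eq_inv_of_mul_eq_one_right e)
    apply hyR
    have : x ∈ zpowers z := by rw [hgen z hzR hz1]; exact hxR
    obtain ⟨i, hi⟩ := this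
    have hc : Commute z y := by
      show z * y = y * z
      calc z * y = (y * z * y) * y := by rw [hzy]
        _ = y * z * (y * y) := by group
        _ = y * z := by rw [hyy, mul_one]
    exact hcent y (hi ▸ hc.zpow_left i)
  have hfixpt : ∀ w, ∃ t ∈ U w, y • t = t := by
    intro w
    have hinv : y • w ∈ U w := by
      by_contra hno
      have hmove : ∀ t : Ω, y • t ≠ t := by
        intro t ht
        rcases htwo' t w with h | h
        · have h1 := hmap y hyK w t h
          rw [ht] at h1
          exact hno (by rw [← hUeq _ _ h, hUeq _ _ h1]; exact hself (y • w))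
        · have h1 : y • w ∈ U t := h _ hno
          have h2 := hmap y hyK _ _ h1
          rw [smul_smul, hyy, one_smul, ht] at h2
          exact hno (by rw [← hUeq _ _ h2] at h1; rwa [hUeq _ _ (hself w)] at h1)
      have hs : (π y).support = Finset.univ := by
        ext t; simpa [Equiv.Perm.mem_support, π] using hmove t
      have h := sign_fpf_involution (τ := π y) (m := 11) (by rw [orderOf_injective π hπ, hy'])
        (by rw [hs, Finset.card_univ, hcard]) (by decide)
      exact absurd ((hsgn y).symm.trans h) (by decide)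
    have h := card_modEq_fixed (q := 2) (show y ^ 2 = 1 by rw [pow_two, hyy]) (U w) fun t ht => by
      have := hmap y hyK w t ht
      rwa [hUeq _ _ hinv] at this
    rw [hU] at h
    obtain ⟨t, ht⟩ := Finset.card_pos.1 (Nat.pos_of_ne_zero fun e => by
      rw [e] at h; exact absurd h (by decide) : 0 < ((U w).filter fun t => y • t = t).card)
    exact ⟨t, (Finset.mem_filter.1 ht).1, (Finset.mem_filter.1 ht).2⟩
  obtain ⟨u, hu, hyu⟩ := hfixpt a0
  obtain ⟨v, hv, hyv⟩ := hfixpt b0
  refine ⟨x, y, u, v, hord, hyy, hyu, hyv, hinvert, fun k hk => hb0 ?_, fun w hw => ?_, ?_⟩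
  · have : v ∈ U u := (hUR u v).2 ⟨x ^ k, pow_mem hxR k, hk⟩
    rw [← hUeq _ _ hu, ← hUeq _ _ this, hUeq _ _ hv]; exact hself b0
  · rcases htwo w with h' | h'
    · exact Or.inl (huniq y hyK hyR u w hyu hw (by rw [hUeq _ _ hu]; exact h')).symm
    · exact Or.inr (huniq y hyK hyR v w hyv hw (by rw [hUeq _ _ hv]; exact h')).symm
  · have h1 : Nat.card (Sylow 11 H) = K.index := R.card_eq_index_normalizer
    have h2 := card_sylow_modEq_one 11 H
    have h3 := K.card_mul_index
    rw [hKc, he, card_eq_mul_stabilizer hcard u] at h3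
    rw [h1, show K.index = Nat.card (stabilizer H u) by omega] at h2
    exact h2

end Reflection

section Graph

open Bicirc

/-- The orbital of `(u, v)`. -/
def Rel (u v a b : Sylow 3 H) : Prop := ∃ g : H, g • u = a ∧ g • v = b

theorem Rel.smul {u v a b : Sylow 3 H} (h : Rel u v a b) (g : H) : Rel u v (g • a) (g • b) := by
  obtain ⟨k, rfl, rfl⟩ := h
  exact ⟨g * k, mul_smul _ _ _, mul_smul _ _ _⟩

theorem rel_smul_iff {u v a b : Sylow 3 H} (g : H) : Rel u v (g • a) (g • b) ↔ Rel u v a b :=
  ⟨fun h => by simpa using h.smul g⁻¹, fun h => h.smul g⟩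

/-- Out-neighbours. -/
noncomputable def nb (u v a : Sylow 3 H) : Finset (Sylow 3 H) :=
  (Set.toFinite {b | Rel u v a b}).toFinset

theorem mem_nb {u v a b : Sylow 3 H} : b ∈ nb u v a ↔ Rel u v a b := by
  simp [nb]

theorem nb_smul (u v a : Sylow 3 H) (g : H) : nb u v (g • a) = (nb u v a).image fun b => g • b := by
  ext b
  simp only [Finset.mem_image, mem_nb]
  constructor
  · intro h
    exact ⟨g⁻¹ • b, by simpa using h.smul g⁻¹, smul_inv_smul g b⟩
  · rintro ⟨c, hc, rfl⟩; exact hc.smul g

/-- Walk counts in the orbital graph. -/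
noncomputable def W (u v : Sylow 3 H) : ℕ → Sylow 3 H → Sylow 3 H → ℕ
  | 0, a, b => if a = b then 1 else 0
  | n + 1, a, b => ∑ c ∈ nb u v a, W u v n c b

theorem W_smul (u v : Sylow 3 H) (n : ℕ) (g : H) :
    ∀ a b, W u v n (g • a) (g • b) = W u v n a b := by
  induction n with
  | zero => intro a b; simp [W]
  | succ n ih =>
    intro a b
    rw [W, W, nb_smul, Finset.sum_image fun c _ d _ h => MulAction.injective g h]
    exact Finset.sum_congr rfl fun c _ => ih c b

theorem exists_mask (f : Fin 11 → Bool) (hsym : ∀ d : Fin 11, f (-d) = f d) :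
    ∃ m : Fin 32, ∀ d : Fin 11, d ≠ 0 → (expand m.val).testBit d.val = f d ∧
      (expand m.val + 1).testBit d.val = f d := by
  have key : ∀ b1 b2 b3 b4 b5 : Bool, ∃ m : Fin 32, ∀ d : Fin 11, d ≠ 0 →
      (expand m.val).testBit d.val =
        [false, b1, b2, b3, b4, b5, b5, b4, b3, b2, b1].getD d.val false ∧
      (expand m.val + 1).testBit d.val =
        [false, b1, b2, b3, b4, b5, b5, b4, b3, b2, b1].getD d.val false := by
    decide +kernel
  obtain ⟨m, hm⟩ := key (f 1) (f 2) (f 3) (f 4) (f 5)
  refine ⟨m, fun d hd => ?_⟩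
  have h := hm d hd
  suffices e : [false, f 1, f 2, f 3, f 4, f 5, f 5, f 4, f 3, f 2, f 1].getD d.val false = f d by
    rw [← e]; exact h
  fin_cases d
  · exact absurd rfl hd
  all_goals first | rfl | exact (hsym _).symm

theorem expand_zero : ∀ m : Fin 32, (expand m.val).testBit 0 = false ∧ (expand m.val + 1).testBit 0 = true := by
  decide +kernel

theorem len_zero : ∀ s t : Fin 32, (nbrs s.val t.val 0 0).length = 2 * pop5 s.val + 2 * pop5 t.val + 1 := by
  decide +kernel

theorem len_eleven : ∀ z t : Fin 32, (nbrs 0 t.val z.val 11).length = 2 * pop5 z.val + 2 * pop5 t.val + 1 := by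
  decide +kernel

theorem nbrs_zero (s t z : ℕ) : nbrs s t z 0 = nbrs s t 0 0 := by
  refine List.filter_congr fun y _ => ?_
  by_cases h : 11 ≤ y <;> simp [adj, block, h]

theorem nbrs_eleven (s t z : ℕ) : nbrs s t z 11 = nbrs 0 t z 11 := by
  refine List.filter_congr fun y _ => ?_
  by_cases h : 11 ≤ y <;> simp [adj, block, h]

set_option maxHeartbeats 1600000 in
include hcard hsgn in
/-- The stabilizer of a point is transitive on the other points. -/
theorem exists_two_transitive [Fact (Nat.Prime 11)] :
    ∃ u : Sylow 3 H, Nat.card (stabilizer H u) ≡ 1 [MOD 11] ∧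
      ∀ a b : Sylow 3 H, a ≠ u → b ≠ u → ∃ g : H, g • u = u ∧ g • a = b := by
  obtain ⟨x, y, u, v, hx, hyy, hyu, hyv, hinv, hsep, hfix, hn11⟩ := exists_reflection hcard hsgn
  refine ⟨u, hn11, ?_⟩
  have hyw : ∀ w : Ω, y • (y • w) = w := fun w => by rw [smul_smul, hyy, one_smul]
  have hvu : v ≠ u := fun e => hsep 0 (by rw [pow_zero, one_smul, e])
  have huv : Rel u v u v := ⟨1, one_smul _ _, one_smul _ _⟩
  have hirr : ∀ a, ¬ Rel u v a a := fun a ⟨g, h1, h2⟩ => hvu (MulAction.injective g (h2.trans h1.symm))
  have hnbc : ∀ a, (nb u v a).card = (nb u v u).card := by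
    intro a
    obtain ⟨g, rfl⟩ := MulAction.exists_smul_eq H u a
    rw [nb_smul, Finset.card_image_of_injective _ (MulAction.injective g)]
  -- the valency is odd
  have hparity : ∀ s : Finset Ω, (∀ w ∈ s, y • w ∈ s) → u ∉ s → (Odd s.card ↔ v ∈ s) := by
    intro s hs hu
    have : Fact (Nat.Prime 2) := ⟨Nat.prime_two⟩
    have h := card_modEq_fixed (q := 2) (show y ^ 2 = 1 by rw [pow_two, hyy]) s hs
    have hone : (s.filter fun w => y • w = w) = if v ∈ s then {v} else ∅ := by
      ext w
      simp only [Finset.mem_filter]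
      by_cases hv : v ∈ s
      · rw [if_pos hv, Finset.mem_singleton]
        refine ⟨fun ⟨hw, hyw'⟩ => ?_, fun e => by rw [e]; exact ⟨hv, hyv⟩⟩
        exact (hfix w hyw').resolve_left fun e => hu (e ▸ hw)
      · rw [if_neg hv]
        simp only [Finset.notMem_empty, iff_false, not_and]
        intro hw hyw'
        rcases hfix w hyw' with e | e
        · exact hu (e ▸ hw)
        · exact hv (e ▸ hw)
    rw [hone] at h
    rw [Nat.odd_iff]
    by_cases hv : v ∈ s
    · rw [if_pos hv, Finset.card_singleton] at h
      exact ⟨fun _ => hv, fun _ => h⟩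
    · rw [if_neg hv, Finset.card_empty] at h
      exact ⟨fun h' => by unfold Nat.ModEq at h; omega, fun h' => absurd h' hv⟩
  have hu_nb : u ∉ nb u v u := fun h => hirr u (mem_nb.1 h)
  have hk : Odd (nb u v u).card := by
    refine (hparity _ (fun w hw => ?_) hu_nb).2 (mem_nb.2 huv)
    rw [mem_nb] at hw ⊢
    simpa [hyu] using hw.smul y
  -- the orbital is symmetric
  have hvu' : Rel u v v u := by
    classical
    let inn : Finset Ω := Finset.univ.filter fun a => Rel u v a u
    have hinn : ∀ b, (Finset.univ.filter fun a => Rel u v a b).card = inn.card := by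
      intro b
      obtain ⟨g, rfl⟩ := MulAction.exists_smul_eq H u b
      have : (Finset.univ.filter fun a => Rel u v a (g • u)) = inn.image fun a => g • a := by
        ext a
        simp only [inn, Finset.mem_filter, Finset.mem_univ, true_and, Finset.mem_image]
        exact ⟨fun h => ⟨g⁻¹ • a, by simpa using h.smul g⁻¹, smul_inv_smul g a⟩,
          fun ⟨c, hc, e⟩ => e ▸ hc.smul g⟩
      rw [this, Finset.card_image_of_injective _ (MulAction.injective g)]
    have h1 : ∑ a : Ω, (Finset.univ.filter fun b => Rel u v a b).card =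
        ∑ b : Ω, (Finset.univ.filter fun a => Rel u v a b).card := by
      simp only [Finset.card_filter]
      exact Finset.sum_comm
    have h2 : ∀ a, (Finset.univ.filter fun b => Rel u v a b).card = (nb u v u).card := by
      intro a; rw [← hnbc a]; congr 1; ext b; simp [mem_nb]
    rw [Finset.sum_congr rfl fun a _ => h2 a, Finset.sum_congr rfl fun b _ => hinn b,
      Finset.sum_const, Finset.sum_const, smul_eq_mul, smul_eq_mul, Finset.card_univ, hcard] at h1
    have h3 : inn.card = (nb u v u).card := by omega
    have h4 : u ∉ inn := fun h => hirr u (Finset.mem_filter.1 h).2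
    have h5 := (hparity inn (fun w hw => Finset.mem_filter.2 ⟨Finset.mem_univ _, by
      simpa [hyu] using (Finset.mem_filter.1 hw).2.smul y⟩) h4).1 (h3 ▸ hk)
    exact (Finset.mem_filter.1 h5).2
  have hsymm : ∀ a b, Rel u v a b → Rel u v b a := by
    rintro a b ⟨g, rfl, rfl⟩
    exact hvu'.smul g
  -- the valency is divisible by 3
  have h3k : 3 ∣ (nb u v u).card := by
    have hstab : ∀ z ∈ (u : Subgroup H), ∀ w ∈ nb u v u, z • w ∈ nb u v u := by
      intro z hz w hw
      rw [mem_nb] at hw ⊢
      simpa [smul_self_of_mem hz] using hw.smul z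
    rw [Finset.card_eq_sum_card_image (fun w => orb u w) (nb u v u)]
    refine Finset.dvd_sum fun O hO => ?_
    obtain ⟨w, hw, rfl⟩ := Finset.mem_image.1 hO
    have : ((nb u v u).filter fun t => orb u t = orb u w) = orb u w := by
      ext t
      rw [Finset.mem_filter]
      refine ⟨fun h => h.2 ▸ orb_self u t, fun h => ⟨?_, orb_eq h⟩⟩
      obtain ⟨z, hz, rfl⟩ := mem_orb.1 h
      exact hstab z hz w hw
    rw [this]
    rcases card_orb hcard u w (fun e => hu_nb (e ▸ hw)) with e | e <;> rw [e] <;> norm_num
  -- coordinates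
  let e : ℕ → Ω := fun k => x ^ (k % 11) • (if 11 ≤ k then v else u)
  have hfpf : ∀ w : Ω, x • w ≠ w :=
    eleven_fixed_point_free hcard (hx ▸ pow_orderOf_eq_one x) fun h => by
      rw [h, orderOf_one] at hx; omega
  have hxmod : ∀ m : ℕ, x ^ (m % 11) = x ^ m := fun m => by rw [← hx, pow_mod_orderOf]
  have hbase : ∀ {i j : ℕ} {a : Ω}, i < 11 → j < 11 → x ^ i • a = x ^ j • a → i = j := by
    intro i j a hi hj h
    have hc := card_powers_image (hx ▸ pow_orderOf_eq_one x) (hfpf a)
    by_contra hne
    have := Finset.card_image_iff.1 (hc.trans (Finset.card_range 11).symm)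
    exact hne (this (by simpa using hi) (by simpa using hj) h)
  have heinj : ∀ a b, a < 22 → b < 22 → e a = e b → a = b := by
    intro a b ha hb h
    simp only [e] at h
    by_cases h1 : 11 ≤ a <;> by_cases h2 : 11 ≤ b <;> simp only [h1, h2, if_true, if_false] at h
    · have := hbase (Nat.mod_lt _ (by norm_num)) (Nat.mod_lt _ (by norm_num)) h; omega
    · exfalso
      apply hsep ((b + (11 - a % 11)) % 11)
      rw [hxmod, add_comm, pow_add, mul_smul]
      rw [← hxmod b, ← h, smul_smul, ← pow_add,
        show 11 - a % 11 + a % 11 = 11 by omega, ← hx, pow_orderOf_eq_one, one_smul]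
    · exfalso
      apply hsep ((a + (11 - b % 11)) % 11)
      rw [hxmod, add_comm, pow_add, mul_smul]
      rw [← hxmod a, h, smul_smul, ← pow_add,
        show 11 - b % 11 + b % 11 = 11 by omega, ← hx, pow_orderOf_eq_one, one_smul]
    · have := hbase (Nat.mod_lt _ (by norm_num)) (Nat.mod_lt _ (by norm_num)) h; omega
  have heimg : (Finset.range 22).image e = Finset.univ := Finset.eq_univ_of_card _ (by
    rw [Finset.card_image_of_injOn fun a ha b hb h =>
      heinj a b (by simpa using ha) (by simpa using hb) h, Finset.card_range, hcard])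
  -- difference sets
  classical
  let A : Ω → Ω → Fin 11 → Bool := fun p q d => decide (Rel u v p (x ^ d.val • q))
  have hyx : ∀ (d : Fin 11), y * x ^ d.val = x ^ (-d : Fin 11).val * y := by
    intro d
    have hyi : y⁻¹ = y := inv_eq_of_mul_eq_one_left hyy
    have h1 : y * x ^ d.val * y = (x⁻¹) ^ d.val := by
      rw [← hinv]
      conv_lhs => arg 2; rw [← hyi]
      conv_rhs => arg 1; arg 2; rw [← hyi]
      exact (conj_pow).symm
    have h2 : (x⁻¹) ^ d.val = x ^ (-d : Fin 11).val := by
      rw [inv_pow, inv_eq_iff_mul_eq_one, ← pow_add, Fin.coe_neg, ← orderOf_dvd_iff_pow_eq_one, hx]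
      omega
    calc y * x ^ d.val = (y * x ^ d.val * y) * y := by rw [mul_assoc _ y y, hyy, mul_one]
      _ = _ := by rw [h1, h2]
  have hAy : ∀ p q : Ω, y • p = p → y • q = q → ∀ d, A p q (-d) = A p q d := by
    intro p q hp hq d
    simp only [A, decide_eq_decide]
    rw [← rel_smul_iff (a := p) (b := x ^ d.val • q) y, hp, smul_smul, hyx, mul_smul, hq]
  obtain ⟨s, hs⟩ := exists_mask (A u u) (hAy u u hyu hyu)
  obtain ⟨t, ht⟩ := exists_mask (A u v) (hAy u v hyu hyv)
  obtain ⟨z, hz⟩ := exists_mask (A v v) (hAy v v hyv hyv)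
  have hblock : ∀ (i j : Bool) (d : Fin 11),
      (block s.val t.val z.val i j).testBit d.val = A (if i then v else u) (if j then v else u) d := by
    intro i j d
    by_cases hd : d = 0
    · subst hd
      cases i <;> cases j <;> simp [block, A, hirr, huv, hvu', (expand_zero s).1, (expand_zero t).2,
        (expand_zero z).1]
    · cases i <;> cases j
      · simpa [block] using (hs d hd).1
      · simpa [block] using (ht d hd).2
      · have h' : A v u d = A u v d := by
          simp only [A, decide_eq_decide]
          rw [← rel_smul_iff (a := u) (b := x ^ d.val • v) (x ^ (-d : Fin 11).val), smul_smul, ← pow_add,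
            show x ^ ((-d : Fin 11).val + d.val) = 1 by
              rw [← orderOf_dvd_iff_pow_eq_one, hx, Fin.coe_neg]; omega, one_smul]
          constructor
          · intro h
            have := (hsymm _ _ h)
            have h2 := this.smul y
            rw [smul_smul, hyx, mul_smul, hyu, hyv] at h2
            exact h2
          · intro h
            have h2 := h.smul y
            rw [smul_smul, hyx, mul_smul, hyu, hyv, neg_neg] at h2
            exact hsymm _ _ h2
        simpa [block, h'] using (ht d hd).2
      · simpa [block] using (hz d hd).1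
  have hadj : ∀ a b, a < 22 → b < 22 → (adj s.val t.val z.val a b = true ↔ Rel u v (e a) (e b)) := by
    intro a b ha hb
    have h1 := hblock (decide (11 ≤ a)) (decide (11 ≤ b))
      ⟨(b % 11 + (11 - a % 11)) % 11, Nat.mod_lt _ (by norm_num)⟩
    simp only [Bicirc.adj]
    rw [h1]
    simp only [A, decide_eq_true_eq, hxmod]
    rw [← rel_smul_iff (x ^ (a % 11)), smul_smul, ← pow_add]
    have hb' : x ^ (a % 11 + (b % 11 + (11 - a % 11))) = x ^ (b % 11) := by
      rw [show a % 11 + (b % 11 + (11 - a % 11)) = b % 11 + 11 by omega, pow_add,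
        show x ^ 11 = 1 from hx ▸ pow_orderOf_eq_one x, mul_one]
    rw [hb']
  have hnbrs : ∀ a, a < 22 → ((nbrs s.val t.val z.val a).toFinset.image e) = nb u v (e a) := by
    intro a ha
    ext w
    obtain ⟨b, hb, rfl⟩ := Finset.mem_image.1 (heimg.symm ▸ Finset.mem_univ w : w ∈ (Finset.range 22).image e)
    rw [Finset.mem_range] at hb
    simp only [mem_nb, Finset.mem_image, List.mem_toFinset, nbrs, List.mem_filter, List.mem_range]
    constructor
    · rintro ⟨c, ⟨hc, hac⟩, hcb⟩
      exact hcb ▸ (hadj a c ha hc).1 hac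
    · exact fun h => ⟨b, ⟨hb, (hadj a b ha hb).2 h⟩, rfl⟩
  have hnodup : ∀ a, (nbrs s.val t.val z.val a).Nodup := fun a => List.nodup_range.filter _
  have hlt : ∀ a c, c ∈ nbrs s.val t.val z.val a → c < 22 := fun a c hc =>
    List.mem_range.1 (List.mem_filter.1 hc).1
  have hlen : ∀ a, a < 22 → (nbrs s.val t.val z.val a).length = (nb u v u).card := by
    intro a ha
    rw [← hnbc (e a), ← hnbrs a ha, Finset.card_image_of_injOn fun c hc d hd h => heinj c d
      (hlt a c (List.mem_toFinset.1 (by simpa using hc)))
      (hlt a d (List.mem_toFinset.1 (by simpa using hd))) h, List.toFinset_card_of_nodup (hnodup a)]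
  have hwalk : ∀ n a b, a < 22 → b < 22 → walks s.val t.val z.val n a b = W u v n (e a) (e b) := by
    intro n
    induction n with
    | zero =>
      intro a b ha hb
      simp only [walks, W]
      by_cases h : a = b
      · simp [h]
      · rw [if_neg h, if_neg fun h' => h (heinj a b ha hb h')]
    | succ n ih =>
      intro a b ha hb
      rw [walks, W, ← hnbrs a ha, Finset.sum_image fun c hc d hd h => heinj c d
        (hlt a c (List.mem_toFinset.1 hc)) (hlt a d (List.mem_toFinset.1 hd)) h,
        ← List.sum_toFinset _ (hnodup a)]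
      exact Finset.sum_congr rfl fun c hc => ih c b (hlt a c (List.mem_toFinset.1 hc)) hb
  have hedge : ∀ n a b, a < 22 → b ∈ nbrs s.val t.val z.val a → W u v n (e a) (e b) = W u v n u v := by
    intro n a b ha hb
    obtain ⟨g, h1, h2⟩ := (hadj a b ha (hlt a b hb)).1 (List.mem_filter.1 hb).2
    rw [← h1, ← h2, W_smul]
  have hconst : ∀ (f : ℕ → ℕ → ℕ) (c : ℕ),
      (∀ a, a < 22 → ∀ b ∈ nbrs s.val t.val z.val a, f a b = c) →
      (let l := ((nbrs s.val t.val z.val 0).map fun w => f 0 w) ++
        ((nbrs s.val t.val z.val 11).map fun w => f 11 w)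
      l.all fun a => a == l.headD 0) = true := by
    intro f c hf
    simp only
    set l := ((nbrs s.val t.val z.val 0).map fun w => f 0 w) ++
      ((nbrs s.val t.val z.val 11).map fun w => f 11 w) with hl
    have hall : ∀ a ∈ l, a = c := by
      intro a ha
      rw [hl, List.mem_append, List.mem_map, List.mem_map] at ha
      rcases ha with ⟨b, hb, rfl⟩ | ⟨b, hb, rfl⟩
      · exact hf 0 (by norm_num) b hb
      · exact hf 11 (by norm_num) b hb
    rw [List.all_eq_true]
    intro a ha
    cases hl' : l with
    | nil => rw [hl'] at ha; simp at ha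
    | cons b l' =>
      rw [List.headD_cons, beq_iff_eq, hall a ha, hall b (hl' ▸ List.mem_cons_self)]
  have hEC : ∀ n, edgeConst s.val t.val z.val n = true := fun n =>
    hconst (walks s.val t.val z.val n) (W u v n u v) fun a ha b hb => by
      rw [hwalk n a b ha (hlt a b hb), hedge n a b ha hb]
  have hCC : commonConst s.val t.val z.val = true := by
    refine hconst (common s.val t.val z.val) (W u v 2 u v) fun a ha b hb => ?_
    rw [← hedge 2 a b ha hb, ← hwalk 2 a b ha (hlt a b hb), common, ← List.countP_eq_length_filter]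
    simp only [walks]
    have : ∀ c, c < 22 → (((nbrs s.val t.val z.val c).map fun d => if d = b then 1 else 0).sum) =
        if adj s.val t.val z.val c b then 1 else 0 := by
      intro c hc
      rw [← List.sum_toFinset _ (hnodup c), Finset.sum_ite_eq']
      simp [nbrs, hlt a b hb]
    rw [List.map_congr_left fun c hc => this c (hlt a c hc)]
    clear this
    induction nbrs s.val t.val z.val a with
    | nil => rfl
    | cons c l ihl => rw [List.countP_cons, List.map_cons, List.sum_cons, ihl]; split <;> omega
  have h0 : 2 * pop5 s.val + 2 * pop5 t.val + 1 = (nb u v u).card := by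
    rw [← len_zero s t, ← nbrs_zero, hlen 0 (by norm_num)]
  have h11 : 2 * pop5 z.val + 2 * pop5 t.val + 1 = (nb u v u).card := by
    rw [← len_eleven z t, ← nbrs_eleven s.val t.val z.val, hlen 11 (by norm_num)]
  have hchk := check_all s t
  have h21 : (nb u v u).card = 21 := by
    simp only [check2, Bool.or_eq_true, List.all_eq_true, bne_iff_ne, beq_iff_eq] at hchk
    rcases hchk with (h | h) | h
    · exfalso; omega
    · omega
    · exfalso
      have h' := h z.val (List.mem_range.2 z.isLt)
      simp [hEC, hCC] at h'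
      omega
  have hall : ∀ a, a ≠ u → Rel u v u a := by
    intro a ha
    have hsub : nb u v u ⊆ Finset.univ.erase u := fun b hb =>
      Finset.mem_erase.2 ⟨fun h => hu_nb (h ▸ hb), Finset.mem_univ _⟩
    have := Finset.eq_of_subset_of_card_le hsub (by
      rw [Finset.card_erase_of_mem (Finset.mem_univ _), Finset.card_univ, hcard, h21])
    exact mem_nb.1 (this ▸ Finset.mem_erase.2 ⟨ha, Finset.mem_univ _⟩)
  intro a b ha hb
  obtain ⟨g, hgu, hga⟩ := hall a ha
  obtain ⟨g', hgu', hgb⟩ := hall b hb
  exact ⟨g' * g⁻¹, by rw [mul_smul, inv_smul_eq_iff.2 hgu.symm, hgu'],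
    by rw [mul_smul, inv_smul_eq_iff.2 hga.symm, hgb]⟩

end Graph

theorem commute_cycle_seven {α : Type*} [Fintype α] [DecidableEq α] (hn : Fintype.card α = 7)
    [Fact (Nat.Prime 7)] {z y : Equiv.Perm α} (hz : z ^ 7 = 1) (hz1 : z ≠ 1) (hc : Commute z y) :
    y ^ 7 = 1 := by
  obtain ⟨w, hw⟩ : ∃ w, z w ≠ w := by
    by_contra h
    push Not at h
    exact hz1 (Equiv.ext h)
  have h7 : ((Finset.range 7).image fun i => z ^ i • w) = Finset.univ :=
    Finset.eq_univ_of_card _ (by rw [card_powers_image hz hw, hn])
  have hall : ∀ t, ∃ i : ℕ, (z ^ i) w = t := by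
    intro t
    obtain ⟨i, -, hi⟩ := Finset.mem_image.1 (h7.symm ▸ Finset.mem_univ t :
      t ∈ (Finset.range 7).image fun i => z ^ i • w)
    exact ⟨i, hi⟩
  obtain ⟨j, hj⟩ := hall (y w)
  have hyk : ∀ (k : ℕ), y ^ k = z ^ (j * k) := by
    have h1 : y = z ^ j := by
      ext t
      obtain ⟨i, rfl⟩ := hall t
      rw [← Equiv.Perm.mul_apply, ← (hc.pow_left i).eq, Equiv.Perm.mul_apply, ← hj,
        ← Equiv.Perm.mul_apply, ← Equiv.Perm.mul_apply, ← pow_add, ← pow_add, add_comm]
    intro k
    rw [h1, ← pow_mul]
  rw [hyk, mul_comm, pow_mul, hz, one_pow]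

set_option maxHeartbeats 1600000 in
include hcard hsgn in
theorem false_of_twentytwo [Fact (Nat.Prime 11)] : False := by
  obtain ⟨u, hn11, htrans⟩ := exists_two_transitive hcard hsgn
  have htrans' : ∀ a b c : Ω, b ≠ a → c ≠ a → ∃ g : H, g • a = a ∧ g • b = c := by
    intro a b c hb hc
    obtain ⟨g, rfl⟩ := MulAction.exists_smul_eq H u a
    obtain ⟨k, hk1, hk2⟩ := htrans (g⁻¹ • b) (g⁻¹ • c) (fun e => hb (inv_smul_eq_iff.1 e))
      (fun e => hc (inv_smul_eq_iff.1 e))
    refine ⟨g * k * g⁻¹, ?_, ?_⟩
    · rw [mul_smul, mul_smul, inv_smul_smul, hk1]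
    · rw [mul_smul, mul_smul, hk2, smul_inv_smul]
  -- every orbit of a Sylow subgroup on the other points has three points
  have horb3 : ∀ P w : Ω, w ≠ P → (orb P w).card = 3 := by
    intro P w hw
    have hconst : ∀ t, t ≠ P → (orb P t).card = (orb P w).card := by
      intro t ht
      obtain ⟨g, hg, rfl⟩ := htrans' P w t hw ht
      rw [← smul_orb hg, Finset.card_image_of_injective _ (MulAction.injective g)]
    have hdiv : (orb P w).card ∣ 21 := by
      have h : (Finset.univ.erase P).card = 21 := by
        rw [Finset.card_erase_of_mem (Finset.mem_univ _), Finset.card_univ, hcard]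
      rw [← h, Finset.card_eq_sum_card_image (fun t => orb P t) (Finset.univ.erase P)]
      refine Finset.dvd_sum fun O hO => ?_
      obtain ⟨t, ht, rfl⟩ := Finset.mem_image.1 hO
      have ht' := (Finset.mem_erase.1 ht).1
      have : ((Finset.univ.erase P).filter fun r => orb P r = orb P t) = orb P t := by
        ext r
        rw [Finset.mem_filter]
        refine ⟨fun h => h.2 ▸ orb_self P r, fun h => ⟨?_, orb_eq h⟩⟩
        exact Finset.mem_erase.2 ⟨fun e => self_not_mem_orb ht' (e ▸ h), Finset.mem_univ _⟩
      rw [this, hconst t ht']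
    rcases card_orb hcard P w hw with e | e
    · exact e
    · rw [e] at hdiv; exact absurd hdiv (by decide)
  -- the pairwise intersections
  have hfix_iff : ∀ {P w : Ω} {z : H}, z ∈ (P : Subgroup H) → (z • w = w ↔ z ∈ (w : Subgroup H)) := by
    intro P w z hz
    refine ⟨fun h => ?_, smul_self_of_mem⟩
    obtain ⟨k, hk⟩ := IsPGroup.iff_orderOf.1 P.isPGroup' ⟨z, hz⟩
    rw [Subgroup.orderOf_mk] at hk
    exact mem_sylow_of_fix (orderOf_dvd_iff_pow_eq_one.1 (dvd_of_eq hk)) h
  have hDcard : ∀ P w : Ω, w ≠ P →
      Nat.card ↥((P : Subgroup H) ⊓ w) * 3 = Nat.card (P : Subgroup H) := by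
    intro P w hw
    have h1 := (stabilizer (P : Subgroup H) w).card_mul_index
    rw [index_stabilizer] at h1
    have h2 : (MulAction.orbit (P : Subgroup H) w).ncard = 3 := by
      rw [Set.ncard_eq_toFinset_card _ (Set.toFinite _)]; exact horb3 P w hw
    rw [h2] at h1
    rw [← h1]
    congr 1
    exact Nat.card_congr
      { toFun := fun z => ⟨⟨z.1, z.2.1⟩, (hfix_iff z.2.1).2 z.2.2⟩
        invFun := fun z => ⟨z.1.1, z.1.2, (hfix_iff z.1.2).1 z.2⟩
        left_inv := fun _ => rfl
        right_inv := fun _ => rfl }
  have hconj : ∀ (g : H) (P w : Ω), (((g • P : Ω) : Subgroup H) ⊓ (g • w : Ω)) =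
      ((P : Subgroup H) ⊓ w).map (MulAut.conj g).toMonoidHom := by
    intro g P w
    rw [Subgroup.map_inf _ _ _ (MulAut.conj g).injective]
    rfl
  have hP3 : ∀ P : Ω, Nat.card (P : Subgroup H) = 3 := by
    intro P
    by_contra hne
    have hall : ∀ Q w : Ω, w ≠ Q → ((Q : Subgroup H) ⊓ w) ≠ ⊥ := by
      intro Q w hw e
      have := hDcard Q w hw
      rw [e, Subgroup.card_bot, Nat.card_congr (Sylow.equiv Q P).toEquiv] at this
      omega
    classical
    let F : Ω × Ω → Finset Ω := fun ab =>
      Finset.univ.filter fun t => (ab.1 : Subgroup H) ⊓ ab.2 ≤ (t : Subgroup H)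
    have hFmem : ∀ {a b t : Ω}, t ∈ F (a, b) ↔ (a : Subgroup H) ⊓ b ≤ (t : Subgroup H) := by
      intro a b t; simp [F]
    have heqinf : ∀ {a b c d : Ω}, a ≠ b → c ≠ d → c ∈ F (a, b) → d ∈ F (a, b) →
        (a : Subgroup H) ⊓ b = (c : Subgroup H) ⊓ d := by
      intro a b c d hab hcd hc hd
      refine eq_of_le_of_card_ge (le_inf (hFmem.1 hc) (hFmem.1 hd)) ?_
      have h1 := hDcard a b hab.symm
      have h2 := hDcard c d hcd.symm
      rw [Nat.card_congr (Sylow.equiv c a).toEquiv] at h2
      omega
    have hFcard : ∀ a b : Ω, a ≠ b → (F (a, b)).card = 4 := by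
      intro a b hab
      let cls : Ω → Finset Ω := fun t =>
        (Finset.univ.erase a).filter fun r => (a : Subgroup H) ⊓ r = (a : Subgroup H) ⊓ t
      have hFeq : F (a, b) = insert a (cls b) := by
        ext t
        rw [hFmem, Finset.mem_insert, Finset.mem_filter]
        constructor
        · intro ht
          by_cases hta : t = a
          · exact Or.inl hta
          · exact Or.inr ⟨Finset.mem_erase.2 ⟨hta, Finset.mem_univ _⟩,
              (heqinf hab (Ne.symm hta) (hFmem.2 inf_le_left) (hFmem.2 ht)).symm⟩
        · rintro (rfl | ⟨-, ht⟩)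
          · exact inf_le_left
          · rw [← ht]; exact inf_le_right
      have hclsconst : ∀ t, t ≠ a → (cls t).card = (cls b).card := by
        intro t ht
        obtain ⟨g, hga, rfl⟩ := htrans' a b t (Ne.symm hab) ht
        have : cls (g • b) = (cls b).image fun r => g • r := by
          ext r
          simp only [cls, Finset.mem_filter, Finset.mem_erase, Finset.mem_univ, and_true,
            Finset.mem_image]
          constructor
          · rintro ⟨hr, he⟩
            refine ⟨g⁻¹ • r, ⟨fun e => hr (by rw [inv_smul_eq_iff.1 e, hga]), ?_⟩, smul_inv_smul g r⟩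
            apply Subgroup.map_injective (f := (MulAut.conj g).toMonoidHom) (MulAut.conj g).injective
            rw [← hconj, ← hconj, hga, smul_inv_smul, he]
          · rintro ⟨r', ⟨hr', he⟩, rfl⟩
            refine ⟨fun e => hr' (MulAction.injective g (e.trans hga.symm)), ?_⟩
            conv_lhs => rw [← hga]
            rw [hconj, he, ← hconj, hga]
        rw [this, Finset.card_image_of_injective _ (MulAction.injective g)]
      have hcls_self : ∀ t, t ≠ a → t ∈ cls t := fun t ht =>
        Finset.mem_filter.2 ⟨Finset.mem_erase.2 ⟨ht, Finset.mem_univ _⟩, rfl⟩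
      have hdiv : (cls b).card ∣ 21 := by
        have h : (Finset.univ.erase a).card = 21 := by
          rw [Finset.card_erase_of_mem (Finset.mem_univ _), Finset.card_univ, hcard]
        rw [← h, Finset.card_eq_sum_card_image (fun t : Ω => (a : Subgroup H) ⊓ (t : Subgroup H)) (Finset.univ.erase a)]
        refine Finset.dvd_sum fun O hO => ?_
        obtain ⟨t, ht, rfl⟩ := Finset.mem_image.1 hO
        exact dvd_of_eq (hclsconst t (Finset.mem_erase.1 ht).1).symm
      have hsub : orb a b ⊆ cls b := by
        intro t ht
        have hta : t ≠ a := fun e => self_not_mem_orb (Ne.symm hab) (e ▸ ht)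
        refine Finset.mem_filter.2 ⟨Finset.mem_erase.2 ⟨hta, Finset.mem_univ _⟩,
          (heqinf hab (Ne.symm hta) (hFmem.2 inf_le_left) (hFmem.2 fun z hz => ?_)).symm⟩
        obtain ⟨hza, hzb⟩ := hz
        have hzfix : z • b = b := smul_self_of_mem hzb
        rw [← hfix_iff hza]
        obtain ⟨k, hk⟩ := IsPGroup.iff_orderOf.1 a.isPGroup' ⟨z, hza⟩
        rw [Subgroup.orderOf_mk] at hk
        by_contra hzt
        have hcard3 := horb3 a b (Ne.symm hab)
        have hinj : (b ≠ t) := fun e => hzt (e ▸ hzfix)
        have hmem1 : z • t ∈ orb a b := by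
          rw [← orb_eq ht]; exact mem_orb.2 ⟨z, hza, rfl⟩
        have hmem2 : z • z • t ∈ orb a b := by
          rw [← orb_eq hmem1]; exact mem_orb.2 ⟨z, hza, rfl⟩
        have hne1 : z • t ≠ b := fun e => hinj (MulAction.injective z (hzfix.trans e.symm))
        have hne2 : z • z • t ≠ b := fun e => hne1 (MulAction.injective z (e.trans hzfix.symm))
        have hne3 : z • z • t = t := by
          by_contra h
          have hne4 : z • z • t ≠ z • t := fun e => hzt (MulAction.injective z e)
          have hsub : ({b, t, z • t, z • z • t} : Finset Ω) ⊆ orb a b := by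
            intro r hr
            simp only [Finset.mem_insert, Finset.mem_singleton] at hr
            rcases hr with rfl | rfl | rfl | rfl
            · exact orb_self a r
            · exact ht
            · exact hmem1
            · exact hmem2
          have h4 : ({b, t, z • t, z • z • t} : Finset Ω).card = 4 := by
            rw [Finset.card_insert_of_notMem (by simp [hinj, Ne.symm hne1, Ne.symm hne2]),
              Finset.card_insert_of_notMem (by simp [Ne.symm hzt, Ne.symm h]),
              Finset.card_pair (Ne.symm hne4)]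
          have := Finset.card_le_card hsub
          omega
        apply hzt
        have hcop : Nat.Coprime 2 (orderOf z) := hk ▸ Nat.Coprime.pow_right k (by norm_num)
        obtain ⟨m, hm⟩ := exists_pow_eq_self_of_coprime hcop
        have h2 : (z ^ 2) ^ m ∈ MulAction.stabilizer H t :=
          pow_mem (show z ^ 2 ∈ MulAction.stabilizer H t by
            rw [MulAction.mem_stabilizer_iff, pow_two, mul_smul]; exact hne3) m
        rw [hm] at h2
        exact h2
      have h3le := Finset.card_le_card hsub
      rw [horb3 a b (Ne.symm hab)] at h3le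
      have hne21 : (cls b).card ≠ 21 := by
        intro h
        apply hall a b (Ne.symm hab)
        have he : cls b = Finset.univ.erase a := Finset.eq_of_subset_of_card_le (Finset.filter_subset _ _)
          (by rw [h, Finset.card_erase_of_mem (Finset.mem_univ _), Finset.card_univ, hcard])
        rw [Subgroup.eq_bot_iff_forall]
        intro z hz
        refine eq_of_smul_eq_smul fun t : Ω => ?_
        rw [one_smul]
        by_cases hta : t = a
        · rw [hta]; exact smul_self_of_mem hz.1
        · have ht : t ∈ cls b := by rw [he]; exact Finset.mem_erase.2 ⟨hta, Finset.mem_univ _⟩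
          rw [← (Finset.mem_filter.1 ht).2] at hz
          exact smul_self_of_mem hz.2
      -- a class meets each triple in all or nothing
      have hunion : 3 ∣ (cls b).card := by
        rw [Finset.card_eq_sum_card_image (fun r => orb a r) (cls b)]
        refine Finset.dvd_sum fun O hO => ?_
        obtain ⟨r, hr, rfl⟩ := Finset.mem_image.1 hO
        have hra : r ≠ a := (Finset.mem_erase.1 (Finset.mem_filter.1 hr).1).1
        have h1 : ((cls b).filter fun t => orb a t = orb a r) ⊆ orb a r := by
          intro t ht
          exact (Finset.mem_filter.1 ht).2 ▸ orb_self a t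
        have h2 : orb a r ⊆ ((cls b).filter fun t => orb a t = orb a r) := by
          intro t ht
          refine Finset.mem_filter.2 ⟨?_, orb_eq ht⟩
          have hta : t ≠ a := fun e => self_not_mem_orb hra (e ▸ ht)
          refine Finset.mem_filter.2 ⟨Finset.mem_erase.2 ⟨hta, Finset.mem_univ _⟩, ?_⟩
          rw [← (Finset.mem_filter.1 hr).2]
          obtain ⟨z, hz, rfl⟩ := mem_orb.1 ht
          have hza : z • a = a := smul_self_of_mem hz
          have hnorm : ((a : Subgroup H) ⊓ r).map (MulAut.conj z).toMonoidHom = (a : Subgroup H) ⊓ r := by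
            have hle : ((a : Subgroup H) ⊓ r).map (MulAut.conj z).toMonoidHom ≤ (a : Subgroup H) ⊓ r := by
              rintro _ ⟨w, ⟨hwa, hwr⟩, rfl⟩
              have hwa' : z * w * z⁻¹ ∈ (a : Subgroup H) := mul_mem (mul_mem hz hwa) (inv_mem hz)
              refine ⟨hwa', (hfix_iff hwa').1 ?_⟩
              by_contra hmove
              -- otherwise the orbit would have a fourth point
              have hw : w • r = r := smul_self_of_mem hwr
              have hcard3 := horb3 a r hra
              have hz' : z⁻¹ • r ∈ orb a r := mem_orb.2 ⟨z⁻¹, inv_mem hz, rfl⟩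
              have hwfix : w • (z⁻¹ • r) = z⁻¹ • r := by
                by_contra hne
                have hne0 : z⁻¹ • r ≠ r := fun e => hne (by rw [e, hw])
                have hm1 : w • z⁻¹ • r ∈ orb a r := by
                  rw [← orb_eq hz']; exact mem_orb.2 ⟨w, hwa, rfl⟩
                have hne5 : w • z⁻¹ • r ≠ r := fun e => hne0 (MulAction.injective w (e.trans hw.symm))
                have hm2 : w • w • z⁻¹ • r ∈ orb a r := by
                  rw [← orb_eq hm1]; exact mem_orb.2 ⟨w, hwa, rfl⟩
                have hne6 : w • w • z⁻¹ • r ≠ r := fun e => hne5 (MulAction.injective w (e.trans hw.symm))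
                have hne7 : w • w • z⁻¹ • r ≠ w • z⁻¹ • r := fun e => hne (MulAction.injective w e)
                have hback : w • w • z⁻¹ • r = z⁻¹ • r := by
                  by_contra h
                  have hsub : ({r, z⁻¹ • r, w • z⁻¹ • r, w • w • z⁻¹ • r} : Finset Ω) ⊆ orb a r := by
                    intro q hq
                    simp only [Finset.mem_insert, Finset.mem_singleton] at hq
                    rcases hq with rfl | rfl | rfl | rfl
                    · exact orb_self a q
                    · exact hz'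
                    · exact hm1
                    · exact hm2
                  have h4 : ({r, z⁻¹ • r, w • z⁻¹ • r, w • w • z⁻¹ • r} : Finset Ω).card = 4 := by
                    rw [Finset.card_insert_of_notMem (by simp [Ne.symm hne0, Ne.symm hne5, Ne.symm hne6]),
                      Finset.card_insert_of_notMem (by simp [Ne.symm hne, Ne.symm h]),
                      Finset.card_pair (Ne.symm hne7)]
                  have := Finset.card_le_card hsub
                  omega
                obtain ⟨k, hk⟩ := IsPGroup.iff_orderOf.1 a.isPGroup' ⟨w, hwa⟩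
                rw [Subgroup.orderOf_mk] at hk
                have hcop : Nat.Coprime 2 (orderOf w) := hk ▸ Nat.Coprime.pow_right k (by norm_num)
                obtain ⟨m, hm⟩ := exists_pow_eq_self_of_coprime hcop
                have h2 : (w ^ 2) ^ m ∈ MulAction.stabilizer H (z⁻¹ • r) :=
                  pow_mem (show w ^ 2 ∈ MulAction.stabilizer H (z⁻¹ • r) by
                    rw [MulAction.mem_stabilizer_iff, pow_two, mul_smul]; exact hback) m
                rw [hm] at h2
                exact hne h2
              exact hmove (by rw [mul_smul, mul_smul, hwfix, smul_inv_smul])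
            exact eq_of_le_of_card_ge hle (le_of_eq (Nat.card_congr
              (((a : Subgroup H) ⊓ r).equivMapOfInjective _ (MulAut.conj z).injective).toEquiv))
          rw [← hnorm, ← hconj, hza]
        rw [Finset.Subset.antisymm h1 h2, horb3 a r hra]
      have h3 : (cls b).card = 3 := by
        have := Nat.mem_divisors.2 ⟨hdiv, by norm_num⟩
        rw [show Nat.divisors 21 = {1, 3, 7, 21} by decide] at this
        simp only [Finset.mem_insert, Finset.mem_singleton] at this
        rcases this with e | e | e | e <;> omega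
      rw [hFeq, Finset.card_insert_of_notMem (fun h => (Finset.mem_erase.1 (Finset.mem_filter.1 h).1).1 rfl),
        h3]
    -- the quadruples would partition the pairs
    have hFsub : ∀ {a b c d : Ω}, a ≠ b → c ≠ d → c ∈ F (a, b) → d ∈ F (a, b) → F (c, d) = F (a, b) := by
      intro a b c d hab hcd hc hd
      ext t
      rw [hFmem, hFmem, heqinf hab hcd hc hd]
    let pairs := (Finset.univ : Finset Ω).offDiag
    have hsum := Finset.card_eq_sum_card_image F pairs
    have hdvd : 12 ∣ pairs.card := by
      rw [hsum]
      refine Finset.dvd_sum fun S hS => ?_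
      obtain ⟨⟨a, b⟩, hab, rfl⟩ := Finset.mem_image.1 hS
      have hab' : a ≠ b := (Finset.mem_offDiag.1 hab).2.2
      have : (pairs.filter fun cd => F cd = F (a, b)) = (F (a, b)).offDiag := by
        ext ⟨c, d⟩
        simp only [pairs, Finset.mem_filter, Finset.mem_offDiag, Finset.mem_univ, true_and]
        constructor
        · rintro ⟨hcd, he⟩
          exact ⟨he ▸ hFmem.2 inf_le_left, he ▸ hFmem.2 inf_le_right, hcd⟩
        · rintro ⟨hc, hd, hcd⟩
          exact ⟨hcd, hFsub hab' hcd hc hd⟩
      rw [this, Finset.offDiag_card, hFcard a b hab']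
    rw [show pairs.card = 462 by simp [pairs, Finset.offDiag_card, hcard]] at hdvd
    exact absurd hdvd (by decide)
  -- Sylow subgroups of order three
  classical
  let N := stabilizer H u
  let T : Finset (Finset Ω) := (Finset.univ.erase u).image fun w => orb u w
  have hTcard : Fintype.card {O // O ∈ T} = 7 := by
    rw [Fintype.card_coe]
    have h := Finset.card_eq_sum_card_image (fun w => orb u w) (Finset.univ.erase u)
    have h3 : ∀ O ∈ T, ((Finset.univ.erase u).filter fun w => orb u w = O).card = 3 := by
      intro O hO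
      obtain ⟨w, hw, rfl⟩ := Finset.mem_image.1 hO
      have hw' := (Finset.mem_erase.1 hw).1
      have : ((Finset.univ.erase u).filter fun r => orb u r = orb u w) = orb u w := by
        ext r
        rw [Finset.mem_filter]
        refine ⟨fun h => h.2 ▸ orb_self u r, fun h => ⟨?_, orb_eq h⟩⟩
        exact Finset.mem_erase.2 ⟨fun e => self_not_mem_orb hw' (e ▸ h), Finset.mem_univ _⟩
      rw [this, horb3 u w hw']
    rw [Finset.sum_congr rfl h3, Finset.sum_const, Finset.card_erase_of_mem (Finset.mem_univ _),
      Finset.card_univ, hcard, smul_eq_mul] at h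
    omega
  have hNfix : ∀ g : N, (g : H) • u = u := fun g => g.2
  have hTmap : ∀ (g : N) (O : Finset Ω), O ∈ T → O.image (fun r => (g : H) • r) ∈ T := by
    intro g O hO
    obtain ⟨w, hw, rfl⟩ := Finset.mem_image.1 hO
    rw [smul_orb (hNfix g)]
    refine Finset.mem_image.2 ⟨(g : H) • w, Finset.mem_erase.2 ⟨fun e => ?_, Finset.mem_univ _⟩, rfl⟩
    exact (Finset.mem_erase.1 hw).1 (MulAction.injective (g : H) (e.trans (hNfix g).symm))
  let act : N →* Equiv.Perm {O // O ∈ T} :=
    { toFun := fun g =>
        { toFun := fun O => ⟨O.1.image fun r => (g : H) • r, hTmap g O.1 O.2⟩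
          invFun := fun O => ⟨O.1.image fun r => ((g⁻¹ : N) : H) • r, hTmap g⁻¹ O.1 O.2⟩
          left_inv := fun O => Subtype.ext (by
            show (O.1.image fun r => (g : H) • r).image (fun r => ((g⁻¹ : N) : H) • r) = O.1
            rw [Finset.image_image]
            conv_rhs => rw [← Finset.image_id (s := O.1)]
            refine Finset.image_congr fun r _ => ?_
            simp)
          right_inv := fun O => Subtype.ext (by
            show (O.1.image fun r => ((g⁻¹ : N) : H) • r).image (fun r => (g : H) • r) = O.1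
            rw [Finset.image_image]
            conv_rhs => rw [← Finset.image_id (s := O.1)]
            refine Finset.image_congr fun r _ => ?_
            simp) }
      map_one' := Equiv.ext fun O => Subtype.ext (by
        show O.1.image (fun r => ((1 : N) : H) • r) = O.1
        simp)
      map_mul' := fun g k => Equiv.ext fun O => Subtype.ext (by
        show O.1.image (fun r => ((g * k : N) : H) • r) =
          (O.1.image fun r => (k : H) • r).image fun r => (g : H) • r
        rw [Finset.image_image]
        refine Finset.image_congr fun r _ => ?_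
        simp [mul_smul]) }
  have hker : act.ker = (u : Subgroup H).subgroupOf N := by
    have hmem : ∀ g : N, g ∈ act.ker → ∀ w, w ≠ u → (g : H) • w ∈ orb u w := by
      intro g hg w hw
      have h := congrArg (fun σ => ((σ ⟨orb u w, Finset.mem_image.2
        ⟨w, Finset.mem_erase.2 ⟨hw, Finset.mem_univ _⟩, rfl⟩⟩ : {O // O ∈ T}) : Finset Ω))
        (MonoidHom.mem_ker.1 hg)
      change (orb u w).image (fun r => (g : H) • r) = orb u w at h
      rw [← h]
      exact Finset.mem_image_of_mem _ (orb_self u w)
    apply le_antisymm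
    · -- the kernel is a 3-group
      have hK : IsPGroup 3 act.ker := by
        refine IsPGroup.iff_card.2 ⟨(Nat.card act.ker).primeFactorsList.length,
          Nat.eq_prime_pow_of_unique_prime_dvd Nat.card_pos.ne' fun {r} hr hrd => ?_⟩
        by_contra hr3
        have : Fact r.Prime := ⟨hr⟩
        obtain ⟨⟨⟨d, hdN⟩, hdK⟩, hd⟩ := exists_prime_orderOf_dvd_card' r hrd
        rw [Subgroup.orderOf_mk, Subgroup.orderOf_mk] at hd
        have hdr : d ^ r = 1 := hd ▸ pow_orderOf_eq_one d
        have hd1 : d ≠ 1 := fun e => by rw [e, orderOf_one] at hd; exact hr.one_lt.ne hd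
        have hdu : d • u = u := hdN
        have hin : ∀ w, w ≠ u → d • w ∈ orb u w := fun w hw => hmem ⟨d, hdN⟩ hdK w hw
        by_cases hr2 : r = 2
        · subst hr2
          obtain ⟨c, hcu, hc1⟩ := (Subgroup.bot_or_exists_ne_one (u : Subgroup H)).resolve_left fun e => by
            have := hP3 u; rw [e, Subgroup.card_bot] at this; omega
          have hcord : orderOf c = 3 := orderOf_eq_prime (by
            have h := orderOf_dvd_natCard (⟨c, hcu⟩ : (u : Subgroup H))
            rw [hP3, Subgroup.orderOf_mk] at h
            exact orderOf_dvd_iff_pow_eq_one.1 h) hc1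
          have hgen : ∀ z ∈ (u : Subgroup H), z = 1 ∨ z = c ∨ z = c⁻¹ := by
            intro z hz
            have : z ∈ zpowers c := by
              rw [eq_of_le_of_card_ge (zpowers_le.2 hcu) (by rw [Nat.card_zpowers, hcord, hP3])]
              exact hz
            obtain ⟨i, rfl⟩ := (mem_powers_iff_mem_zpowers).2 this
            simp only
            rw [← pow_mod_orderOf, hcord]
            have hi := Nat.mod_lt i (show 3 > 0 by norm_num)
            rcases (by omega : i % 3 = 0 ∨ i % 3 = 1 ∨ i % 3 = 2) with e | e | e <;> rw [e]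
            · exact Or.inl (pow_zero c)
            · exact Or.inr (Or.inl (pow_one c))
            · refine Or.inr (Or.inr (eq_inv_of_mul_eq_one_left ?_))
              rw [← pow_succ, show (2 + 1 : ℕ) = orderOf c by rw [hcord], pow_orderOf_eq_one]
          have hfixc : ∀ w, w ≠ u → c • w ≠ w := by
            intro w hw e
            apply hw
            refine (eq_of_forall_fix (a := u) (x := w) fun z hz => ?_).symm
            rcases hgen z hz with rfl | rfl | rfl
            · exact one_smul _ _
            · exact e
            · rw [inv_smul_eq_iff, e]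
          have horb : ∀ w, w ≠ u → ∀ t ∈ orb u w, t = w ∨ t = c • w ∨ t = c⁻¹ • w := by
            intro w hw t ht
            obtain ⟨z, hz, rfl⟩ := mem_orb.1 ht
            rcases hgen z hz with rfl | rfl | rfl
            · exact Or.inl (one_smul _ _)
            · exact Or.inr (Or.inl rfl)
            · exact Or.inr (Or.inr rfl)
          have hdc : d * c * d⁻¹ = c ∨ d * c * d⁻¹ = c⁻¹ := by
            have h := (mem_normalizer_iff.1 (Sylow.smul_eq_iff_mem_normalizer.1 hdu) c).1 hcu
            rcases hgen _ h with e | e | e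
            · exact absurd (conj_eq_one_iff.1 e) hc1
            · exact Or.inl e
            · exact Or.inr e
          have hd2 : d ^ 2 = 1 := hdr
          have hexfix : ∀ w, w ≠ u → ∃ t ∈ orb u w, d • t = t := by
            intro w hw
            have : Fact (Nat.Prime 2) := ⟨Nat.prime_two⟩
            have h := card_modEq_fixed hd2 (orb u w) fun t ht => by
              have htu : t ≠ u := fun e => self_not_mem_orb hw (e ▸ ht)
              have := hin t htu
              rwa [orb_eq ht] at this
            rw [horb3 u w hw] at h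
            obtain ⟨t, ht⟩ := Finset.card_pos.1 (Nat.pos_of_ne_zero fun e => by
              rw [e] at h; exact absurd h (by decide) :
                0 < ((orb u w).filter fun t => d • t = t).card)
            exact ⟨t, (Finset.mem_filter.1 ht).1, (Finset.mem_filter.1 ht).2⟩
          rcases hdc with hdc | hdc
          · apply hd1
            refine eq_of_smul_eq_smul fun w : Ω => ?_
            rw [one_smul]
            by_cases hw : w = u
            · rw [hw, hdu]
            obtain ⟨t, ht, htd⟩ := hexfix w hw
            have htu : t ≠ u := fun e => self_not_mem_orb hw (e ▸ ht)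
            have hct : d • c • t = c • t := by
              rw [smul_smul, mul_inv_eq_iff_eq_mul.1 hdc, mul_smul, htd]
            have hct' : d • c⁻¹ • t = c⁻¹ • t := by
              apply MulAction.injective c
              show c • d • c⁻¹ • t = c • c⁻¹ • t
              rw [smul_smul, smul_smul, ← mul_inv_eq_iff_eq_mul.1 hdc]
              simp [mul_smul, htd]
            have hw' : w ∈ orb u t := by rw [orb_eq ht]; exact orb_self u w
            rcases horb t htu w hw' with e | e | e <;> rw [e]
            · exact htd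
            · exact hct
            · exact hct'
          · -- one fixed point in each triple
            have huniq : ∀ w, w ≠ u → d • w = w → d • c • w ≠ c • w := by
              intro w hw hdw h
              rw [smul_smul, mul_inv_eq_iff_eq_mul.1 hdc, mul_smul, hdw] at h
              apply hfixc w hw
              have h2 : c • c • w = w := by rw [← h, smul_inv_smul]
              have h3 : c • c • c • w = w := by
                rw [smul_smul, smul_smul, show c * c * c = 1 by rw [← pow_three', show (3 : ℕ) = orderOf c by rw [hcord], pow_orderOf_eq_one], one_smul]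
              rw [h2] at h3; exact h3
            have hcountT : ∀ O ∈ T, (O.filter fun t => d • t = t).card = 1 := by
              intro O hO
              obtain ⟨w, hw, rfl⟩ := Finset.mem_image.1 hO
              obtain ⟨t, ht, htd⟩ := hexfix w (Finset.mem_erase.1 hw).1
              have htu : t ≠ u := fun e => self_not_mem_orb (Finset.mem_erase.1 hw).1 (e ▸ ht)
              rw [Finset.card_eq_one]
              refine ⟨t, Finset.eq_singleton_iff_unique_mem.2 ⟨Finset.mem_filter.2 ⟨ht, htd⟩, fun r hr => ?_⟩⟩
              rw [Finset.mem_filter, ← orb_eq ht] at hr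
              rcases horb t htu r hr.1 with e | e | e
              · exact e
              · exact absurd (e ▸ hr.2) (huniq t htu htd)
              · exfalso
                have hru : r ≠ u := fun e' => self_not_mem_orb htu (e' ▸ hr.1)
                have : c • r = t := by rw [e, smul_inv_smul]
                exact huniq r hru hr.2 (by rw [this]; exact htd)
            let π := MulAction.toPermHom H (Sylow 3 H)
            have hsupp : (π d).support.card = 2 * 7 := by
              have hfixed : (Finset.univ.filter fun t : Ω => d • t = t) =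
                  insert u ((Finset.univ.erase u).filter fun t => d • t = t) := by
                ext t
                by_cases ht : t = u <;> simp [ht, hdu]
              have hsum := Finset.card_eq_sum_card_image (fun w => orb u w)
                ((Finset.univ.erase u).filter fun t => d • t = t)
              have himg : ((Finset.univ.erase u).filter fun t => d • t = t).image (fun w => orb u w) = T := by
                ext O
                constructor
                · intro hO
                  obtain ⟨w, hw, rfl⟩ := Finset.mem_image.1 hO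
                  exact Finset.mem_image_of_mem _ (Finset.mem_filter.1 hw).1
                · intro hO
                  obtain ⟨w, hw, rfl⟩ := Finset.mem_image.1 hO
                  obtain ⟨t, ht, htd⟩ := hexfix w (Finset.mem_erase.1 hw).1
                  refine Finset.mem_image.2 ⟨t, Finset.mem_filter.2 ⟨Finset.mem_erase.2
                    ⟨fun e => self_not_mem_orb (Finset.mem_erase.1 hw).1 (e ▸ ht), Finset.mem_univ _⟩, htd⟩,
                    orb_eq ht⟩
              rw [himg, Finset.sum_congr rfl (fun O hO => show _ = 1 from ?_), Finset.sum_const,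
                (Fintype.card_coe T).symm.trans hTcard] at hsum
              · have h8 : (Finset.univ.filter fun t : Ω => d • t = t).card = 8 := by
                  rw [hfixed, Finset.card_insert_of_notMem (by simp), hsum]; rfl
                have hs : (π d).support = (Finset.univ.filter fun t : Ω => d • t = t)ᶜ := by
                  ext t; simp [π, Equiv.Perm.mem_support]
                rw [hs, Finset.card_compl, h8, hcard]
              · obtain ⟨w, hw, rfl⟩ := Finset.mem_image.1 hO
                rw [← hcountT _ (Finset.mem_image.2 ⟨w, hw, rfl⟩)]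
                congr 1
                ext t
                simp only [Finset.mem_filter, Finset.mem_erase, Finset.mem_univ, and_true]
                constructor
                · rintro ⟨⟨-, h2⟩, h3⟩; exact ⟨h3 ▸ orb_self u t, h2⟩
                · rintro ⟨h1, h2⟩
                  exact ⟨⟨fun e => self_not_mem_orb (Finset.mem_erase.1 hw).1 (e ▸ h1), h2⟩, orb_eq h1⟩
            have h := sign_fpf_involution (τ := π d) (m := 7)
              (by rw [orderOf_injective π inj_perm, hd]) hsupp (by decide)
            exact absurd ((hsgn d).symm.trans h) (by decide)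
        · apply hd1
          refine eq_of_smul_eq_smul fun w : Ω => ?_
          rw [one_smul]
          by_cases hw : w = u
          · rw [hw, hdu]
          by_contra hne
          have hsub : ((Finset.range r).image fun i => d ^ i • w) ⊆ orb u w := by
            intro t ht
            obtain ⟨i, -, rfl⟩ := Finset.mem_image.1 ht
            clear ht
            induction i with
            | zero => rw [pow_zero, one_smul]; exact orb_self u w
            | succ i ih =>
              rw [pow_succ', mul_smul]
              have htu : d ^ i • w ≠ u := fun e => self_not_mem_orb hw (e ▸ ih)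
              have := hin _ htu
              rwa [orb_eq ih] at this
          have := Finset.card_le_card hsub
          rw [card_powers_image hdr hne, horb3 u w hw] at this
          interval_cases r
          all_goals first | exact hr2 rfl | exact hr3 rfl | exact absurd hr (by norm_num)
      intro g hg
      obtain ⟨k, hk⟩ := IsPGroup.iff_orderOf.1 hK ⟨g, hg⟩
      rw [Subgroup.orderOf_mk, ← Subgroup.orderOf_coe] at hk
      exact mem_sylow_of_fix (orderOf_dvd_iff_pow_eq_one.1 (dvd_of_eq hk)) (hNfix g)
    · intro g hg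
      rw [MonoidHom.mem_ker]
      refine Equiv.ext fun O => Subtype.ext ?_
      obtain ⟨w, hw, e⟩ := Finset.mem_image.1 O.2
      show O.1.image (fun r => (g : H) • r) = O.1
      rw [← e, smul_orb (hNfix g)]
      exact orb_eq (mem_orb.2 ⟨g, hg, rfl⟩)
  set s := Nat.card act.range with hs
  have hPN : (u : Subgroup H) ≤ N := fun z hz => smul_self_of_mem hz
  have hNs : Nat.card N = 3 * s := by
    rw [hs, ← act.ker.card_mul_index, Subgroup.index_ker, hker,
      Nat.card_congr (subgroupOfEquivOfLe hPN).toEquiv, hP3]
  have h7 : s ∣ 5040 := by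
    have h := act.range.card_subgroup_dvd_card
    rwa [Nat.card_perm, Nat.card_eq_fintype_card (α := {O // O ∈ T}), hTcard] at h
  have h7s : 7 ∣ s := by
    -- the stabilizer is transitive on the other points
    obtain ⟨w, hw⟩ := Fintype.exists_ne_of_one_lt_card (by omega) u
    have h1 := (stabilizer N w).card_mul_index
    rw [index_stabilizer] at h1
    have h2 : (MulAction.orbit N w) = {t : Ω | t ≠ u} := by
      ext t
      constructor
      · rintro ⟨g, rfl⟩ e
        exact hw (MulAction.injective (g : H) ((e : (g : H) • w = u).trans (hNfix g).symm))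
      · intro ht
        obtain ⟨g, hg, hgw⟩ := htrans' u w t hw ht
        exact ⟨⟨g, hg⟩, hgw⟩
    have h3 : ({t : Ω | t ≠ u} : Set Ω).ncard = 21 := by
      rw [show ({t : Ω | t ≠ u} : Set Ω) = ↑(Finset.univ.erase u) by ext t; simp, Set.ncard_coe_finset,
        Finset.card_erase_of_mem (Finset.mem_univ _), Finset.card_univ, hcard]
    rw [h2, h3, hNs] at h1
    omega
  have h3s : ¬ 3 ∣ s := by
    intro h
    have h1 : 9 ∣ Nat.card H := by
      rw [card_eq_mul_stabilizer hcard u, hNs]
      obtain ⟨i, hi⟩ := h
      exact ⟨22 * i, by rw [hi]; ring⟩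
    obtain ⟨K, hK⟩ := Sylow.exists_subgroup_card_pow_prime 3 (n := 2) (G := H) h1
    obtain ⟨Q, hQ⟩ := (IsPGroup.of_card hK).exists_le_sylow
    have := Subgroup.card_le_of_le hQ
    rw [hK, hP3] at this
    omega
  have hs70 : s = 70 := by
    rw [hNs] at hn11
    have key : ∀ s ∈ Nat.divisors 5040, 7 ∣ s → ¬ 3 ∣ s → 3 * s % 11 = 1 → s = 70 ∨ s = 224 := by
      decide +kernel
    rcases key s (Nat.mem_divisors.2 ⟨h7, by norm_num⟩) h7s h3s hn11 with e | e
    · exact e
    · rw [e] at h7; exact absurd h7 (by decide)
  -- no such subgroup of `S₇`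
  have : Fact (Nat.Prime 7) := ⟨by norm_num⟩
  have : Fact (Nat.Prime 5) := ⟨by norm_num⟩
  obtain ⟨Z⟩ := Sylow.nonempty (p := 7) (G := act.range)
  have hZi : (Z : Subgroup act.range).index ∣ 10 ∧ Nat.card (Z : Subgroup act.range) = 7 := by
    have h1 : Nat.card (Z : Subgroup act.range) = 7 := by
      rw [Sylow.card_eq_multiplicity, ← hs, hs70, show (70 : ℕ) = 7 * 10 by norm_num,
        Nat.factorization_mul (by norm_num) (by norm_num), Finsupp.add_apply,
        Nat.Prime.factorization_self (show Nat.Prime 7 by norm_num),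
        Nat.factorization_eq_zero_of_not_dvd (show ¬ 7 ∣ 10 by norm_num)]
      norm_num
    have h2 := (Z : Subgroup act.range).card_mul_index
    rw [h1, ← hs, hs70] at h2
    exact ⟨dvd_of_eq (by omega), h1⟩
  have hZn : Nat.card (Sylow 7 act.range) = 1 := by
    have h1 := Z.card_dvd_index.trans hZi.1
    have h2 := card_sylow_modEq_one 7 act.range
    have h3 := Nat.mem_divisors.2 ⟨h1, by norm_num⟩
    rw [show Nat.divisors 10 = {1, 2, 5, 10} by decide] at h3
    simp only [Finset.mem_insert, Finset.mem_singleton] at h3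
    rcases h3 with e | e | e | e <;> simp_all [Nat.ModEq]
  have : Subsingleton (Sylow 7 act.range) := (Nat.card_eq_one_iff_unique.1 hZn).1
  have hZnorm : (Z : Subgroup act.range).Normal := Z.normal_of_subsingleton
  obtain ⟨y5, hy5⟩ := exists_prime_orderOf_dvd_card' (G := act.range) 5 (by rw [← hs, hs70]; norm_num)
  have hcyc : IsCyclic (Z : Subgroup act.range) := isCyclic_of_prime_card hZi.2
  let φ := MulAut.conjNormal (H := (Z : Subgroup act.range)) y5
  have hφ : φ = 1 := by
    have h1 : orderOf φ ∣ 5 := hy5 ▸ orderOf_map_dvd MulAut.conjNormal y5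
    have h2 : orderOf φ ∣ 6 := by
      have h3 : Nat.card (MulAut (Z : Subgroup act.range)) = 6 := by
        rw [IsCyclic.card_mulAut, hZi.2, Nat.totient_prime (by norm_num)]
      exact h3 ▸ orderOf_dvd_natCard φ
    exact orderOf_eq_one_iff.1 (Nat.dvd_one.1 (Nat.dvd_gcd h1 h2))
  obtain ⟨z, hzZ, hz1⟩ := (Subgroup.bot_or_exists_ne_one (Z : Subgroup act.range)).resolve_left fun e => by
    have := hZi.2; rw [e, Subgroup.card_bot] at this; omega
  have hz7 : z ^ 7 = 1 := by
    have h := orderOf_dvd_natCard (⟨z, hzZ⟩ : (Z : Subgroup act.range))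
    rw [hZi.2, Subgroup.orderOf_mk] at h
    exact orderOf_dvd_iff_pow_eq_one.1 h
  have hc : Commute (z : Equiv.Perm {O // O ∈ T}) (y5 : Equiv.Perm {O // O ∈ T}) := by
    have h := congrArg (fun e : MulAut (Z : Subgroup act.range) =>
      ((e ⟨z, hzZ⟩ : (Z : Subgroup act.range)) : act.range)) hφ
    simp only [φ, MulAut.conjNormal_apply, MulAut.one_apply] at h
    exact congrArg Subtype.val (mul_inv_eq_iff_eq_mul.1 h).symm
  have h := commute_cycle_seven hTcard (z := (z : Equiv.Perm {O // O ∈ T}))
    (by rw [← SubmonoidClass.coe_pow, hz7]; rfl) (fun e => hz1 (Subtype.ext e)) hc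
  have h5 : orderOf (y5 : Equiv.Perm {O // O ∈ T}) = 5 := by rw [Subgroup.orderOf_coe]; exact hy5
  have := orderOf_dvd_of_pow_eq_one h
  rw [h5] at this
  omega

end Cfsg.Agent.Perm.N22
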