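import Cfsg.Prelude.Def_Sz
import Cfsg.Agent.Lib.Perm.FpfExtension

/-! Odd-order elements of `Sz(q)` have no non-zero fixed vector on the natural module. -/

namespace Cfsg.Agent.Perm.SzFpf

open Matrix Cfsg.Lie

variable {F : Type*} [Field F] [CharP F 2]

/-- The Gram matrix of `altForm4`. -/
def J4 : Matrix (Fin 4) (Fin 4) F := !![0, 0, 0, 1; 0, 0, 1, 0; 0, 1, 0, 0; 1, 0, 0, 0]

theorem J4_mul_self : (J4 : Matrix (Fin 4) (Fin 4) F) * J4 = 1 := by
  ext i j; fin_cases i <;> fin_cases j <;> simp [J4, Matrix.mul_apply, Fin.sum_univ_four]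

theorem col_rel {g : GL (Fin 4) F} (hg : g ∈ Sp4 F) (i j : Fin 4) :
    g.1 0 i * g.1 3 j + g.1 1 i * g.1 2 j + g.1 2 i * g.1 1 j + g.1 3 i * g.1 0 j
      = (J4 : Matrix (Fin 4) (Fin 4) F) i j := by
  have h := hg (Pi.single i 1) (Pi.single j 1)
  simp only [altForm4, Units.coeHom_apply, Matrix.mulVec_single_one, Matrix.col_apply] at h
  rw [h]
  fin_cases i <;> fin_cases j <;> simp [J4]

theorem gram {g : GL (Fin 4) F} (hg : g ∈ Sp4 F) : g.1ᵀ * J4 * g.1 = J4 := by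
  ext i j
  rw [← col_rel hg i j]
  fin_cases i <;> fin_cases j <;> simp [J4, Matrix.mul_apply, Fin.sum_univ_four] <;> ring

theorem right_inv' {g : GL (Fin 4) F} (hg : g ∈ Sp4 F) : g.1 * (J4 * g.1ᵀ * J4) = 1 := by
  apply mul_eq_one_comm.1
  rw [Matrix.mul_assoc, Matrix.mul_assoc, ← Matrix.mul_assoc g.1ᵀ, gram hg, J4_mul_self]

theorem gram' {g : GL (Fin 4) F} (hg : g ∈ Sp4 F) : g.1 * J4 * g.1ᵀ = J4 := by
  have h := congrArg (fun M => M * (J4 : Matrix (Fin 4) (Fin 4) F)) (right_inv' hg)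
  simp only [Matrix.mul_assoc, J4_mul_self, Matrix.mul_one, Matrix.one_mul] at h
  rwa [Matrix.mul_assoc]

theorem row_rel {g : GL (Fin 4) F} (hg : g ∈ Sp4 F) (k l : Fin 4) :
    g.1 k 0 * g.1 l 3 + g.1 k 1 * g.1 l 2 + g.1 k 2 * g.1 l 1 + g.1 k 3 * g.1 l 0
      = (J4 : Matrix (Fin 4) (Fin 4) F) k l := by
  rw [← congrFun (congrFun (gram' hg) k) l]
  fin_cases k <;> fin_cases l <;> simp [J4, Matrix.mul_apply, Fin.sum_univ_four] <;> ring

theorem star4_mul {g h : GL (Fin 4) F} (hg : g ∈ Sp4 F) (hh : h ∈ Sp4 F) :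
    star4 (g.1 * h.1) = star4 g.1 * star4 h.1 := by
  have h2 : (2 : F) = 0 := CharTwo.two_eq_zero
  have hJ : ∀ p : Fin 4, (J4 : Matrix (Fin 4) (Fin 4) F) (pairOf p).1 (pairOf p).2 = 0 := by
    intro p; fin_cases p <;> simp [J4, pairOf]
  ext p r
  have hr := row_rel hg (pairOf p).1 (pairOf p).2
  have hc := col_rel hh (pairOf r).1 (pairOf r).2
  rw [hJ] at hr hc
  simp only [star4, Matrix.of_apply, Matrix.mul_apply, Fin.sum_univ_four, pairOf,
    Matrix.cons_val_zero, Matrix.cons_val_one, Matrix.cons_val]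
  simp only [pairOf] at hr hc
  generalize ((![(0, 1), (0, 2), (1, 3), (2, 3)] : Fin 4 → Fin 4 × Fin 4) p).1 = k at *
  generalize ((![(0, 1), (0, 2), (1, 3), (2, 3)] : Fin 4 → Fin 4 × Fin 4) p).2 = l at *
  generalize ((![(0, 1), (0, 2), (1, 3), (2, 3)] : Fin 4 → Fin 4 × Fin 4) r).1 = i at *
  generalize ((![(0, 1), (0, 2), (1, 3), (2, 3)] : Fin 4 → Fin 4 × Fin 4) r).2 = j at *
  linear_combination (h.1 0 i * h.1 3 j - h.1 3 i * h.1 0 j) * hr
    + (g.1 k 1 * g.1 l 2 - g.1 l 1 * g.1 k 2) * hc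
    - ((h.1 0 i * h.1 3 j - h.1 3 i * h.1 0 j) * (g.1 k 3 * g.1 l 0 + g.1 k 2 * g.1 l 1)
      + (g.1 k 1 * g.1 l 2 - g.1 l 1 * g.1 k 2) * (h.1 3 i * h.1 0 j + h.1 2 i * h.1 1 j)
      + (h.1 0 i * h.1 3 j - h.1 3 i * h.1 0 j) * (g.1 k 1 * g.1 l 2 - g.1 l 1 * g.1 k 2)) * h2

/-- The defining condition of `Sz`. -/
def cond (F : Type*) [Field F] (e : ℕ) : Set (GL (Fin 4) F) :=
  {g | g ∈ Sp4 F ∧ star4 (g : Matrix (Fin 4) (Fin 4) F) = (g : Matrix (Fin 4) (Fin 4) F).map (fun x => x ^ e)}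

theorem star4_one : star4 (1 : Matrix (Fin 4) (Fin 4) F) = 1 := by
  ext p r
  fin_cases p <;> fin_cases r <;> simp [star4] <;> simp [pairOf, Matrix.one_apply]

theorem map_pow_mul (n : ℕ) (A B : Matrix (Fin 4) (Fin 4) F) :
    (A * B).map (fun x => x ^ 2 ^ n) = A.map (fun x => x ^ 2 ^ n) * B.map (fun x => x ^ 2 ^ n) := by
  ext i j
  simp only [Matrix.map_apply, Matrix.mul_apply, sum_pow_char_pow, mul_pow]

theorem mem_cond {n : ℕ} {g : GL (Fin 4) F} (hg : g ∈ Sz F (2 ^ n)) : g ∈ cond F (2 ^ n) := by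
  induction hg using Subgroup.closure_induction with
  | mem x hx => exact hx
  | one =>
    refine ⟨one_mem _, ?_⟩
    rw [Units.val_one, star4_one]
    ext i j; fin_cases i <;> fin_cases j <;> simp
  | mul x y _ _ hx hy =>
    exact ⟨mul_mem hx.1 hy.1, by rw [Units.val_mul, star4_mul hx.1 hy.1, hx.2, hy.2, map_pow_mul]⟩
  | inv x _ hx =>
    refine ⟨inv_mem hx.1, ?_⟩
    have h1 := star4_mul hx.1 (inv_mem hx.1)
    rw [← Units.val_mul, mul_inv_cancel, Units.val_one, star4_one, hx.2] at h1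
    have h2 : (x : Matrix (Fin 4) (Fin 4) F).map (fun z => z ^ 2 ^ n) *
        ((x⁻¹ : GL (Fin 4) F) : Matrix (Fin 4) (Fin 4) F).map (fun z => z ^ 2 ^ n) = 1 := by
      rw [← map_pow_mul, ← Units.val_mul, mul_inv_cancel, Units.val_one]
      ext i j; fin_cases i <;> fin_cases j <;> simp
    exact left_inv_eq_right_inv (mul_eq_one_comm.1 h1.symm) h2

/-- The second coefficient: sum of the principal `2 × 2` minors. -/
def e2 (M : Matrix (Fin 4) (Fin 4) F) : F :=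
  M 0 0 * M 1 1 - M 0 1 * M 1 0 + (M 0 0 * M 2 2 - M 0 2 * M 2 0) + (M 0 0 * M 3 3 - M 0 3 * M 3 0)
  + (M 1 1 * M 2 2 - M 1 2 * M 2 1) + (M 1 1 * M 3 3 - M 1 3 * M 3 1) + (M 2 2 * M 3 3 - M 2 3 * M 3 2)

omit [CharP F 2] in
theorem det_fin_four {R : Type*} [CommRing R] (M : Matrix (Fin 4) (Fin 4) R) : M.det =
    M 0 0 * (M 1 1 * (M 2 2 * M 3 3 - M 2 3 * M 3 2) - M 1 2 * (M 2 1 * M 3 3 - M 2 3 * M 3 1) + M 1 3 * (M 2 1 * M 3 2 - M 2 2 * M 3 1))
  - M 0 1 * (M 1 0 * (M 2 2 * M 3 3 - M 2 3 * M 3 2) - M 1 2 * (M 2 0 * M 3 3 - M 2 3 * M 3 0) + M 1 3 * (M 2 0 * M 3 2 - M 2 2 * M 3 0))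
  + M 0 2 * (M 1 0 * (M 2 1 * M 3 3 - M 2 3 * M 3 1) - M 1 1 * (M 2 0 * M 3 3 - M 2 3 * M 3 0) + M 1 3 * (M 2 0 * M 3 1 - M 2 1 * M 3 0))
  - M 0 3 * (M 1 0 * (M 2 1 * M 3 2 - M 2 2 * M 3 1) - M 1 1 * (M 2 0 * M 3 2 - M 2 2 * M 3 0) + M 1 2 * (M 2 0 * M 3 1 - M 2 1 * M 3 0)) := by
  simp [Matrix.det_succ_row_zero, Fin.sum_univ_succ, Fin.succAbove]
  ring

/-- The third coefficient: sum of the principal `3 × 3` minors. -/
def e3 {R : Type*} [CommRing R] (M : Matrix (Fin 4) (Fin 4) R) : R := (adjugate M).trace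

omit [CharP F 2] in
theorem e3_eq {R : Type*} [CommRing R] (M : Matrix (Fin 4) (Fin 4) R) : e3 M =
    (M 1 1 * (M 2 2 * M 3 3 - M 2 3 * M 3 2) - M 1 2 * (M 2 1 * M 3 3 - M 2 3 * M 3 1) + M 1 3 * (M 2 1 * M 3 2 - M 2 2 * M 3 1))
  + (M 0 0 * (M 2 2 * M 3 3 - M 2 3 * M 3 2) - M 0 2 * (M 2 0 * M 3 3 - M 2 3 * M 3 0) + M 0 3 * (M 2 0 * M 3 2 - M 2 2 * M 3 0))
  + (M 0 0 * (M 1 1 * M 3 3 - M 1 3 * M 3 1) - M 0 1 * (M 1 0 * M 3 3 - M 1 3 * M 3 0) + M 0 3 * (M 1 0 * M 3 1 - M 1 1 * M 3 0))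
  + (M 0 0 * (M 1 1 * M 2 2 - M 1 2 * M 2 1) - M 0 1 * (M 1 0 * M 2 2 - M 1 2 * M 2 0) + M 0 2 * (M 1 0 * M 2 1 - M 1 1 * M 2 0)) := by
  simp [e3, Matrix.trace, Matrix.adjugate_fin_succ_eq_det_submatrix, Matrix.det_fin_three,
    Fin.sum_univ_four, Fin.succAbove]
  ring

omit [CharP F 2] in
theorem charpoly_fin_four (M : Matrix (Fin 4) (Fin 4) F) : M.charpoly =
    Polynomial.X ^ 4 - Polynomial.C M.trace * Polynomial.X ^ 3 + Polynomial.C (e2 M) * Polynomial.X ^ 2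
      - Polynomial.C (e3 M) * Polynomial.X + Polynomial.C M.det := by
  rw [Matrix.charpoly, det_fin_four, e3_eq, det_fin_four]
  simp [Matrix.charmatrix_apply, e2, Matrix.trace, Fin.sum_univ_four]
  ring

theorem fixed_free {n : ℕ} {g : GL (Fin 4) F} (hg : g ∈ Sz F (2 ^ n)) (hodd : Odd (orderOf g))
    (h0 : ((g : Matrix (Fin 4) (Fin 4) F) - 1).det = 0) : g = 1 := by
  obtain ⟨hsp, hst⟩ := mem_cond hg
  have hdet : g.1.det = 1 := by
    have := congrArg Matrix.det (gram hsp)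
    rw [Matrix.det_mul, Matrix.det_mul, Matrix.det_transpose] at this
    have hJ : (J4 : Matrix (Fin 4) (Fin 4) F).det ≠ 0 := by
      intro h
      have h1 := congrArg Matrix.det (J4_mul_self (F := F))
      rw [Matrix.det_mul, h, zero_mul, Matrix.det_one] at h1
      exact zero_ne_one h1
    have h1 : g.1.det * g.1.det = 1 := by
      apply mul_right_cancel₀ hJ
      linear_combination this
    have h2 : (g.1.det + 1) * (g.1.det + 1) = 0 := by
      linear_combination h1 + (g.1.det + 1) * (CharTwo.two_eq_zero (R := F))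
    exact CharTwo.add_eq_zero.1 (mul_self_eq_zero.1 h2)
  have he3 : e3 g.1 = g.1.trace := by
    have hA : adjugate g.1 = J4 * g.1ᵀ * J4 := by
      have h1 : adjugate g.1 * g.1 = 1 := by rw [Matrix.adjugate_mul, hdet, one_smul]
      exact left_inv_eq_right_inv h1 (right_inv' hsp)
    rw [e3, hA]
    simp [Matrix.trace, J4, Matrix.mul_apply, Fin.sum_univ_four, Matrix.vecMul, dotProduct,
      Matrix.transpose_apply]
    ring
  have hc := charpoly_fin_four g.1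
  have he2 : e2 g.1 = 0 := by
    have h1 := congrArg (Polynomial.eval 1) hc
    rw [Matrix.eval_charpoly] at h1
    have h3 : (Matrix.scalar (Fin 4) (1 : F) - g.1).det = 0 := by
      rw [map_one, show (1 : Matrix (Fin 4) (Fin 4) F) - g.1 = -(g.1 - 1) by abel,
        Matrix.det_neg, h0, mul_zero]
    rw [h3] at h1
    simp [he3, hdet] at h1
    linear_combination -h1 + (g.1.trace - 1) * (CharTwo.two_eq_zero (R := F))
  have htr : g.1.trace = 0 := by
    have h1 : (star4 g.1).trace = e2 g.1 := by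
      have c1 := col_rel hsp 0 3
      have c2 := col_rel hsp 1 2
      have r1 := row_rel hsp 0 3
      simp [J4] at c1 c2 r1
      simp [star4, pairOf, e2, Matrix.trace, Fin.sum_univ_four]
      linear_combination c2 - r1 + (g.1 0 3 * g.1 3 0 - g.1 1 1 * g.1 2 2) * (CharTwo.two_eq_zero (R := F))
    rw [hst, he2] at h1
    have h3 : g.1.trace ^ 2 ^ n = 0 := by
      rw [← h1]
      simp only [Matrix.trace, Matrix.diag_apply, Matrix.map_apply, sum_pow_char_pow]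
    exact (pow_eq_zero_iff (by positivity)).1 h3
  have h4 : g ^ 4 = 1 := by
    apply Units.ext
    have h5 := Matrix.aeval_self_charpoly g.1
    rw [hc, he3, htr, he2, hdet] at h5
    simp at h5
    rw [Units.val_pow_eq_pow_val, Units.val_one, ← CharTwo.add_eq_zero]
    simpa using h5
  rw [← orderOf_eq_one_iff]
  exact Nat.dvd_one.1 ((Nat.Coprime.pow_right 2 hodd.coprime_two_right).dvd_of_dvd_mul_left
    (by simpa using orderOf_dvd_of_pow_eq_one h4))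

theorem two_dvd_card [Finite F] (n : ℕ) : 2 ∣ Nat.card (Sz F (2 ^ n)) := by
  let j : GL (Fin 4) F := ⟨J4, J4, J4_mul_self, J4_mul_self⟩
  have hj : j ∈ Sz F (2 ^ n) := by
    apply Subgroup.subset_closure
    refine ⟨?_, ?_⟩
    · intro u v
      simp [j, altForm4, J4, Matrix.mulVec, dotProduct, Fin.sum_univ_four]
      ring
    · show star4 J4 = J4.map _
      ext p r
      fin_cases p <;> fin_cases r <;> simp [star4, pairOf, J4, CharTwo.neg_eq]
  have h : orderOf (⟨j, hj⟩ : Sz F (2 ^ n)) = 2 := by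
    apply orderOf_eq_prime
    · apply Subtype.ext
      rw [pow_two]
      exact Units.ext J4_mul_self
    · intro h
      have := congrArg (fun g : Sz F (2 ^ n) => (g : GL (Fin 4) F).1 0 0) h
      simp [j, J4] at this
  exact (dvd_of_eq h.symm).trans (orderOf_dvd_natCard _)

end Cfsg.Agent.Perm.SzFpf
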