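import Mathlib.NumberTheory.Bertrand
import Mathlib.Tactic.NormNum.Prime
import Mathlib.Tactic.Linarith
import Mathlib.Tactic.IntervalCases

/-!
For `n ≥ 9` there are three primes in `(n, 2n]`: Erdős's proof of Bertrand's postulate with two
more factors `2n`, and a list of witnesses below `4096`.
-/

set_option autoImplicit false

namespace Cfsg.Agent.Perm

open Finset

theorem four_pow_gt_bound {n : ℕ} (hn : 4096 ≤ n) :
    n * (2 * n) ^ (Nat.sqrt (2 * n) + 2) * 4 ^ (2 * n / 3) ≤ 4 ^ n := by
  set k := Nat.log 2 (2 * n) + 1 with hk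
  set s := Nat.sqrt (2 * n) with hs
  have hlt : 2 * n < 2 ^ k := Nat.lt_pow_succ_log_self (by norm_num) _
  have hle : 2 ^ (k - 1) ≤ 2 * n := by
    rw [hk, Nat.add_sub_cancel]; exact Nat.pow_log_le_self 2 (by omega)
  have hk14 : 14 ≤ k := by
    have : 13 ≤ Nat.log 2 (2 * n) := Nat.le_log_of_pow_le (by norm_num) (by norm_num; omega)
    omega
  have hgrow : ∀ j, 14 ≤ j → 36 * (j * j) ≤ 2 ^ (j - 1) := by
    intro j hj
    induction j, hj using Nat.le_induction with
    | base => norm_num
    | succ j hj ih =>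
      have e : 2 ^ (j + 1 - 1) = 2 * 2 ^ (j - 1) := by
        rw [← pow_succ']; congr 1; omega
      rw [e]; nlinarith
  have hs6 : 6 * k ≤ s := Nat.le_sqrt.mpr (by nlinarith [hgrow k hk14])
  have hs2 : s * s ≤ 2 * n := Nat.sqrt_le _
  have hexp : k * (s + 3) + 2 * (2 * n / 3) ≤ 2 * n := by
    have h2 : 3 * (2 * n / 3) ≤ 2 * n := Nat.mul_div_le _ _
    nlinarith
  calc n * (2 * n) ^ (s + 2) * 4 ^ (2 * n / 3)
      ≤ (2 ^ k) * (2 ^ k) ^ (s + 2) * 4 ^ (2 * n / 3) := by
        gcongr
        omega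
    _ = 2 ^ (k * (s + 3) + 2 * (2 * n / 3)) := by
        rw [show (4 : ℕ) = 2 ^ 2 by norm_num, ← pow_mul, ← pow_mul, ← pow_add, ← pow_add]
        congr 1; ring
    _ ≤ 2 ^ (2 * n) := Nat.pow_le_pow_right (by norm_num) hexp
    _ = 4 ^ n := by rw [show (4 : ℕ) = 2 ^ 2 by norm_num, ← pow_mul]

theorem centralBinom_le_of_few_primes (n : ℕ) (hn : 2 < n)
    (h : ((Finset.Ioc n (2 * n)).filter Nat.Prime).card ≤ 2) :
    Nat.centralBinom n ≤ (2 * n) ^ (Nat.sqrt (2 * n) + 2) * 4 ^ (2 * n / 3) := by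
  classical
  set f := fun x => x ^ (Nat.centralBinom n).factorization x with hf
  set S := (Finset.range (2 * n + 1)).filter Nat.Prime with hS
  have hprod : Nat.centralBinom n = ∏ x ∈ S, f x := by
    conv_lhs => rw [← n.prod_pow_factorization_centralBinom]
    refine (Finset.prod_filter_of_ne fun p _ hp => ?_).symm
    by_contra hnp
    exact hp (by simp [Nat.factorization_eq_zero_of_not_prime _ hnp])
  have hall : ∀ p, f p ≤ 2 * n := fun p => Nat.pow_factorization_choose_le (by omega)
  set s := Nat.sqrt (2 * n)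
  rw [hprod, ← Finset.prod_filter_mul_prod_filter_not S (fun p => p ≤ s ∨ n < p)]
  refine Nat.mul_le_mul ?_ ?_
  · refine (Finset.prod_le_prod' fun p _ => hall p).trans ?_
    rw [Finset.prod_const]
    refine Nat.pow_le_pow_right (by omega) ((Finset.card_le_card (t := Finset.Icc 1 s ∪ (Finset.Ioc n (2 * n)).filter Nat.Prime) ?_).trans ?_)
    · intro p hp
      simp only [hS, Finset.mem_filter, Finset.mem_range] at hp
      obtain ⟨⟨h1, h2⟩, h3 | h3⟩ := hp
      · exact Finset.mem_union_left _ (Finset.mem_Icc.mpr ⟨h2.one_lt.le, h3⟩)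
      · exact Finset.mem_union_right _ (Finset.mem_filter.mpr ⟨Finset.mem_Ioc.mpr ⟨h3, by omega⟩, h2⟩)
    · refine (Finset.card_union_le _ _).trans (Nat.add_le_add ?_ h)
      rw [Nat.card_Icc, Nat.add_sub_cancel]
  · refine le_trans ?_ (primorial_le_four_pow (2 * n / 3))
    rw [primorial]
    refine le_trans ?_ (Finset.prod_le_prod_of_subset_of_one_le' (s := (S.filter fun p => ¬(p ≤ s ∨ n < p)).filter (fun p => p ≤ 2 * n / 3)) ?_ fun p hp _ => (Finset.mem_filter.mp hp).2.one_lt.le)
    · rw [← Finset.prod_filter_mul_prod_filter_not (S.filter fun p => ¬(p ≤ s ∨ n < p)) (fun p => p ≤ 2 * n / 3)]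
      refine le_trans (Nat.mul_le_mul (Finset.prod_le_prod' fun p hp => (?_ : f p ≤ p)) (le_of_eq (Finset.prod_eq_one fun p hp => ?_))) (by rw [mul_one])
      · simp only [hS, Finset.mem_filter, Finset.mem_range] at hp
        obtain ⟨⟨⟨h1, h2⟩, h3⟩, h4⟩ := hp
        refine (Nat.pow_le_pow_right h2.pos ?_).trans (pow_one p).le
        exact Nat.factorization_choose_le_one (Nat.sqrt_lt'.mp (by omega))
      · simp only [hS, Finset.mem_filter, Finset.mem_range] at hp
        obtain ⟨⟨⟨h1, h2⟩, h3⟩, h4⟩ := hp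
        simp only [hf]
        rw [Nat.factorization_centralBinom_of_two_mul_self_lt_three_mul hn (by omega) (by omega), pow_zero]
    · intro p hp
      simp only [hS, Finset.mem_filter, Finset.mem_range] at hp
      exact Finset.mem_filter.mpr ⟨Finset.mem_range.mpr (by omega), hp.1.1.2⟩

theorem three_primes_large {n : ℕ} (hn : 4096 ≤ n) :
    2 < ((Finset.Ioc n (2 * n)).filter Nat.Prime).card := by
  by_contra h
  push Not at h
  have h1 := Nat.four_pow_lt_mul_centralBinom n (by omega)
  have h2 := centralBinom_le_of_few_primes n (by omega) h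
  have h3 := four_pow_gt_bound hn
  have : n * Nat.centralBinom n ≤ 4 ^ n := by
    refine le_trans ?_ h3
    rw [mul_assoc]
    exact Nat.mul_le_mul_left n h2
  omega

theorem three_primes_step (a b c : ℕ) {n : ℕ} (ha : a.Prime) (hb : b.Prime) (hc : c.Prime)
    (hab : a < b) (hbc : b < c)
    (rest : a ≤ n → ∃ a b c : ℕ, a.Prime ∧ b.Prime ∧ c.Prime ∧ n < a ∧ a < b ∧ b < c ∧ c ≤ 2 * n)
    (hcn : c ≤ 2 * n) :
    ∃ a b c : ℕ, a.Prime ∧ b.Prime ∧ c.Prime ∧ n < a ∧ a < b ∧ b < c ∧ c ≤ 2 * n := by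
  rcases lt_or_ge n a with h | h
  · exact ⟨a, b, c, ha, hb, hc, h, hab, hbc, hcn⟩
  · exact rest h

theorem exists_three_primes {n : ℕ} (hn : 9 ≤ n) :
    ∃ a b c : ℕ, a.Prime ∧ b.Prime ∧ c.Prime ∧ n < a ∧ a < b ∧ b < c ∧ c ≤ 2 * n := by
  rcases le_or_gt 4096 n with h | h
  · obtain ⟨a, b, c, ha, hb, hc, hab, hac, hbc⟩ := Finset.two_lt_card_iff.mp (three_primes_large h)
    simp only [Finset.mem_filter, Finset.mem_Ioc] at ha hb hc
    rcases lt_trichotomy a b with h1 | h1 | h1 <;> rcases lt_trichotomy b c with h2 | h2 | h2 <;>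
      rcases lt_trichotomy a c with h3 | h3 | h3 <;>
      first
      | omega
      | exact ⟨a, b, c, ha.2, hb.2, hc.2, ha.1.1, h1, h2, hc.1.2⟩
      | exact ⟨a, c, b, ha.2, hc.2, hb.2, ha.1.1, h3, h2, hb.1.2⟩
      | exact ⟨b, a, c, hb.2, ha.2, hc.2, hb.1.1, h1, h3, hc.1.2⟩
      | exact ⟨b, c, a, hb.2, hc.2, ha.2, hb.1.1, h2, h3, ha.1.2⟩
      | exact ⟨c, a, b, hc.2, ha.2, hb.2, hc.1.1, h3, h1, hb.1.2⟩
      | exact ⟨c, b, a, hc.2, hb.2, ha.2, hc.1.1, h2, h1, ha.1.2⟩
  refine three_primes_step 11 13 17 (by norm_num) (by norm_num) (by norm_num) (by norm_num) (by norm_num) (fun h1 => ?_) (by omega)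
  refine three_primes_step 13 17 19 (by norm_num) (by norm_num) (by norm_num) (by norm_num) (by norm_num) (fun h1 => ?_) (by omega)
  refine three_primes_step 17 19 23 (by norm_num) (by norm_num) (by norm_num) (by norm_num) (by norm_num) (fun h1 => ?_) (by omega)
  refine three_primes_step 23 29 31 (by norm_num) (by norm_num) (by norm_num) (by norm_num) (by norm_num) (fun h1 => ?_) (by omega)
  refine three_primes_step 37 41 43 (by norm_num) (by norm_num) (by norm_num) (by norm_num) (by norm_num) (fun h1 => ?_) (by omega)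
  refine three_primes_step 67 71 73 (by norm_num) (by norm_num) (by norm_num) (by norm_num) (by norm_num) (fun h1 => ?_) (by omega)
  refine three_primes_step 113 127 131 (by norm_num) (by norm_num) (by norm_num) (by norm_num) (by norm_num) (fun h1 => ?_) (by omega)
  refine three_primes_step 199 211 223 (by norm_num) (by norm_num) (by norm_num) (by norm_num) (by norm_num) (fun h1 => ?_) (by omega)
  refine three_primes_step 383 389 397 (by norm_num) (by norm_num) (by norm_num) (by norm_num) (by norm_num) (fun h1 => ?_) (by omega)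
  refine three_primes_step 751 757 761 (by norm_num) (by norm_num) (by norm_num) (by norm_num) (by norm_num) (fun h1 => ?_) (by omega)
  refine three_primes_step 1489 1493 1499 (by norm_num) (by norm_num) (by norm_num) (by norm_num) (by norm_num) (fun h1 => ?_) (by omega)
  refine three_primes_step 2963 2969 2971 (by norm_num) (by norm_num) (by norm_num) (by norm_num) (by norm_num) (fun h1 => ?_) (by omega)
  refine three_primes_step 5897 5903 5923 (by norm_num) (by norm_num) (by norm_num) (by norm_num) (by norm_num) (fun h1 => ?_) (by omega)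
  omega
end Cfsg.Agent.Perm
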