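import Mathlib
import Cfsg.Agent.Lib.Char.Burnside

/-! Small facts on subgroups of symmetric groups. -/

namespace Cfsg.Agent.Perm

open Equiv

/-- a nontrivial normal subgroup of the symmetric group is transitive -/
theorem normal_transitive {α : Type*} [DecidableEq α] (N : Subgroup (Perm α)) [hN : N.Normal]
    (hne : N ≠ ⊥) (x y : α) : ∃ n ∈ N, n x = y := by
  obtain ⟨n, hn, hn1⟩ := (Subgroup.bot_or_exists_ne_one N).resolve_left hne
  obtain ⟨a, ha⟩ : ∃ a, n a ≠ a := by
    by_contra h; simp only [not_exists, not_not] at h; exact hn1 (Perm.ext h)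
  by_cases hxy : x = y
  · exact ⟨1, one_mem N, hxy⟩
  set π : Perm α := swap (swap a x (n a)) y * swap a x with hπ
  have h2 : swap a x (n a) ≠ x := fun e => ha ((swap a x).injective (e.trans (swap_apply_left a x).symm))
  refine ⟨π * n * π⁻¹, hN.conj_mem n hn π, ?_⟩
  have hπa : π a = x := by
    rw [hπ, Perm.mul_apply, swap_apply_left, swap_apply_of_ne_of_ne (Ne.symm h2) hxy]
  have hπb : π (n a) = y := by rw [hπ, Perm.mul_apply, swap_apply_left]
  rw [Perm.mul_apply, Perm.mul_apply, ← hπa, show π⁻¹ (π a) = a from π.symm_apply_apply a, hπb]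

theorem card_dvd_of_transitive {α : Type*} [Finite α] [Nonempty α] (N : Subgroup (Perm α))
    (h : ∀ x y : α, ∃ n ∈ N, n x = y) : Nat.card α ∣ Nat.card N := by
  obtain ⟨a⟩ := ‹Nonempty α›
  haveI : MulAction.IsPretransitive N α := ⟨fun x y => by
    obtain ⟨n, hn, e⟩ := h x y; exact ⟨⟨n, hn⟩, e⟩⟩
  exact ⟨Nat.card (MulAction.stabilizer N a), by
    rw [← MulAction.index_stabilizer_of_transitive N a, Subgroup.index_mul_card]⟩

theorem isSolvable_perm_of_card_le_four {α : Type*} [DecidableEq α] [Fintype α]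
    (h : Fintype.card α ≤ 4) : Group.IsSolvable (Perm α) := by
  have hcard : Nat.card (Perm α) = (Fintype.card α).factorial := by
    rw [Nat.card_eq_fintype_card, Fintype.card_perm]
  refine Cfsg.Agent.Char.solvable_of_card_prime_pow_mul 2 3 Nat.prime_two Nat.prime_three _ _ rfl ?_
  rw [hcard]
  interval_cases Fintype.card α
  · exact ⟨0, 0, rfl⟩
  · exact ⟨0, 0, rfl⟩
  · exact ⟨1, 0, rfl⟩
  · exact ⟨1, 1, rfl⟩
  · exact ⟨3, 1, rfl⟩

end Cfsg.Agent.Perm
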