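import Mathlib

/-!
Eight explicit permutations of twelve points generate a sharply five-transitive group.
-/

set_option autoImplicit false
set_option maxRecDepth 100000

namespace Cfsg.Agent.TwelvePerms

/-- The transversal words. -/
def covWords : List (List (Fin 12 × List (Fin 8))) := [[(0, [6, 7]), (1, [7]), (2, []), (3, [5, 6, 7]), (4, [0, 5, 6, 7]), (5, [0, 0, 5, 6, 7]), (6, [1, 5, 6, 7]), (7, [1, 0, 5, 6, 7]), (8, [1, 0, 0, 5, 6, 7]), (9, [1, 1, 5, 6, 7]), (10, [4, 0, 5, 6, 7]), (11, [4, 1, 5, 6, 7])], [(0, []), (1, [6]), (3, [5]), (4, [0, 5]), (5, [0, 0, 5]), (6, [1, 5]), (7, [1, 0, 5]), (8, [1, 0, 0, 5]), (9, [1, 1, 5]), (10, [4, 0, 5]), (11, [4, 1, 5])], [(1, []), (3, [5, 6, 5]), (4, [0, 5, 6, 5]), (5, [0, 0, 5, 6, 5]), (6, [1, 5, 6, 5]), (7, [1, 0, 5, 6, 5]), (8, [6, 4, 1, 5, 6]), (9, [6, 1, 5, 6]), (10, [4, 0, 5, 6, 5]), (11, [4, 1, 5, 6, 5])], [(3, []), (4, [0]), (5, [0, 0]), (6, [1]), (7, [1, 0]), (8, [1, 0, 0]), (9, [1, 1]), (10, [4, 0]), (11,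 [4, 1])], [(4, []), (5, [2, 2]), (6, [2]), (7, [3]), (8, [2, 3]), (9, [3, 4]), (10, [4]), (11, [4, 2])]]

/-- The invariant six-element sets, as masks. -/
def hexMasks : List ℕ := [63, 219, 237, 246, 350, 363, 373, 413, 430, 435, 455, 504, 591, 627, 636, 670, 679, 697, 725, 746, 791, 813, 826, 857, 870, 907, 948, 972, 978, 993, 1117, 1127, 1146, 1175, 1195, 1212, 1230, 1265, 1295, 1334, 1337, 1363, 1388, 1434, 1445, 1481, 1492, 1506, 1563, 1582, 1589, 1622, 1641, 1677, 1714, 1731, 1752, 1764, 1820, 1827, 1861, 1866, 1904, 1926, 1937, 1960, 2135, 2158, 2169, 2191, 2229, 2234, 2268, 2275, 2331, 2343, 2364, 2381, 2418, 2454, 2473, 2506, 2513, 2532, 2589, 2603, 2614, 2650, 2661, 2707, 2732, 2758, 2761, 2800, 2830, 2865, 2883, 2900, 2920, 2949, 2968, 2978, 3102, 3117, 3123, 3147, 3188, 3225, 3238, 3269, 3282, 3304, 3349, 3370, 3398, 3416, 3425, 3459, 3468, 3504, 3591, 3640, 3660, 3665, 3682, 3722, 3732, 3745, 3849, 3858, 3876, 4032]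

/-- The eight permutations. -/
def gens8 : Fin 8 → Equiv.Perm (Fin 12) := ![
  Equiv.swap (3 : Fin 12) 5 * Equiv.swap (3 : Fin 12) 4 * Equiv.swap (6 : Fin 12) 8 * Equiv.swap (6 : Fin 12) 7 * Equiv.swap (9 : Fin 12) 11 * Equiv.swap (9 : Fin 12) 10,
  Equiv.swap (3 : Fin 12) 9 * Equiv.swap (3 : Fin 12) 6 * Equiv.swap (4 : Fin 12) 10 * Equiv.swap (4 : Fin 12) 7 * Equiv.swap (5 : Fin 12) 11 * Equiv.swap (5 : Fin 12) 8,
  Equiv.swap (4 : Fin 12) 9 * Equiv.swap (4 : Fin 12) 5 * Equiv.swap (4 : Fin 12) 6 * Equiv.swap (7 : Fin 12) 10 * Equiv.swap (7 : Fin 12) 11 * Equiv.swap (7 : Fin 12) 8,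
  Equiv.swap (4 : Fin 12) 11 * Equiv.swap (4 : Fin 12) 5 * Equiv.swap (4 : Fin 12) 7 * Equiv.swap (6 : Fin 12) 8 * Equiv.swap (6 : Fin 12) 9 * Equiv.swap (6 : Fin 12) 10,
  Equiv.swap (4 : Fin 12) 8 * Equiv.swap (4 : Fin 12) 5 * Equiv.swap (4 : Fin 12) 10 * Equiv.swap (6 : Fin 12) 7 * Equiv.swap (6 : Fin 12) 9 * Equiv.swap (6 : Fin 12) 11,
  Equiv.swap (0 : Fin 12) 3 * Equiv.swap (6 : Fin 12) 7 * Equiv.swap (8 : Fin 12) 10 * Equiv.swap (9 : Fin 12) 11,
  Equiv.swap (0 : Fin 12) 1 * Equiv.swap (6 : Fin 12) 9 * Equiv.swap (7 : Fin 12) 10 * Equiv.swap (8 : Fin 12) 11,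
  Equiv.swap (1 : Fin 12) 2 * Equiv.swap (6 : Fin 12) 11 * Equiv.swap (7 : Fin 12) 9 * Equiv.swap (8 : Fin 12) 10]

/-- The base. -/
def base5 : Fin 5 → Fin 12 := ![2, 0, 1, 3, 4]

/-- The product of a word. -/
def wordProd : List (Fin 8) → Equiv.Perm (Fin 12)
  | [] => 1
  | k :: w => gens8 k * wordProd w

/-- The value of a word at a point. -/
def wordVal : List (Fin 8) → Fin 12 → Fin 12
  | [], i => i
  | k :: w, i => gens8 k (wordVal w i)

theorem wordProd_apply (w : List (Fin 8)) (i : Fin 12) : wordProd w i = wordVal w i := by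
  induction w with
  | nil => rfl
  | cons k w ih => rw [wordProd, wordVal, Equiv.Perm.mul_apply, ih]

theorem cover_ok : ∀ k : Fin 5, (∀ e ∈ covWords.getD k.val [], wordVal e.2 (base5 k) = e.1 ∧
      (∀ j : Fin 5, j < k → wordVal e.2 (base5 j) = base5 j) ∧ (0 < k.val → (7 : Fin 8) ∉ e.2)) ∧
    ∀ t : Fin 12, (∀ j : Fin 5, j < k → t ≠ base5 j) → ∃ e ∈ covWords.getD k.val [], e.1 = t := by
  decide +kernel

theorem fix_two : ∀ i : Fin 8, i ≠ 7 → gens8 i 2 = 2 := by decide +kernel

theorem base5_facts : Function.Injective base5 ∧ base5 0 = 2 := by decide +kernel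

/-- The invariant system is preserved. -/
def Pres (σ : Equiv.Perm (Fin 12)) : Prop :=
  ∀ m ∈ hexMasks, ∃ n ∈ hexMasks, ∀ x : Fin 12, m.testBit x.val = n.testBit (σ x).val

theorem gens_pres' : ((List.finRange 8).all fun i => hexMasks.all fun m => hexMasks.any fun n =>
    (List.finRange 12).all fun x => m.testBit x.val == n.testBit (gens8 i x).val) = true := by
  decide +kernel

theorem gens_pres (i : Fin 8) : Pres (gens8 i) := fun m hm => by
  have h := List.all_eq_true.1 (List.all_eq_true.1 gens_pres' i (List.mem_finRange i)) m hm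
  obtain ⟨n, hn, h'⟩ := List.any_eq_true.1 h
  exact ⟨n, hn, fun x => beq_iff_eq.1 (List.all_eq_true.1 h' x (List.mem_finRange x))⟩

/-- The group of all eight. -/
def group12 : Subgroup (Equiv.Perm (Fin 12)) := Subgroup.closure (Set.range gens8)

/-- The group of the first seven. -/
def group11 : Subgroup (Equiv.Perm (Fin 12)) := Subgroup.closure (gens8 '' {i | i ≠ 7})

theorem word_mem {S : Subgroup (Equiv.Perm (Fin 12))} : ∀ {w : List (Fin 8)}, (∀ k ∈ w, gens8 k ∈ S) →
    wordProd w ∈ S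
  | [], _ => one_mem S
  | k :: w, h => mul_mem (h k List.mem_cons_self) (word_mem fun j hj => h j (List.mem_cons_of_mem _ hj))

theorem group11_le : group11 ≤ group12 := Subgroup.closure_mono (Set.image_subset_range _ _)

theorem group11_fix {g : Equiv.Perm (Fin 12)} (hg : g ∈ group11) : g 2 = 2 := by
  have h : group11 ≤ MulAction.stabilizer (Equiv.Perm (Fin 12)) (2 : Fin 12) := by
    rw [group11, Subgroup.closure_le]
    rintro _ ⟨i, hi, rfl⟩
    exact fix_two i hi
  exact h hg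

theorem group12_pres {g : Equiv.Perm (Fin 12)} (hg : g ∈ group12) : Pres g := by
  rw [group12, ← Subgroup.mem_toSubmonoid, Subgroup.closure_toSubmonoid_of_finite] at hg
  induction hg using Submonoid.closure_induction_left with
  | one => exact fun m hm => ⟨m, hm, fun x => rfl⟩
  | mul_left a ha b _ ih =>
    obtain ⟨i, rfl⟩ := ha
    intro m hm
    obtain ⟨n, hn, h⟩ := ih m hm
    obtain ⟨p, hp, h'⟩ := gens_pres i n hn
    exact ⟨p, hp, fun x => (h x).trans (h' (b x))⟩

theorem base_block : (63 ∈ hexMasks) ∧ ∀ n ∈ hexMasks, (∀ j, n.testBit (base5 j).val = true) → n = 63 := by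
  decide +kernel

/-- The extension of a list of images of the last six points. -/
def extFn (l : List (Fin 12)) (x : Fin 12) : Fin 12 := if x.val < 6 then x else l.getD (x.val - 6) 0

theorem rigid_check : ((([6, 7, 8, 9, 10, 11] : List (Fin 12)).permutations').all fun l =>
    l == [6, 7, 8, 9, 10, 11] || !(hexMasks.all fun m => hexMasks.any fun n =>
      (List.finRange 12).all fun x => m.testBit x.val == n.testBit (extFn l x).val)) = true := by
  decide +kernel

theorem rigid {g : Equiv.Perm (Fin 12)} (hg : Pres g) (hfix : ∀ j, g (base5 j) = base5 j) : g = 1 := by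
  obtain ⟨n, hn, h⟩ := hg 63 base_block.1
  have hn63 : n = 63 := base_block.2 n hn fun j => by
    have hj : ∀ j : Fin 5, (63 : ℕ).testBit (base5 j).val = true := by decide +kernel
    have := h (base5 j)
    rw [hfix, hj] at this
    exact this.symm
  subst hn63
  have hlow : ∀ x : Fin 12, x.val < 6 ↔ (g x).val < 6 := fun x => by
    have key : ∀ y : Fin 12, (63 : ℕ).testBit y.val = true ↔ y.val < 6 := by decide +kernel
    rw [← key, ← key, h x]
  have hlow' : ∀ x : Fin 12, x.val < 6 → g x = x := by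
    intro x hx
    have hb : ∀ y : Fin 12, y.val < 6 → (∃ j, base5 j = y) ∨ y = 5 := by decide +kernel
    rcases hb x hx with ⟨j, rfl⟩ | rfl
    · exact hfix j
    · rcases hb _ ((hlow 5).1 (by decide)) with ⟨j, hj⟩ | hj
      · rw [← hfix j] at hj
        exact absurd (g.injective hj) ((show ∀ j, base5 j ≠ 5 by decide +kernel) j)
      · exact hj
  set l : List (Fin 12) := ([6, 7, 8, 9, 10, 11] : List (Fin 12)).map g with hl
  have hperm : l.Perm ([6, 7, 8, 9, 10, 11] : List (Fin 12)) := by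
    refine (List.perm_ext_iff_of_nodup (List.Nodup.map g.injective (by decide)) (by decide)).2 fun y => ?_
    have key : ∀ z : Fin 12, z ∈ ([6, 7, 8, 9, 10, 11] : List (Fin 12)) ↔ ¬ z.val < 6 := by decide +kernel
    rw [List.mem_map, key]
    constructor
    · rintro ⟨x, hx, rfl⟩
      rw [← hlow]; exact (key x).1 hx
    · intro hy
      exact ⟨g.symm y, (key _).2 (by rw [hlow, Equiv.apply_symm_apply]; exact hy), g.apply_symm_apply y⟩
  have hc := List.all_eq_true.1 rigid_check l (List.mem_permutations'.2 hperm)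
  have hext : ∀ x, extFn l x = g x := by
    intro x
    by_cases hx : x.val < 6
    · rw [extFn, if_pos hx, hlow' x hx]
    · rw [extFn, if_neg hx, hl]
      fin_cases x <;> first | (exact absurd (by decide) hx) | rfl
  have hall : (hexMasks.all fun m => hexMasks.any fun n =>
      (List.finRange 12).all fun x => m.testBit x.val == n.testBit (extFn l x).val) = true := by
    simp only [List.all_eq_true, List.any_eq_true, beq_iff_eq]
    intro m hm
    obtain ⟨n, hn, h⟩ := hg m hm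
    exact ⟨n, hn, fun x _ => by rw [hext]; exact h x⟩
  rw [hall, Bool.not_true, Bool.or_false, beq_iff_eq] at hc
  refine Equiv.ext fun x => ?_
  rw [Equiv.Perm.one_apply, ← hext, hc]
  revert x; decide +kernel

theorem exists_move (k : Fin 5) (t : Fin 12) (ht : ∀ j : Fin 5, j < k → t ≠ base5 j) :
    ∃ g ∈ group12, g (base5 k) = t ∧ (∀ j : Fin 5, j < k → g (base5 j) = base5 j) ∧ (0 < k.val → g ∈ group11) := by
  obtain ⟨e, he, rfl⟩ := (cover_ok k).2 t ht
  obtain ⟨h1, h2, h3⟩ := (cover_ok k).1 e he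
  exact ⟨wordProd e.2, word_mem fun i _ => Subgroup.subset_closure ⟨i, rfl⟩, (wordProd_apply _ _).trans h1,
    fun j hj => (wordProd_apply _ _).trans (h2 j hj),
    fun h0 => word_mem fun i hi => Subgroup.subset_closure ⟨i, fun e7 => h3 h0 (e7 ▸ hi), rfl⟩⟩

theorem exists_tuple (x : Fin 5 → Fin 12) (hx : Function.Injective x) :
    ∀ n, n ≤ 5 → ∃ g ∈ group12, (∀ i : Fin 5, i.val < n → g (base5 i) = x i) ∧
      ((x 0 = 2) → g ∈ group11) := by
  intro n
  induction n with
  | zero => exact fun _ => ⟨1, one_mem _, fun i hi => absurd hi (Nat.not_lt_zero _), fun _ => one_mem _⟩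
  | succ n ih =>
    intro hn
    obtain ⟨g, hg, hgx, hg11⟩ := ih (by omega)
    set k : Fin 5 := ⟨n, by omega⟩ with hk
    obtain ⟨t, ht, htk, htf, ht11⟩ := exists_move k (g.symm (x k)) fun j hj e => by
      have h1 := hgx j hj
      rw [← e, Equiv.apply_symm_apply] at h1
      exact absurd (hx h1) (ne_of_gt hj)
    by_cases hskip : n = 0 ∧ x 0 = 2
    · obtain ⟨rfl, h2⟩ := hskip
      refine ⟨1, one_mem _, fun i hi => ?_, fun _ => one_mem _⟩
      obtain rfl : i = 0 := Fin.ext (by simp only [Fin.val_zero]; omega)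
      rw [Equiv.Perm.one_apply, base5_facts.2, h2]
    refine ⟨g * t, mul_mem hg ht, fun i hi => ?_, fun h2 => mul_mem (hg11 h2) (ht11 ?_)⟩
    · rw [Equiv.Perm.mul_apply]
      rcases Nat.lt_succ_iff_lt_or_eq.1 hi with hi | hi
      · rw [htf i hi, hgx i hi]
      · obtain rfl : i = k := Fin.ext hi
        rw [htk, Equiv.apply_symm_apply]
    · show 0 < n
      exact Nat.pos_of_ne_zero fun h => hskip ⟨h, h2⟩

theorem exists_of_tuple (x : Fin 5 ↪ Fin 12) : ∃ g ∈ group12, (∀ i, g (base5 i) = x i) ∧ (x 0 = 2 → g ∈ group11) := by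
  obtain ⟨g, hg, h, h'⟩ := exists_tuple x x.injective 5 le_rfl
  exact ⟨g, hg, fun i => h i i.isLt, h'⟩

/-- The base as an embedding. -/
def baseEmb : Fin 5 ↪ Fin 12 := ⟨base5, base5_facts.1⟩

theorem eq_one_of_fix {g : Equiv.Perm (Fin 12)} (hg : g ∈ group12) (y : Fin 5 ↪ Fin 12)
    (hy : ∀ i, g (y i) = y i) : g = 1 := by
  obtain ⟨s, hs, hs', -⟩ := exists_of_tuple y
  have h := rigid (group12_pres (mul_mem (mul_mem (inv_mem hs) hg) hs)) fun j => by
    rw [Equiv.Perm.mul_apply, Equiv.Perm.mul_apply, hs', hy, Equiv.Perm.coe_inv, Equiv.symm_apply_eq, hs']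
  have := congrArg (fun q => s * q * s⁻¹) h
  simpa [mul_assoc] using this

theorem equiv_tuples : Nat.card group12 = 95040 := by
  let f : group12 → (Fin 5 ↪ Fin 12) := fun g => baseEmb.trans (g : Equiv.Perm (Fin 12)).toEmbedding
  have hb : Function.Bijective f := by
    refine ⟨fun a b e => ?_, fun x => ?_⟩
    · have h : (a : Equiv.Perm (Fin 12))⁻¹ * b = 1 := eq_one_of_fix (mul_mem (inv_mem a.2) b.2) baseEmb fun i => by
        have := congrArg (fun q : Fin 5 ↪ Fin 12 => q i) e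
        simp only [f, Function.Embedding.trans_apply, Equiv.coe_toEmbedding] at this
        rw [Equiv.Perm.mul_apply, ← this, Equiv.Perm.coe_inv, Equiv.symm_apply_apply]
      exact Subtype.ext (inv_mul_eq_one.1 h)
    · obtain ⟨g, hg, h, -⟩ := exists_of_tuple x
      exact ⟨⟨g, hg⟩, Function.Embedding.ext h⟩
  rw [Nat.card_congr (Equiv.ofBijective f hb), Nat.card_eq_fintype_card, Fintype.card_embedding_eq]
  simp [Nat.descFactorial]

theorem group11_eq : group11 = group12 ⊓ MulAction.stabilizer (Equiv.Perm (Fin 12)) (2 : Fin 12) := by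
  refine le_antisymm (fun g hg => ⟨group11_le hg, group11_fix hg⟩) fun g hg => ?_
  obtain ⟨g', hg', h, h11⟩ := exists_of_tuple (baseEmb.trans g.toEmbedding)
  have h2 : (baseEmb.trans g.toEmbedding) 0 = 2 := by
    show g (base5 0) = 2
    rw [base5_facts.2]; exact hg.2
  have e : g'⁻¹ * g = 1 := eq_one_of_fix (mul_mem (inv_mem hg') hg.1) baseEmb fun i => by
    rw [Equiv.Perm.mul_apply, Equiv.Perm.coe_inv, Equiv.symm_apply_eq]
    exact (h i).symm
  rw [← inv_mul_eq_one.1 e]
  exact h11 h2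

theorem card_group11 : Nat.card group11 = 7920 := by
  have horb : MulAction.orbit group12 (2 : Fin 12) = Set.univ := by
    refine Set.eq_univ_of_forall fun t => ?_
    obtain ⟨g, hg, hgt, -, -⟩ := exists_move 0 t fun j hj => absurd hj (Fin.not_lt_zero j)
    exact ⟨⟨g, hg⟩, by rw [base5_facts.2] at hgt; exact hgt⟩
  have hst : group11.subgroupOf group12 = MulAction.stabilizer group12 (2 : Fin 12) := by
    ext a
    rw [Subgroup.mem_subgroupOf, group11_eq]
    exact ⟨fun h => h.2, fun h => ⟨a.2, h⟩⟩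
  have h := (MulAction.stabilizer group12 (2 : Fin 12)).card_mul_index
  rw [MulAction.index_stabilizer, horb, Set.ncard_univ, Nat.card_eq_fintype_card (α := Fin 12), Fintype.card_fin,
    equiv_tuples, ← hst, Nat.card_congr (Subgroup.subgroupOfEquivOfLe group11_le).toEquiv] at h
  omega

theorem multiply_transitive : MulAction.IsMultiplyPretransitive group12 (Fin 12) 5 := by
  refine ⟨fun x y => ?_⟩
  obtain ⟨a, ha, hax, -⟩ := exists_of_tuple x
  obtain ⟨b, hb, hby, -⟩ := exists_of_tuple y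
  refine ⟨⟨b * a⁻¹, mul_mem hb (inv_mem ha)⟩, Function.Embedding.ext fun i => ?_⟩
  show (b * a⁻¹) (x i) = y i
  rw [← hax, Equiv.Perm.mul_apply, Equiv.Perm.coe_inv, Equiv.symm_apply_apply, hby]

theorem stabilizer_bot (y : Fin 5 ↪ Fin 12) : MulAction.stabilizer group12 y = ⊥ := by
  refine (Subgroup.eq_bot_iff_forall _).2 fun g hg => Subtype.ext (eq_one_of_fix g.2 y fun i => ?_)
  exact congrArg (fun q : Fin 5 ↪ Fin 12 => q i) hg

theorem sets_eq {s t u v w a b c : Equiv.Perm (Fin 12)} (hs : s = gens8 0) (ht : t = gens8 1) (hu : u = gens8 2)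
    (hv : v = gens8 3) (hw : w = gens8 4) (ha : a = gens8 5) (hb : b = gens8 6) (hc : c = gens8 7) :
    Subgroup.closure {s, t, u, v, w, a, b, c} = group12 ∧ Subgroup.closure {s, t, u, v, w, a, b} = group11 := by
  subst hs ht hu hv hw ha hb hc
  constructor
  · rw [group12]; congr 1
    ext g
    simp only [Set.mem_insert_iff, Set.mem_singleton_iff, Set.mem_range]
    constructor
    · rintro (rfl | rfl | rfl | rfl | rfl | rfl | rfl | rfl) <;> exact ⟨_, rfl⟩
    · rintro ⟨i, rfl⟩; fin_cases i <;> simp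
  · rw [group11]; congr 1
    ext g
    simp only [Set.mem_insert_iff, Set.mem_singleton_iff, Set.mem_image, Set.mem_ofPred_eq]
    constructor
    · rintro (rfl | rfl | rfl | rfl | rfl | rfl | rfl) <;> exact ⟨_, by decide, rfl⟩
    · rintro ⟨i, hi, rfl⟩; fin_cases i <;> simp at hi ⊢

end Cfsg.Agent.TwelvePerms
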