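import Mathlib
import Cfsg.Agent.S0713
import Cfsg.Agent.Lib.Classical.SmallAlt

/-!
Primitive even groups of degree `p + 2` containing a `p`-cycle (for `p = 5, 11`), and small
even groups of degree six.
-/

set_option autoImplicit false
set_option linter.style.haveILetI false

namespace Cfsg.Agent.Perm

open Equiv Equiv.Perm MulAction Subgroup
open scoped Pointwise

variable {α : Type*} [Fintype α] [DecidableEq α]

theorem not_isSwap_of_even {G : Subgroup (Perm α)} (hG : G ≤ alternatingGroup α) {r : Perm α}
    (hr : r ∈ G) {k : ℕ} (hk : Odd k) : r.cycleType ≠ Multiset.replicate k 2 := by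
  intro h
  have h1 : sign r = 1 := mem_alternatingGroup.mp (hG hr)
  rw [sign_of_cycleType, h, Multiset.sum_replicate, Multiset.card_replicate] at h1
  have h2 : Odd (k • 2 + k) := by
    obtain ⟨j, rfl⟩ := hk
    exact ⟨3 * j + 1, by simp [smul_eq_mul]; ring⟩
  rw [h2.neg_one_pow] at h1
  exact absurd h1 (by decide)

theorem index_le_one_of_simple {X : Type*} [Group X] [Finite X] [IsSimpleGroup X] (H : Subgroup X)
    (h : ¬ Nat.card X ∣ H.index.factorial) : H = ⊤ := by
  by_contra hne
  exact h (Classical.SmallAlt.dvd_factorial_index H hne)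

/-- the point stabiliser of order `p (p + 1)` is impossible -/
theorem no_sharp {p : ℕ} (hp : p = 5 ∨ p = 11) {X : Type*} [Group X] [Finite X]
    (hc : Nat.card X = p * (p + 1)) (P : Subgroup X) (hP : Nat.card P = p)
    (hN : normalizer (P : Set X) = P) : False := by
  haveI : Fact p.Prime := ⟨by rcases hp with rfl | rfl <;> norm_num⟩
  have hfac : (Nat.card X).factorization p = 1 := by
    rw [hc, Nat.factorization_mul (Fact.out (p := p.Prime)).ne_zero (by omega), Finsupp.add_apply,
      (Fact.out (p := p.Prime)).factorization_self, Nat.factorization_eq_zero_of_not_dvd]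
    rcases hp with rfl | rfl <;> norm_num
  let S : Sylow p X := Sylow.ofCard P (by rw [hfac, pow_one, hP])
  have hS : (S : Subgroup X) = P := rfl
  haveI : IsCyclic P := isCyclic_of_prime_card hP
  have hburn : normalizer ((S : Subgroup X) : Set X) ≤ centralizer ((S : Subgroup X) : Set X) := by
    rw [hS, hN]
    intro a ha
    refine mem_centralizer_iff.mpr fun b hb => ?_
    exact congrArg Subtype.val ((IsCyclic.commGroup (α := P)).mul_comm ⟨b, hb⟩ ⟨a, ha⟩)
  set K := (MonoidHom.transferSylow S hburn).ker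
  have hcompl := MonoidHom.ker_transferSylow_isComplement' S hburn
  have hK : Nat.card K = p + 1 := by
    have h1 := hcompl.card_mul
    have h2 : Nat.card (S : Subgroup X) = p := hP
    rw [h2, hc, mul_comm p] at h1
    exact Nat.eq_of_mul_eq_mul_right (Fact.out (p := p.Prime)).pos h1
  obtain ⟨x, hx1, hx2⟩ : ∃ x ∈ P, x ≠ 1 := by
    refine (P.bot_or_exists_ne_one).resolve_left fun h => ?_
    rw [h, card_bot] at hP; exact (Fact.out (p := p.Prime)).one_lt.ne hP
  have hxo : orderOf x = p := by
    rw [← Subgroup.orderOf_mk (H := P) x hx1]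
    exact ((Nat.dvd_prime Fact.out).mp (hP ▸ orderOf_dvd_natCard _)).resolve_left (by simpa using hx2)
  haveI : K.Normal := MonoidHom.normal_ker _
  let φ : MulAut K := MulAut.conjNormal x
  -- `x` has no nontrivial fixed point on `K`
  have hfix : ∀ k : K, φ k = k → k = 1 := by
    intro k hk
    have e : x * (k : X) * x⁻¹ = k := congrArg Subtype.val hk
    have hc' : Commute x (k : X) := mul_inv_eq_iff_eq_mul.mp e
    have hgen : P = zpowers x := (eq_of_le_of_card_ge (zpowers_le.mpr hx1) (by rw [hP, Nat.card_zpowers, hxo])).symm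
    have hkN : (k : X) ∈ normalizer (P : Set X) := by
      refine centralizer_le_normalizer _ (mem_centralizer_iff.mpr fun b hb => ?_)
      rw [hgen] at hb
      obtain ⟨i, rfl⟩ := hb
      exact (hc'.zpow_left i).eq
    rw [hN] at hkN
    exact Subtype.ext (disjoint_def.mp hcompl.disjoint k.2 hkN)
  -- one orbit on `K \ 1`
  haveI : Fintype K := Fintype.ofFinite K
  have hord : ∀ a b : K, a ≠ 1 → b ≠ 1 → orderOf a = orderOf b := by
    classical
    intro a b ha hb
    have hiter : ∀ (i : ℕ), ((φ ^ i) a : X) = x ^ i * a * (x ^ i)⁻¹ := fun i => by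
      rw [← map_pow]; rfl
    let O : Fin p → K := fun i => (φ ^ (i : ℕ)) a
    have hOinj : Function.Injective O := by
      intro i j e
      by_contra hne
      wlog hlt : (i : ℕ) < j generalizing i j
      · exact this e.symm (Ne.symm hne) (lt_of_le_of_ne (not_lt.mp hlt) fun h => hne (Fin.ext h.symm))
      have e1 : (φ ^ ((j : ℕ) - i)) a = a := by
        apply (φ ^ (i : ℕ)).injective
        rw [← MulAut.mul_apply, ← pow_add, Nat.add_sub_cancel' hlt.le]
        exact e.symm
      have hco : ((j : ℕ) - i).Coprime p := (((Fact.out (p := p.Prime)).coprime_iff_not_dvd).mpr fun hd => by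
        have := Nat.le_of_dvd (by omega) hd; omega).symm
      have hxp : φ ^ p = 1 := by
        show (MulAut.conjNormal x : MulAut K) ^ p = 1
        rw [← map_pow, ← hxo, pow_orderOf_eq_one, map_one]
      obtain ⟨m, hm⟩ := exists_pow_eq_self_of_coprime (x := φ)
        (hco.coprime_dvd_right (orderOf_dvd_of_pow_eq_one hxp))
      have e2 : ∀ t : ℕ, ((φ ^ ((j : ℕ) - i)) ^ t) a = a := fun t => by
        induction t with
        | zero => rfl
        | succ t ih => rw [pow_succ, MulAut.mul_apply, e1, ih]
      have e3 := e2 m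
      rw [hm] at e3
      exact ha (hfix a e3)
    have hne : ∀ i, O i ≠ 1 := fun i h => ha ((φ ^ (i : ℕ)).injective (h.trans (map_one _).symm))
    have hb' : b ∈ Finset.univ.image O := by
      by_contra hnot
      have : (insert (1 : K) (insert b (Finset.univ.image O))).card ≤ Fintype.card K := Finset.card_le_univ _
      rw [Finset.card_insert_of_notMem (by simp [Ne.symm hb, fun i => (hne i)]),
        Finset.card_insert_of_notMem hnot, Finset.card_image_of_injective _ hOinj, Finset.card_univ,
        Fintype.card_fin, ← Nat.card_eq_fintype_card, hK] at this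
      omega
    obtain ⟨i, -, rfl⟩ := Finset.mem_image.mp hb'
    exact ((φ ^ (i : ℕ)).orderOf_eq a).symm
  have h2 : 2 ∣ Nat.card K := by rw [hK]; rcases hp with rfl | rfl <;> norm_num
  have h3 : 3 ∣ Nat.card K := by rw [hK]; rcases hp with rfl | rfl <;> norm_num
  haveI : Fact (Nat.Prime 2) := ⟨Nat.prime_two⟩
  haveI : Fact (Nat.Prime 3) := ⟨Nat.prime_three⟩
  obtain ⟨a, ha⟩ := exists_prime_orderOf_dvd_card' 2 h2
  obtain ⟨b, hb⟩ := exists_prime_orderOf_dvd_card' 3 h3
  have := hord a b (fun h => by simp [h] at ha) (fun h => by simp [h] at hb)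
  omega

/-- an element of order three centralising a fixed-point-small permutation is a three-cycle -/
theorem isThreeCycle_of_centralizes {r v c : Perm α} {s : ℕ} (hs : s = 2 ∨ s = 5)
    (hr : r.cycleType = Multiset.replicate 2 s) (hn : Fintype.card α = 2 * s + 3)
    (hv : orderOf v = 3) (hvr : Commute v r) (hc : c.IsThreeCycle) (hcr : Commute c r) :
    v.IsThreeCycle := by
  haveI : Fact (Nat.Prime 3) := ⟨Nat.prime_three⟩
  set C := centralizer ({r} : Set (Perm α))
  have hcard : Nat.card C = 6 * (s * s) * 2 := by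
    rw [Equiv.Perm.nat_card_centralizer, hr, Multiset.sum_replicate, Multiset.prod_replicate, hn,
      Multiset.toFinset_replicate]
    simp [Multiset.count_replicate_self, Nat.factorial, pow_two]
  have hfac : (Nat.card C).factorization 3 = 1 := by
    have h1 : 3 ∣ Nat.card C := ⟨2 * (s * s) * 2, by rw [hcard]; ring⟩
    have h2 : ¬ 9 ∣ Nat.card C := by rw [hcard]; rcases hs with rfl | rfl <;> norm_num
    refine le_antisymm ?_ (Nat.prime_three.factorization_pos_of_dvd Nat.card_pos.ne' h1)
    by_contra h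
    exact h2 ((pow_dvd_pow 3 (show 2 ≤ (Nat.card C).factorization 3 by omega)).trans (Nat.ordProj_dvd _ _))
  have mk : ∀ w : Perm α, orderOf w = 3 → Commute w r →
      ∃ (w' : C) (S : Sylow 3 C), (w' : Perm α) = w ∧ (S : Subgroup C) = zpowers w' := by
    intro w hw hwr
    have hwC : w ∈ C := mem_centralizer_singleton_iff.mpr hwr.eq
    exact ⟨⟨w, hwC⟩, Sylow.ofCard (zpowers ⟨w, hwC⟩) (by
      rw [Nat.card_zpowers, Subgroup.orderOf_mk, hw, hfac, pow_one]), rfl, rfl⟩
  obtain ⟨v', S, rfl, hS⟩ := mk v hv hvr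
  obtain ⟨c', T, rfl, hT⟩ := mk c hc.orderOf hcr
  obtain ⟨g, hg⟩ := MulAction.exists_smul_eq C T S
  have h1 : (g * c' * g⁻¹ : C) ∈ (S : Subgroup C) := by
    rw [← hg]; exact ⟨c', hT ▸ mem_zpowers c', rfl⟩
  rw [hS] at h1
  have hsub : zpowers (g * c' * g⁻¹) = zpowers v' := by
    refine eq_of_le_of_card_ge (zpowers_le.mpr h1) ?_
    rw [Nat.card_zpowers, Nat.card_zpowers, ← MulAut.conj_apply, MulEquiv.orderOf_eq,
      ← Subgroup.orderOf_coe, ← Subgroup.orderOf_coe, hc.orderOf, hv]
  obtain ⟨i, hi⟩ : v' ∈ zpowers (g * c' * g⁻¹) := hsub ▸ mem_zpowers v'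
  have hsupp : (v' : Perm α).support ⊆ ((g : Perm α) * (c' : Perm α) * (g : Perm α)⁻¹).support := by
    have e := congrArg (fun y : C => (y : Perm α)) hi
    simp only [SubgroupClass.coe_zpow, Subgroup.coe_mul, Subgroup.coe_inv] at e
    rw [← e]
    exact support_zpow_le _ _
  have h3 : ((g : Perm α) * (c' : Perm α) * (g : Perm α)⁻¹).support.card = 3 := by
    rw [card_support_conj, hc.card_support]
  obtain ⟨n, hn'⟩ := cycleType_prime_order (hv ▸ Nat.prime_three : (orderOf (v' : Perm α)).Prime)
  have h4 := Finset.card_le_card hsupp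
  rw [h3, ← sum_cycleType, hn', Multiset.sum_replicate, hv, smul_eq_mul] at h4
  have : n = 0 := by omega
  subst this
  rw [hv] at hn'
  exact hn'

/-- even primitive groups of degree `p + 2` with a `p`-cycle, `p = 5, 11` -/
theorem alternating_le_of_twin {p : ℕ} (hp : p = 5 ∨ p = 11) (G : Subgroup (Perm α))
    (hG : IsPreprimitive G α) (hev : G ≤ alternatingGroup α) (hn : Fintype.card α = p + 2)
    {g : Perm α} (hgc : g.IsCycle) (hgp : g.support.card = p) (hg : g ∈ G) :
    alternatingGroup α ≤ G := by
  have hpp : p.Prime := by rcases hp with rfl | rfl <;> norm_num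
  haveI : Fact p.Prime := ⟨hpp⟩
  have hp5 : 5 ≤ p := by omega
  let Γ : Set α := ((g.support : Set α))ᶜ
  have memΓ : ∀ x, x ∈ Γ ↔ g x = x := fun x => by simp [Γ]
  have hncard : Γ.ncard = 1 + 1 := by
    apply Nat.add_left_cancel (n := p)
    have := Set.ncard_add_ncard_compl (g.support : Set α)
    rw [Set.ncard_coe_finset, Nat.card_eq_fintype_card, hgp, hn] at this
    omega
  have htr := isPretransitive_of_isCycle_mem hgc hg
  have hprim : IsPreprimitive (fixingSubgroup G Γ) (SubMulAction.ofFixingSubgroup G Γ) := by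
    apply IsPreprimitive.of_prime_card
    classical
    convert! hpp
    rw [Nat.card_eq_fintype_card, Fintype.card_subtype, ← hgp]
    congr 1
    ext x
    simp [SubMulAction.mem_ofFixingSubgroup_iff, Γ]
  have hmul := hG.isMultiplyPreprimitive (n := 1) hncard (by rw [Nat.card_eq_fintype_card, hn]; omega) hprim
  have htrans : IsMultiplyPretransitive G α 3 := IsMultiplyPreprimitive.isMultiplyPretransitive ..
  rw [isMultiplyPretransitive_iff] at htrans
  have hmove : ∀ {k : ℕ} (e e' : Fin 3 ↪ α), k = 3 → ∃ f ∈ G, ∀ i, f (e i) = e' i := fun e e' _ => by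
    obtain ⟨⟨f, hf⟩, hfe⟩ := htrans e e'
    exact ⟨f, hf, fun i => DFunLike.congr_fun hfe i⟩
  obtain ⟨a, b, hab, hΓ⟩ := Set.ncard_eq_two.mp hncard
  obtain ⟨d0, hd0, hd⟩ := id hgc
  have hfixed : ∀ w, g w = w → w = a ∨ w = b := fun w hw => by
    have := (memΓ w).2 hw
    rwa [hΓ, Set.mem_insert_iff, Set.mem_singleton_iff] at this
  have hga : g a = a := (memΓ a).1 (by rw [hΓ]; simp)
  have hgb : g b = b := (memΓ b).1 (by rw [hΓ]; simp)
  have hord : orderOf g = p := by rw [hgc.orderOf, hgp]
  let H : Subgroup (Perm α) := G ⊓ fixingSubgroup (Perm α) Γ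
  have memH : ∀ w, w ∈ H ↔ w ∈ G ∧ w a = a ∧ w b = b := fun w => by
    simp only [H, Subgroup.mem_inf, mem_fixingSubgroup_iff, hΓ, Set.mem_insert_iff, Set.mem_singleton_iff,
      forall_eq_or_imp, forall_eq, Perm.smul_def]
  have hgH : g ∈ H := (memH g).2 ⟨hg, hga, hgb⟩
  -- `⟨g⟩` is its own centraliser in `H`
  have hcent : ∀ w ∈ H, Commute w g → w ∈ zpowers g := by
    intro w hw hc
    obtain ⟨-, hwa, hwb⟩ := (memH w).1 hw
    have hgu : ∀ (k : ℤ) (v : α), w ((g ^ k) v) = (g ^ k) (w v) := fun k v =>
      DFunLike.congr_fun (hc.zpow_right k) v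
    have hwd : g (w d0) ≠ w d0 := fun e => by
      apply hd0
      have := hgu 1 d0
      rw [zpow_one, e] at this
      exact w.injective this
    obtain ⟨k, hk⟩ := hd hwd
    refine ⟨k, Equiv.ext fun v => ?_⟩
    by_cases hv : g v = v
    · rw [Equiv.Perm.zpow_apply_eq_self_of_apply_eq_self hv]
      rcases hfixed v hv with rfl | rfl
      · exact hwa.symm
      · exact hwb.symm
    · obtain ⟨l, rfl⟩ := hd hv
      rw [hgu, ← hk, ← Equiv.Perm.mul_apply, ← Equiv.Perm.mul_apply, ← zpow_add, ← zpow_add, add_comm]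
  set P := (zpowers g).subgroupOf H with hPdef
  have hPle : zpowers g ≤ H := zpowers_le.mpr hgH
  have hPcard : Nat.card P = p := by
    rw [Nat.card_congr (subgroupOfEquivOfLe hPle).toEquiv, Nat.card_zpowers, hord]
  have hfact : ¬ p ^ 2 ∣ Nat.card H := by
    intro hdv
    have h1 : Nat.card H ∣ (p + 2).factorial := by
      rw [← hn, ← Fintype.card_perm, ← Nat.card_eq_fintype_card]
      exact H.card_subgroup_dvd_card
    have h2 := hdv.trans h1
    rcases hp with rfl | rfl <;> norm_num [Nat.factorial] at h2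
  by_cases hr : ∃ w ∈ H, w ∉ zpowers g ∧ w ∈ normalizer ((zpowers g : Subgroup (Perm α)) : Set (Perm α))
  swap
  · -- the self-normalising case
    exfalso
    push Not at hr
    have hNH : normalizer (P : Set H) = P := by
      refine le_antisymm (fun w hw => ?_) le_normalizer
      show (w : Perm α) ∈ zpowers g
      by_contra hwn
      refine hr w w.2 hwn ?_
      rw [Subgroup.mem_normalizer_iff]
      intro v
      constructor
      · intro hv
        exact (Subgroup.mem_normalizer_iff.mp hw ⟨v, hPle hv⟩).mp hv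
      · intro hv
        have h3 := (Subgroup.mem_normalizer_iff.mp (inv_mem hw) ⟨_, hPle hv⟩).mp hv
        have h4 : ((w : Perm α))⁻¹ * ((w : Perm α) * v * (w : Perm α)⁻¹) * ((w : Perm α))⁻¹⁻¹ ∈ zpowers g := h3
        simpa [mul_assoc] using h4
    have hfacH : (Nat.card H).factorization p = 1 := by
      refine le_antisymm ?_ (hpp.factorization_pos_of_dvd Nat.card_pos.ne' ?_)
      · by_contra h
        exact hfact ((pow_dvd_pow p (by omega : 2 ≤ (Nat.card H).factorization p)).trans (Nat.ordProj_dvd _ _))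
      · exact hord ▸ Subgroup.orderOf_dvd_natCard H hgH
    let S : Sylow p H := Sylow.ofCard P (by rw [hfacH, pow_one, hPcard])
    haveI : IsCyclic P := isCyclic_of_prime_card hPcard
    have hburn : normalizer ((S : Subgroup H) : Set H) ≤ centralizer ((S : Subgroup H) : Set H) := by
      show normalizer (P : Set H) ≤ centralizer (P : Set H)
      rw [hNH]
      intro u hu
      refine mem_centralizer_iff.mpr fun v hv => ?_
      exact congrArg Subtype.val ((IsCyclic.commGroup (α := P)).mul_comm ⟨v, hv⟩ ⟨u, hu⟩)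
    set K := (MonoidHom.transferSylow S hburn).ker
    haveI : K.Normal := MonoidHom.normal_ker _
    have hcompl := MonoidHom.ker_transferSylow_isComplement' S hburn
    have hKp : ¬ p ∣ Nat.card K := fun h => by
      have h1 := hcompl.card_mul
      have h2 : Nat.card (S : Subgroup H) = p := hPcard
      rw [h2] at h1
      exact hfact (by rw [← h1, pow_two]; exact Nat.mul_dvd_mul h dvd_rfl)
    -- `K` fixes every point
    have hKtriv : K = ⊥ := by
      rw [eq_bot_iff]
      intro k hk
      rw [Subgroup.mem_bot]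
      refine Subtype.ext (Equiv.ext fun v => ?_)
      show (k : Perm α) v = v
      by_cases hv : g v = v
      · rcases hfixed v hv with rfl | rfl
        · exact ((memH _).1 k.2).2.1
        · exact ((memH _).1 k.2).2.2
      by_contra hkv
      -- the `K`-orbit of `v` is a block of size dividing `p`
      have hsame : ∀ w, g w ≠ w → Nat.card (MulAction.orbit K w) = Nat.card (MulAction.orbit K v) := by
        intro w hw
        obtain ⟨i, hi⟩ := hd hw
        obtain ⟨j, hj⟩ := hd hv
        let z : H := ⟨g, hgH⟩ ^ (i - j)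
        have hz : (z : Perm α) v = w := by
          rw [SubgroupClass.coe_zpow, ← hj, ← Equiv.Perm.mul_apply, ← zpow_add, sub_add_cancel, hi]
        refine (Nat.card_congr ((z : Perm α).subtypeEquiv fun u => ?_)).symm
        constructor
        · rintro ⟨k', rfl⟩
          refine ⟨⟨z * k' * z⁻¹, ‹K.Normal›.conj_mem _ k'.2 z⟩, ?_⟩
          show (z : Perm α) (((k' : H) : Perm α) ((z : Perm α)⁻¹ w)) = (z : Perm α) (((k' : H) : Perm α) v)
          rw [show (z : Perm α)⁻¹ w = v from (Equiv.symm_apply_eq _).2 hz.symm]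
        · rintro ⟨k', hk'⟩
          refine ⟨⟨z⁻¹ * k' * z⁻¹⁻¹, ‹K.Normal›.conj_mem _ k'.2 z⁻¹⟩, (z : Perm α).injective ?_⟩
          show (z : Perm α) (((z⁻¹ * k' * z⁻¹⁻¹ : H) : Perm α) v) = (z : Perm α) u
          rw [← hk', inv_inv]
          show (z : Perm α) ((z : Perm α)⁻¹ (((k' : H) : Perm α) ((z : Perm α) v))) = _
          rw [show ∀ t, (z : Perm α) ((z : Perm α)⁻¹ t) = t from Equiv.apply_symm_apply _, hz]; rfl
      have hdv : Nat.card (MulAction.orbit K v) ∣ p := by
        have hstab : ∀ w ∈ g.support, ∀ u ∈ MulAction.orbit K w, u ∈ g.support := by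
          rintro w hw _ ⟨k', rfl⟩
          rw [Perm.mem_support] at hw ⊢
          intro hfx
          rcases hfixed _ hfx with he | he
          · exact hw (by
              have : w = a := ((k' : H) : Perm α).injective (he.trans ((memH _).1 (k' : H).2).2.1.symm)
              rw [this, hga])
          · exact hw (by
              have : w = b := ((k' : H) : Perm α).injective (he.trans ((memH _).1 (k' : H).2).2.2.symm)
              rw [this, hgb])
        classical
        let orb : α → Finset α := fun w => Finset.univ.filter fun u => u ∈ MulAction.orbit K w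
        have hsum : g.support.card = ∑ o ∈ g.support.image orb, (g.support.filter fun w => orb w = o).card :=
          Finset.card_eq_sum_card_fiberwise fun w hw => Finset.mem_image_of_mem orb hw
        have hfib : ∀ o ∈ g.support.image orb,
            (g.support.filter fun w => orb w = o).card = Nat.card (MulAction.orbit K v) := by
          intro o ho
          obtain ⟨w, hw, rfl⟩ := Finset.mem_image.mp ho
          rw [← hsame w (Perm.mem_support.mp hw), Nat.card_eq_fintype_card, ← Set.toFinset_card]
          congr 1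
          ext u
          simp only [Finset.mem_filter, Set.mem_toFinset]
          constructor
          · rintro ⟨-, he⟩
            have : u ∈ orb u := by simp [orb]
            rw [he] at this
            simpa [orb] using this
          · intro hu
            refine ⟨hstab w hw u hu, ?_⟩
            simp only [orb, MulAction.orbit_eq_iff.mpr hu]
        rw [Finset.sum_congr rfl hfib, Finset.sum_const, smul_eq_mul, hgp] at hsum
        exact ⟨_, hsum.trans (mul_comm _ _)⟩
      rcases (Nat.dvd_prime hpp).mp hdv with h1 | h1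
      · obtain ⟨hsub, -⟩ := Nat.card_eq_one_iff_unique.mp h1
        exact hkv (congrArg Subtype.val (hsub.elim ⟨(k : Perm α) v, ⟨⟨k, hk⟩, rfl⟩⟩ ⟨v, MulAction.mem_orbit_self v⟩))
      · refine hKp ?_
        rw [← h1, Nat.card_congr (MulAction.orbitEquivQuotientStabilizer K v)]
        exact Subgroup.card_quotient_dvd_card _
    have hHcard : Nat.card H = p := by
      have h1 := hcompl.card_mul
      rw [show (MonoidHom.transferSylow S hburn).ker = ⊥ from hKtriv, Subgroup.card_bot, one_mul] at h1
      rw [← h1]; exact hPcard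
    -- the stabiliser of `a`
    let X : Subgroup G := MulAction.stabilizer G a
    have hX : Nat.card X = p * (p + 1) := by
      haveI h1t : MulAction.IsPretransitive G α := hG.toIsPretransitive
      have hbX : Nat.card (MulAction.orbit X b) = p + 1 := by
        have he : MulAction.orbit X b = ({a} : Set α)ᶜ := by
          ext w
          simp only [Set.mem_compl_iff, Set.mem_singleton_iff]
          constructor
          · rintro ⟨⟨⟨k, hk⟩, hka⟩, rfl⟩ hfx
            exact hab ((k.injective ((show k a = a from hka).trans hfx.symm)))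
          · intro hwa
            obtain ⟨c, hc⟩ : ∃ c, c ∉ ({a, b, w} : Finset α) := by
              by_contra hno
              push Not at hno
              have := Finset.card_le_card (show (Finset.univ : Finset α) ⊆ {a, b, w} from fun c _ => hno c)
              have := this.trans Finset.card_le_three
              rw [Finset.card_univ, hn] at this
              omega
            simp only [Finset.mem_insert, Finset.mem_singleton, not_or] at hc
            obtain ⟨f, hf, hfe⟩ := hmove (k := 3) ⟨![a, b, c], fun i j => by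
              fin_cases i <;> fin_cases j <;> simp [hab, Ne.symm hab, hc.1, hc.2.1, Ne.symm hc.1, Ne.symm hc.2.1]⟩
              ⟨![a, w, c], fun i j => by
              fin_cases i <;> fin_cases j <;> simp [hwa, Ne.symm hwa, hc.1, hc.2.2, Ne.symm hc.1, Ne.symm hc.2.2]⟩ rfl
            exact ⟨⟨⟨f, hf⟩, hfe 0⟩, hfe 1⟩
        rw [he, Nat.card_coe_set_eq, Set.ncard_compl, Set.ncard_singleton, Nat.card_eq_fintype_card, hn]
        omega
      have hst : Nat.card (MulAction.stabilizer X b) = p := by
        rw [← hHcard]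
        refine Nat.card_congr
          { toFun := fun w => ⟨(((w : X) : G) : Perm α), (memH _).2 ⟨((w : X) : G).2, (w : X).2, w.2⟩⟩
            invFun := fun w => ⟨⟨⟨w, ((memH _).1 w.2).1⟩, ((memH _).1 w.2).2.1⟩, ((memH _).1 w.2).2.2⟩
            left_inv := fun _ => rfl
            right_inv := fun _ => rfl }
      have h1 := Nat.card_congr (MulAction.orbitEquivQuotientStabilizer X b)
      rw [hbX] at h1
      rw [Subgroup.card_eq_card_quotient_mul_card_subgroup (MulAction.stabilizer X b), ← h1, hst, mul_comm]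
    let gX : X := ⟨⟨g, hg⟩, hga⟩
    have hgX : orderOf gX = p := by rw [← Subgroup.orderOf_coe, ← Subgroup.orderOf_coe]; exact hord
    refine no_sharp hp hX (zpowers gX) (by rw [Nat.card_zpowers, hgX]) (le_antisymm (fun w hw => ?_) le_normalizer)
    have h1 := (Subgroup.mem_normalizer_iff''.mp hw gX).mp (mem_zpowers gX)
    obtain ⟨i, hi⟩ := h1
    have hi' : (g ^ i : Perm α) = (((w : G) : Perm α))⁻¹ * g * ((w : G) : Perm α) := congrArg (fun y : X => ((y : G) : Perm α)) hi
    have hwb : ((w : G) : Perm α) b = b := by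
      have e2 := DFunLike.congr_fun hi' b
      rw [Equiv.Perm.zpow_apply_eq_self_of_apply_eq_self hgb] at e2
      have e3 := congrArg ((w : G) : Perm α) e2
      simp only [Equiv.Perm.mul_apply] at e3
      rw [show ∀ t, ((w : G) : Perm α) (((w : G) : Perm α)⁻¹ t) = t from Equiv.apply_symm_apply _] at e3
      rcases hfixed _ e3.symm with h | h
      · exact absurd (((w : G) : Perm α).injective (h.trans (show ((w : G) : Perm α) a = a from w.2).symm)) (Ne.symm hab)
      · exact h
    have hwH : ((w : G) : Perm α) ∈ H := (memH _).2 ⟨(w : G).2, w.2, hwb⟩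
    have hwN : ((w : G) : Perm α) ∈ normalizer ((zpowers g : Subgroup (Perm α)) : Set (Perm α)) := by
      rw [Subgroup.mem_normalizer_iff]
      intro v
      constructor
      · rintro ⟨j, rfl⟩
        obtain ⟨k, hk⟩ := (Subgroup.mem_normalizer_iff.mp hw (gX ^ j)).mp ⟨j, rfl⟩
        exact ⟨k, congrArg (fun y : X => ((y : G) : Perm α)) hk⟩
      · rintro ⟨j, hj⟩
        obtain ⟨k, hk⟩ := (Subgroup.mem_normalizer_iff''.mp hw (gX ^ j)).mp ⟨j, rfl⟩
        refine ⟨k, ?_⟩
        have hk' : (g ^ k : Perm α) = ((w : G) : Perm α)⁻¹ * g ^ j * ((w : G) : Perm α) :=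
          congrArg (fun y : X => ((y : G) : Perm α)) hk
        show g ^ k = v
        rw [hk', show g ^ j = ((w : G) : Perm α) * v * ((w : G) : Perm α)⁻¹ from hj]
        group
    obtain ⟨j, hj⟩ : ((w : G) : Perm α) ∈ zpowers g := by
      by_contra hwn; exact hr _ hwH hwn hwN
    exact ⟨j, Subtype.ext (Subtype.ext hj)⟩
  -- an element normalising `⟨g⟩`
  obtain ⟨w0, hw0, hw0n, hw0N⟩ := hr
  let e : ℕ := if p = 5 then 2 else 5
  obtain ⟨r, hrH, s, hs, hrs, hrn, hrN⟩ : ∃ r ∈ H, ∃ s : ℕ, s.Prime ∧ orderOf r = s ∧ r ∉ zpowers g ∧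
      r ∈ normalizer ((zpowers g : Subgroup (Perm α)) : Set (Perm α)) := by
    set N := H ⊓ normalizer ((zpowers g : Subgroup (Perm α)) : Set (Perm α))
    have hPN : zpowers g ≤ N := le_inf hPle le_normalizer
    have hlt : zpowers g < N := lt_of_le_of_ne hPN fun h => hw0n (h ▸ ⟨hw0, hw0N⟩)
    have hne : (zpowers g).relIndex N ≠ 1 := fun h => hlt.not_ge (relIndex_eq_one.mp h)
    obtain ⟨s, hs, hsd⟩ := Nat.exists_prime_and_dvd hne
    haveI := Fact.mk hs
    obtain ⟨r, hr⟩ := exists_prime_orderOf_dvd_card' s (hsd.trans (Subgroup.index_dvd_card ((zpowers g).subgroupOf N)))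
    refine ⟨r, r.2.1, s, hs, by rw [Subgroup.orderOf_coe, hr], fun hmem => ?_, r.2.2⟩
    have h1 : s = p := by
      have := orderOf_dvd_natCard (⟨(r : Perm α), hmem⟩ : zpowers g)
      rw [Subgroup.orderOf_mk, Subgroup.orderOf_coe, hr, Nat.card_zpowers, hord] at this
      exact (Nat.prime_dvd_prime_iff_eq hs hpp).mp this
    apply hfact
    have h2 := Subgroup.card_mul_index ((zpowers g).subgroupOf N)
    rw [Nat.card_congr (subgroupOfEquivOfLe hPN).toEquiv, Nat.card_zpowers, hord] at h2
    refine dvd_trans ?_ (card_dvd_of_le (inf_le_left : N ≤ H))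
    rw [← h2, pow_two]
    exact Nat.mul_dvd_mul_left p (h1 ▸ hsd)
  obtain ⟨hrG, hra, hrb⟩ := (memH r).1 hrH
  obtain ⟨j, hj⟩ : r * g * r⁻¹ ∈ zpowers g := (Subgroup.mem_normalizer_iff.mp hrN g).mp (mem_zpowers g)
  have hjr : ∀ k : ℤ, r * g ^ k * r⁻¹ = g ^ (j * k) := fun k => by
    rw [← MulAut.conj_apply, map_zpow, MulAut.conj_apply, ← hj, zpow_mul]
  have hj1 : ¬ (p : ℤ) ∣ j - 1 := fun hdv => hrn (hcent r hrH (by
    have : g ^ j = g := by
      rw [← zpow_one g, ← zpow_mul, one_mul, zpow_eq_zpow_iff_modEq, hord]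
      exact (Int.modEq_iff_dvd.mpr hdv).symm
    show r * g = g * r
    exact mul_inv_eq_iff_eq_mul.mp (hj.symm.trans this)))
  have hjs : (p : ℤ) ∣ j ^ s - 1 := by
    have hpow : ∀ t : ℕ, r ^ t * g * (r ^ t)⁻¹ = g ^ (j ^ t) := by
      intro t
      induction t with
      | zero => simp
      | succ t ih =>
        rw [pow_succ', show r * r ^ t * g * (r * r ^ t)⁻¹ = r * (r ^ t * g * (r ^ t)⁻¹) * r⁻¹ by group, ih, hjr,
          pow_succ']
    have h := hpow s
    rw [← hrs, pow_orderOf_eq_one, inv_one, mul_one, one_mul, hrs] at h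
    have h2 : g ^ (1 : ℤ) = g ^ (j ^ s) := by rw [zpow_one]; exact h
    rw [zpow_eq_zpow_iff_modEq, hord] at h2
    exact Int.modEq_iff_dvd.mp h2
  have hsdvd : s ∣ p - 1 := by
    have hj0 : (j : ZMod p) ≠ 0 := fun h => by
      have h2 : ((j ^ s - 1 : ℤ) : ZMod p) = 0 := (ZMod.intCast_zmod_eq_zero_iff_dvd _ _).mpr hjs
      push_cast at h2
      rw [h, zero_pow hs.ne_zero] at h2
      simp at h2
    let u : (ZMod p)ˣ := Units.mk0 (j : ZMod p) hj0
    haveI := Fact.mk hs
    have hu : orderOf u = s := by
      refine orderOf_eq_prime (Units.ext ?_) fun h => hj1 ?_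
      · have h2 : ((j ^ s - 1 : ℤ) : ZMod p) = 0 := (ZMod.intCast_zmod_eq_zero_iff_dvd _ _).mpr hjs
        push_cast at h2
        simpa [u, sub_eq_zero] using h2
      · rw [← ZMod.intCast_zmod_eq_zero_iff_dvd]
        have h2 : (j : ZMod p) = 1 := congrArg Units.val h
        push_cast
        rw [h2, sub_self]
    rw [← hu, ← ZMod.card_units p]
    exact orderOf_dvd_card
  -- fixed points of `r` in the cycle
  have hzuniq : ∀ z z', g z ≠ z → g z' ≠ z' → r z = z → r z' = z' → z = z' := by
    intro z z' hz hz' h1 h2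
    obtain ⟨l, hl⟩ := (hgc.sameCycle hz hz')
    have e1 : (g ^ (j * l)) z = z' := by
      rw [← hjr, Equiv.Perm.mul_apply, Equiv.Perm.mul_apply,
        (Equiv.symm_apply_eq r).2 h1.symm |> fun h => (show r⁻¹ z = z from h), hl, h2]
    have e2 : (g ^ ((j - 1) * l)) z = z := by
      have : g ^ ((j - 1) * l) = (g ^ l)⁻¹ * g ^ (j * l) := by rw [← zpow_neg, ← zpow_add]; congr 1; ring
      rw [this, Equiv.Perm.mul_apply, e1, ← hl]
      exact Equiv.symm_apply_apply _ _
    have e3 : g ^ ((j - 1) * l) = 1 := Equiv.ext fun v => by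
      by_cases hv : g v = v
      · exact Equiv.Perm.zpow_apply_eq_self_of_apply_eq_self hv _
      obtain ⟨t, rfl⟩ := hgc.sameCycle hz hv
      rw [← Equiv.Perm.mul_apply, ← zpow_add, add_comm, zpow_add, Equiv.Perm.mul_apply, e2, Perm.one_apply]
    rw [← orderOf_dvd_iff_zpow_eq_one, hord] at e3
    rcases (Nat.prime_iff_prime_int.mp hpp).dvd_or_dvd e3 with h | h
    · exact absurd h hj1
    · rw [← hl]
      have : g ^ l = 1 := orderOf_dvd_iff_zpow_eq_one.mp (hord ▸ h)
      rw [this, Perm.one_apply]
  have hs2 : (p = 5 ∧ s = 2) ∨ (p = 11 ∧ (s = 2 ∨ s = 5)) := by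
    rcases hp with rfl | rfl
    · refine Or.inl ⟨rfl, ?_⟩
      have := Nat.le_of_dvd (by norm_num) hsdvd
      interval_cases s <;> first | omega | (revert hs hsdvd; norm_num)
    · refine Or.inr ⟨rfl, ?_⟩
      have := Nat.le_of_dvd (by norm_num) hsdvd
      interval_cases s <;> first | omega | (revert hs hsdvd; norm_num)
  obtain ⟨n', hn'⟩ := cycleType_prime_order (hrs ▸ hs : (orderOf r).Prime)
  rw [hrs] at hn'
  have hsum : r.support.card = (n' + 1) * s := by
    rw [← sum_cycleType, hn', Multiset.sum_replicate, smul_eq_mul]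
  have hlo : p - 1 ≤ r.support.card := by
    have hfx : ((g.support).filter fun z => r z = z).card ≤ 1 := by
      rw [Finset.card_le_one]
      intro z hz z' hz'
      simp only [Finset.mem_filter, Perm.mem_support] at hz hz'
      exact hzuniq z z' hz.1 hz'.1 hz.2 hz'.2
    have hsub : (g.support).filter (fun z => ¬ r z = z) ⊆ r.support := fun z hz =>
      Perm.mem_support.mpr (Finset.mem_filter.mp hz).2
    have h3 := Finset.card_le_card hsub
    have h4 := Finset.card_filter_add_card_filter_not (s := g.support) (p := fun z => r z = z)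
    rw [hgp] at h4
    omega
  have hhi : r.support.card ≤ p := by
    refine (Finset.card_le_card fun z hz => ?_).trans hgp.le
    rw [Perm.mem_support] at hz ⊢
    intro h
    rcases hfixed z h with rfl | rfl
    · exact hz hra
    · exact hz hrb
  obtain ⟨hn1, hs25⟩ : n' + 1 = 2 ∧ (p = 5 ∧ s = 2 ∨ p = 11 ∧ s = 5) := by
    rcases hs2 with ⟨rfl, rfl⟩ | ⟨rfl, rfl | rfl⟩
    · exact ⟨by omega, Or.inl ⟨rfl, rfl⟩⟩
    · have : n' + 1 = 5 := by omega
      exact absurd (hn'.trans (by rw [this])) (not_isSwap_of_even hev hrG (k := 5) ⟨2, rfl⟩)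
    · exact ⟨by omega, Or.inr ⟨rfl, rfl⟩⟩
  rw [hn1] at hn' hsum
  have hsp : p = 2 * s + 1 := by rcases hs25 with ⟨rfl, rfl⟩ | ⟨rfl, rfl⟩ <;> norm_num
  obtain ⟨z, hzg, hzr⟩ : ∃ z, g z ≠ z ∧ r z = z := by
    by_contra hno
    push Not at hno
    have := Finset.card_le_card (show g.support ⊆ r.support from fun z hz =>
      Perm.mem_support.mpr (hno z (Perm.mem_support.mp hz)))
    omega
  -- the fixed set of `r`
  let F : Set α := {a, b, z}
  have hza : z ≠ a := fun h => hzg (h ▸ hga)
  have hzb : z ≠ b := fun h => hzg (h ▸ hgb)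
  have hF : ∀ v, r v = v ↔ v ∈ F := by
    intro v
    constructor
    · intro hv
      by_cases hgv : g v = v
      · rcases hfixed v hgv with rfl | rfl <;> simp [F]
      · rw [hzuniq v z hgv hzg hv hzr]; simp [F]
    · rintro (rfl | rfl | rfl) <;> assumption
  let M : Subgroup (Perm α) := G ⊓ fixingSubgroup (Perm α) F
  have memM : ∀ w, w ∈ M ↔ w ∈ G ∧ ∀ v ∈ F, w v = v := fun w => by
    simp only [M, Subgroup.mem_inf, mem_fixingSubgroup_iff, Perm.smul_def]
  haveI := Fact.mk hs
  have hrM : r ∈ M := (memM r).2 ⟨hrG, fun v hv => (hF v).2 hv⟩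
  by_cases hbig : s ^ 2 ∣ Nat.card M
  · rcases hs25 with ⟨rfl, rfl⟩ | ⟨rfl, rfl⟩
    · -- degree seven: the index is at most three
      haveI : Nontrivial α := Fintype.one_lt_card_iff_nontrivial.mp (by omega)
      haveI : IsSimpleGroup (alternatingGroup α) :=
        alternatingGroup.isSimpleGroup (by rw [Nat.card_eq_fintype_card, hn]; norm_num)
      set G' := G.subgroupOf (alternatingGroup α)
      have htri : 210 * Nat.card M ∣ Nat.card G := by
        let e0 : Fin 3 ↪ α := ⟨![a, b, z], fun i j => by
          fin_cases i <;> fin_cases j <;> simp [hab, Ne.symm hab, hza, hzb, Ne.symm hza, Ne.symm hzb]⟩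
        have horb : Nat.card (MulAction.orbit G e0) = 210 := by
          have hu : MulAction.orbit G e0 = Set.univ := Set.eq_univ_of_forall fun e1 => by
            obtain ⟨f, hf⟩ := htrans e0 e1
            exact ⟨f, hf⟩
          rw [hu, Nat.card_congr (Equiv.Set.univ _), Nat.card_eq_fintype_card, Fintype.card_embedding_eq,
            Fintype.card_fin, hn]
          rfl
        have hst : Nat.card (MulAction.stabilizer G e0) = Nat.card M := Nat.card_congr
          { toFun := fun w => ⟨((w : G) : Perm α), (memM _).2 ⟨(w : G).2, by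
              rintro v (rfl | rfl | rfl)
              · exact DFunLike.congr_fun w.2 0
              · exact DFunLike.congr_fun w.2 1
              · exact DFunLike.congr_fun w.2 2⟩⟩
            invFun := fun w => ⟨⟨w, ((memM _).1 w.2).1⟩, Function.Embedding.ext fun i => by
              fin_cases i
              · exact ((memM _).1 w.2).2 a (by simp [F])
              · exact ((memM _).1 w.2).2 b (by simp [F])
              · exact ((memM _).1 w.2).2 z (by simp [F])⟩
            left_inv := fun _ => rfl
            right_inv := fun _ => rfl }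
        refine dvd_of_eq ?_
        rw [← horb, ← hst, Subgroup.card_eq_card_quotient_mul_card_subgroup (MulAction.stabilizer G e0)]
        congr 1
        exact Nat.card_congr (MulAction.orbitEquivQuotientStabilizer G e0)
      have hA : Nat.card (alternatingGroup α) = 2520 := by
        rw [nat_card_alternatingGroup, Nat.card_eq_fintype_card, hn]; rfl
      have hG' : Nat.card G' = Nat.card G := Nat.card_congr (subgroupOfEquivOfLe hev).toEquiv
      have hidx := G'.card_mul_index
      rw [hA, hG'] at hidx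
      have hle : G'.index ≤ 3 := by
        have h840 : 840 ≤ Nat.card G :=
          Nat.le_of_dvd Nat.card_pos ((Nat.mul_dvd_mul_left 210 (by simpa using hbig)).trans htri)
        by_contra hgt
        have := Nat.mul_le_mul h840 (show 4 ≤ G'.index by omega)
        omega
      have htop : G' = ⊤ := index_le_one_of_simple G' fun hdv => by
        have h6 : G'.index.factorial ∣ 6 := Nat.factorial_dvd_factorial hle
        have := Nat.le_of_dvd (by norm_num) (hdv.trans h6)
        rw [hA] at this
        omega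
      exact subgroupOf_eq_top.mp htop
    · -- a five-cycle in `G`
      haveI : Fact (Nat.Prime 5) := ⟨by norm_num⟩
      obtain ⟨E, hE⟩ := Sylow.exists_subgroup_card_pow_prime 5 hbig
      let E' := E.map M.subtype
      have hE' : Nat.card E' = 5 ^ 2 := by rw [card_map_of_injective M.subtype_injective, hE]
      have hE'M : E' ≤ M := map_subtype_le _
      by_cases hex : ∃ c ∈ E', c.IsCycle ∧ c.support.card = 5
      · obtain ⟨c, hc, hc1, hc2⟩ := hex
        exact S0713.result G hG (p := 5) (by norm_num) (by omega) (by omega) hc1 hc2 ((memM c).1 (hE'M hc)).1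
      · -- every nontrivial element of `E'` would be fixed-point-free on the ten moved points
        exfalso
        push Not at hex
        have hcyc : ∀ c ∈ E', c ≠ 1 → ∀ v, c v = v → v ∈ F := by
          intro c hc hc1 v hv
          by_contra hvF
          obtain ⟨k, hk⟩ : ∃ k, orderOf c = 5 ^ k := by
            obtain ⟨k, -, hk⟩ := (Nat.dvd_prime_pow (by norm_num : Nat.Prime 5)).mp (hE' ▸ Subgroup.orderOf_dvd_natCard E' hc)
            exact ⟨k, hk⟩
          have hsub : c.support ⊆ (Finset.univ : Finset α) \ {a, b, z, v} := fun u hu => by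
            rw [Perm.mem_support] at hu
            simp only [Finset.mem_sdiff, Finset.mem_univ, true_and, Finset.mem_insert, Finset.mem_singleton]
            rintro (rfl | rfl | rfl | rfl)
            · exact hu (((memM c).1 (hE'M hc)).2 _ (by simp [F]))
            · exact hu (((memM c).1 (hE'M hc)).2 _ (by simp [F]))
            · exact hu (((memM c).1 (hE'M hc)).2 _ (by simp [F]))
            · exact hu hv
          have hcard4 : ({a, b, z, v} : Finset α).card = 4 := by
            have hva : v ≠ a := fun h => hvF (by simp [F, h])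
            have hvb : v ≠ b := fun h => hvF (by simp [F, h])
            have hvz : v ≠ z := fun h => hvF (by simp [F, h])
            simp [hab, Ne.symm hza, Ne.symm hzb, Ne.symm hva, Ne.symm hvb, Ne.symm hvz]
          have h9 := Finset.card_le_card hsub
          rw [Finset.card_sdiff_of_subset (Finset.subset_univ _), Finset.card_univ, hn, hcard4] at h9
          have hall : ∀ m ∈ c.cycleType, m = 5 := fun m hm => by
            have h1 : m ∣ 5 ^ k := hk ▸ dvd_of_mem_cycleType hm
            have h2 : m ≤ c.support.card := sum_cycleType c ▸ Multiset.le_sum_of_mem hm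
            obtain ⟨i, -, rfl⟩ := (Nat.dvd_prime_pow (by norm_num : Nat.Prime 5)).mp h1
            rcases i with _ | _ | i
            · exact absurd (two_le_of_mem_cycleType hm) (by norm_num)
            · rfl
            · have : 5 ^ 2 ≤ 5 ^ (i + 1 + 1) := Nat.pow_le_pow_right (by norm_num) (by omega)
              omega
          have hrep := Multiset.eq_replicate_card.mpr hall
          have hsumc : c.support.card = c.cycleType.card * 5 := by
            conv_lhs => rw [← sum_cycleType, hrep]
            rw [Multiset.sum_replicate, smul_eq_mul]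
          have hne0 : c.cycleType.card ≠ 0 := fun h => hc1 (card_cycleType_eq_zero.mp h)
          have hone : c.cycleType.card = 1 := by omega
          exact hex c hc (card_cycleType_eq_one.mp hone) (by rw [hsumc, hone])
        -- so `E'` embeds in the ten moved points
        let X := {v : α // v ∉ F}
        have hXc : Nat.card X ≤ 13 := by
          refine (Nat.card_le_card_of_injective _ Subtype.val_injective).trans ?_
          rw [Nat.card_eq_fintype_card, hn]
        obtain ⟨v0, hv0⟩ : ∃ v0, v0 ∉ F := ⟨(g ^ (1 : ℤ)) z, fun h => by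
          rw [zpow_one] at h
          rcases h with h | h | h
          · exact hza (g.injective (h.trans hga.symm))
          · exact hzb (g.injective (h.trans hgb.symm))
          · exact hzg h⟩
        let f : E' → X := fun c => ⟨(c : Perm α) v0, fun h => hv0 (by
          have : (c : Perm α) v0 = v0 :=
            (c : Perm α).injective (((memM _).1 (hE'M c.2)).2 _ h)
          rwa [this] at h)⟩
        have hf : Function.Injective f := fun c d hcd => by
          by_contra hne
          have h1 : ((c : Perm α)⁻¹ * d) v0 = v0 := by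
            rw [Equiv.Perm.mul_apply, show (d : Perm α) v0 = (c : Perm α) v0 from (congrArg Subtype.val hcd).symm]
            exact Equiv.symm_apply_apply _ _
          refine hv0 (hcyc _ (mul_mem (inv_mem c.2) d.2) (fun he => hne (Subtype.ext ?_)) v0 h1)
          exact (inv_mul_eq_one.mp he)
        have := Nat.card_le_card_of_injective f hf
        omega
  -- `⟨r⟩` is a Sylow subgroup of the fixer of `F`
  have hfacM : (Nat.card M).factorization s = 1 := by
    refine le_antisymm ?_ (hs.factorization_pos_of_dvd Nat.card_pos.ne' (hrs ▸ Subgroup.orderOf_dvd_natCard M hrM))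
    by_contra h
    exact hbig ((pow_dvd_pow s (by omega : 2 ≤ (Nat.card M).factorization s)).trans (Nat.ordProj_dvd _ _))
  have hsyl : ∀ w : M, orderOf w = s → ∃ S : Sylow s M, zpowers w = S := fun w hw =>
    ⟨Sylow.ofCard (zpowers w) (by rw [Nat.card_zpowers, hw, hfacM, pow_one]), rfl⟩
  have hext : ∀ σ : Perm α, (∀ x, σ x ∈ F ↔ x ∈ F) →
      ∃ f ∈ G, (∀ x ∈ F, f x = σ x) ∧ f * r * f⁻¹ ∈ zpowers r := by
    intro σ hσ
    let e0 : Fin 3 ↪ α := ⟨![a, b, z], fun i j => by
      fin_cases i <;> fin_cases j <;> simp [hab, Ne.symm hab, hza, hzb, Ne.symm hza, Ne.symm hzb]⟩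
    obtain ⟨f, hf, hfe⟩ := hmove (k := 3) e0 (e0.trans σ.toEmbedding) rfl
    have hfσ : ∀ x ∈ F, f x = σ x := by
      rintro x (rfl | rfl | rfl)
      · exact hfe 0
      · exact hfe 1
      · exact hfe 2
    have hzM : f * r * f⁻¹ ∈ M := by
      refine (memM _).2 ⟨mul_mem (mul_mem hf hrG) (inv_mem hf), fun x hx => ?_⟩
      have hx' : σ.symm x ∈ F := (hσ _).1 (by rwa [Equiv.apply_symm_apply])
      have hfx : f (σ.symm x) = x := by rw [hfσ _ hx', Equiv.apply_symm_apply]
      have hfx' : f⁻¹ x = σ.symm x := (Equiv.symm_apply_eq f).2 hfx.symm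
      show f (r (f⁻¹ x)) = x
      rw [hfx', (hF _).2 hx', hfx]
    have hordz : orderOf (f * r * f⁻¹) = s := by rw [← MulAut.conj_apply, MulEquiv.orderOf_eq, hrs]
    obtain ⟨S, hS⟩ := hsyl ⟨r, hrM⟩ (by rw [Subgroup.orderOf_mk, hrs])
    obtain ⟨T, hT⟩ := hsyl ⟨_, hzM⟩ (by rw [Subgroup.orderOf_mk, hordz])
    obtain ⟨h, hh⟩ := MulAction.exists_smul_eq M T S
    refine ⟨(h : Perm α) * f, mul_mem ((memM _).1 h.2).1 hf, fun x hx => ?_, ?_⟩
    · show (h : Perm α) (f x) = σ x
      rw [hfσ x hx]
      exact ((memM _).1 h.2).2 _ ((hσ x).2 hx)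
    · have h1 : (h * ⟨_, hzM⟩ * h⁻¹ : M) ∈ ((h • T : Sylow s M) : Subgroup M) :=
        ⟨⟨_, hzM⟩, hT ▸ mem_zpowers _, rfl⟩
      rw [hh, ← hS] at h1
      obtain ⟨i, hi⟩ := h1
      refine ⟨i, ?_⟩
      have := congrArg (fun y : M => (y : Perm α)) hi
      simp only [Subgroup.coe_mul, Subgroup.coe_inv, SubgroupClass.coe_zpow] at this
      simpa [mul_assoc] using this
  have hswap : ∀ u v, u ∈ F → v ∈ F → ∀ w, Equiv.swap u v w ∈ F ↔ w ∈ F := by
    intro u v hu hv w
    rw [Equiv.swap_apply_def]
    split_ifs with h1 h2 <;> simp_all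
  have haF : a ∈ F := by simp [F]
  have hbF : b ∈ F := by simp [F]
  have hzF : z ∈ F := by simp [F]
  obtain ⟨f1, hf1, hf1σ, i1, hi⟩ := hext (Equiv.swap b a) (hswap b a hbF haF)
  obtain ⟨f2, hf2, hf2σ, i2, hi2⟩ := hext (Equiv.swap b z) (hswap b z hbF hzF)
  have hc1 : ∀ n : ℤ, f1 * r ^ n * f1⁻¹ = r ^ (i1 * n) := fun n => by
    rw [← MulAut.conj_apply, map_zpow, MulAut.conj_apply, ← hi, zpow_mul]
  have hc2 : ∀ n : ℤ, f2 * r ^ n * f2⁻¹ = r ^ (i2 * n) := fun n => by
    rw [← MulAut.conj_apply, map_zpow, MulAut.conj_apply, ← hi2, zpow_mul]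
  set u := (f2 * f1)⁻¹ * (f1 * f2) with hu
  have huG : u ∈ G := mul_mem (inv_mem (mul_mem hf2 hf1)) (mul_mem hf1 hf2)
  have hcomm : Commute u r := by
    have e1 : (f1 * f2) * r * (f1 * f2)⁻¹ = r ^ (i1 * i2) := by
      rw [← hc1, show r ^ i2 = f2 * r * f2⁻¹ from hi2]; group
    have e2 : (f2 * f1) * r * (f2 * f1)⁻¹ = r ^ (i2 * i1) := by
      rw [← hc2, show r ^ i1 = f1 * r * f1⁻¹ from hi]; group
    show u * r = r * u
    calc u * r = (f2 * f1)⁻¹ * ((f1 * f2) * r * (f1 * f2)⁻¹) * (f1 * f2) := by rw [hu]; group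
      _ = (f2 * f1)⁻¹ * ((f2 * f1) * r * (f2 * f1)⁻¹) * (f1 * f2) := by rw [e1, e2, mul_comm i1 i2]
      _ = r * u := by rw [hu]; group
  let τ : Perm α := (Equiv.swap b a * Equiv.swap b z) * (Equiv.swap b a * Equiv.swap b z)
  have hτ : τ.IsThreeCycle := (isThreeCycle_swap_mul_swap_same (Ne.symm hab) (Ne.symm hzb) (Ne.symm hza)).isThreeCycle_sq
  have hτF : ∀ w ∈ F, τ w ∈ F := fun w hw => by
    simp only [τ, Equiv.Perm.mul_apply]
    exact (hswap b a hbF haF _).2 ((hswap b z hbF hzF _).2 ((hswap b a hbF haF _).2 ((hswap b z hbF hzF _).2 hw)))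
  have huF : ∀ w ∈ F, u w = τ w := by
    intro w hw
    have a2 : f1 (f2 w) = Equiv.swap b a (Equiv.swap b z w) := by
      rw [hf2σ w hw, hf1σ _ ((hswap b z hbF hzF w).2 hw)]
    show (f2 * f1)⁻¹ ((f1 * f2) w) = τ w
    refine (Equiv.symm_apply_eq (f2 * f1)).2 ?_
    show f1 (f2 w) = f2 (f1 (τ w))
    rw [a2, hf1σ _ (hτF w hw), hf2σ _ ((hswap b a hbF haF _).2 (hτF w hw))]
    simp [τ]
  have hτsupp : ∀ w, w ∉ F → τ w = w := fun w hw => by
    simp only [F, Set.mem_insert_iff, Set.mem_singleton_iff, not_or] at hw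
    simp [τ, Equiv.swap_apply_of_ne_of_ne, hw.1, hw.2.1, hw.2.2]
  have h3 : 3 ∣ orderOf u := by
    rw [← hτ.orderOf]
    refine orderOf_dvd_of_pow_eq_one (Equiv.ext fun w => ?_)
    by_cases hw : w ∈ F
    · have : ∀ t : ℕ, (τ ^ t) w = (u ^ t) w ∧ (τ ^ t) w ∈ F := by
        intro t
        induction t with
        | zero => exact ⟨rfl, hw⟩
        | succ t ih =>
          rw [pow_succ', pow_succ']
          show τ ((τ ^ t) w) = u ((u ^ t) w) ∧ τ ((τ ^ t) w) ∈ F
          exact ⟨by rw [← huF _ ih.2, ih.1], hτF _ ih.2⟩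
      rw [(this _).1, pow_orderOf_eq_one]
    · rw [Perm.one_apply]
      exact Function.IsFixedPt.perm_pow (hτsupp w hw) _
  have hτr : Commute τ r := by
    refine Equiv.Perm.Disjoint.commute fun w => ?_
    by_cases hw : w ∈ F
    · exact Or.inr ((hF w).2 hw)
    · exact Or.inl (hτsupp w hw)
  have hv : orderOf (u ^ (orderOf u / 3)) = 3 := orderOf_pow_orderOf_div (orderOf_pos u).ne' h3
  refine alternatingGroup_le_of_isPreprimitive_of_isThreeCycle_mem hG
    (isThreeCycle_of_centralizes (s := s) ?_ hn' (by omega) hv (hcomm.pow_left _) hτ hτr) (pow_mem huG _)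
  rcases hs25 with ⟨-, rfl⟩ | ⟨-, rfl⟩
  · exact Or.inl rfl
  · exact Or.inr rfl

end Cfsg.Agent.Perm
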